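import Mathlib.GroupTheory.PGroup
import Mathlib.GroupTheory.Nilpotent
import Mathlib.GroupTheory.Subgroup.Centralizer
import Mathlib.Algebra.BigOperators.Finprod
import Mathlib.Algebra.BigOperators.Group.Finset.Basic

/-!
# A sign-reversing involution on chains of `p`-subgroups that are normal in their top member
-/

set_option linter.style.haveILetI false

namespace Cfsg.Agent.BlockCover

open scoped Classical

variable {G : Type*} [Group G] {p : ℕ}

/-- The nonempty chains of nontrivial `p`-subgroups, all normal in the largest member. -/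
def IsTopNormalChain (p : ℕ) (s : Finset (Subgroup G)) : Prop :=
  s.Nonempty ∧ (∀ Q ∈ s, ∀ R ∈ s, Q ≤ R ∨ R ≤ Q) ∧ (∀ Q ∈ s, Q ≠ ⊥ ∧ IsPGroup p Q) ∧
    ∃ T ∈ s, ∀ Q ∈ s, Q ≤ T ∧ T ≤ Subgroup.normalizer ((Q : Subgroup G) : Set G)

/-- The stabiliser of a chain. -/
def chainNorm (s : Finset (Subgroup G)) : Subgroup G :=
  ⨅ Q ∈ s, Subgroup.normalizer ((Q : Subgroup G) : Set G)

theorem mem_chainNorm {s : Finset (Subgroup G)} {x : G} :
    x ∈ chainNorm s ↔ ∀ Q ∈ s, x ∈ Subgroup.normalizer ((Q : Subgroup G) : Set G) := by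
  simp [chainNorm, Subgroup.mem_iInf]

theorem chainNorm_insert (s : Finset (Subgroup G)) (R : Subgroup G) :
    chainNorm (insert R s) = Subgroup.normalizer (R : Set G) ⊓ chainNorm s := by
  ext x
  simp [mem_chainNorm]

/-- The conjugates of `v` under `T`. -/
def conjSet (T : Subgroup G) (v : G) : Set G := {x | ∃ t ∈ T, t * v * t⁻¹ = x}

/-- The subgroup toggled in the chain `s` for the element `v`. -/
noncomputable def toggleAt (v : G) (s : Finset (Subgroup G)) : Subgroup G :=
  (s.filter fun Q => v ∉ Q).sup id ⊔ Subgroup.closure (conjSet (s.sup id) v)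

theorem sup_eq_top_member {s : Finset (Subgroup G)} {T : Subgroup G} (hT : T ∈ s)
    (h : ∀ Q ∈ s, Q ≤ T) : s.sup id = T :=
  le_antisymm (Finset.sup_le h) (Finset.le_sup (f := id) hT)

theorem self_mem_closure_conjSet (T : Subgroup G) (v : G) :
    v ∈ Subgroup.closure (conjSet T v) :=
  Subgroup.subset_closure ⟨1, T.one_mem, by group⟩

theorem self_mem_toggleAt (v : G) (s : Finset (Subgroup G)) : v ∈ toggleAt v s :=
  Subgroup.mem_sup_right (self_mem_closure_conjSet _ v)

theorem normalizer_inf_le_sup (A B : Subgroup G) :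
    Subgroup.normalizer (A : Set G) ⊓ Subgroup.normalizer (B : Set G)
      ≤ Subgroup.normalizer ((A ⊔ B : Subgroup G) : Set G) := by
  intro x hx
  rw [Subgroup.mem_normalizer_iff_map_conj_eq, Subgroup.map_sup,
    Subgroup.mem_normalizer_iff_map_conj_eq.1 (Subgroup.mem_inf.1 hx).1,
    Subgroup.mem_normalizer_iff_map_conj_eq.1 (Subgroup.mem_inf.1 hx).2]

theorem chainNorm_le_normalizer_sup (t : Finset (Subgroup G)) :
    chainNorm t ≤ Subgroup.normalizer ((t.sup id : Subgroup G) : Set G) := by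
  induction t using Finset.induction_on with
  | empty => intro x _; rw [Finset.sup_empty, Subgroup.normalizer_eq_top]; trivial
  | insert a t _ ih =>
    rw [chainNorm_insert, Finset.sup_insert]
    exact (inf_le_inf le_rfl ih).trans (normalizer_inf_le_sup a _)

theorem chainNorm_anti {s t : Finset (Subgroup G)} (h : t ⊆ s) : chainNorm s ≤ chainNorm t :=
  fun _ hx => mem_chainNorm.2 fun Q hQ => mem_chainNorm.1 hx Q (h hQ)

theorem conjSet_conj {T : Subgroup G} {v c : G} (hc : c * v = v * c)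
    (hT : c ∈ Subgroup.normalizer (T : Set G)) :
    c ∈ Subgroup.normalizer ((Subgroup.closure (conjSet T v) : Subgroup G) : Set G) := by
  refine Subgroup.normalizer_le_normalizer_closure _ ?_
  rw [Subgroup.mem_normalizer_iff_conj_image_eq]
  ext x
  constructor
  · rintro ⟨y, ⟨t, ht, rfl⟩, rfl⟩
    refine ⟨c * t * c⁻¹, (Subgroup.mem_normalizer_iff.1 hT t).1 ht, ?_⟩
    rw [MulAut.conj_apply]
    have hvc : c⁻¹ * v * c = v := by
      rw [mul_assoc, ← hc, inv_mul_cancel_left]
    calc c * t * c⁻¹ * v * (c * t * c⁻¹)⁻¹ = c * (t * (c⁻¹ * v * c) * t⁻¹) * c⁻¹ := by group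
      _ = c * (t * v * t⁻¹) * c⁻¹ := by rw [hvc]
  · rintro ⟨t, ht, rfl⟩
    refine ⟨c⁻¹ * t * c * v * (c⁻¹ * t * c)⁻¹,
      ⟨c⁻¹ * t * c, (Subgroup.mem_normalizer_iff''.1 hT t).1 ht, rfl⟩, ?_⟩
    rw [MulAut.conj_apply]
    have hvc : c * v * c⁻¹ = v := by rw [hc, mul_inv_cancel_right]
    calc c * (c⁻¹ * t * c * v * (c⁻¹ * t * c)⁻¹) * c⁻¹ = t * (c * v * c⁻¹) * t⁻¹ := by group
      _ = t * v * t⁻¹ := by rw [hvc]

theorem le_normalizer_closure_conjSet (T : Subgroup G) (v : G) :
    T ≤ Subgroup.normalizer ((Subgroup.closure (conjSet T v) : Subgroup G) : Set G) := by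
  intro c hc
  refine Subgroup.normalizer_le_normalizer_closure _ ?_
  rw [Subgroup.mem_normalizer_iff_conj_image_eq]
  ext x
  constructor
  · rintro ⟨y, ⟨t, ht, rfl⟩, rfl⟩
    exact ⟨c * t, T.mul_mem hc ht, by rw [MulAut.conj_apply]; group⟩
  · rintro ⟨t, ht, rfl⟩
    exact ⟨c⁻¹ * t * v * (c⁻¹ * t)⁻¹, ⟨c⁻¹ * t, T.mul_mem (T.inv_mem hc) ht, rfl⟩,
      by rw [MulAut.conj_apply]; group⟩

theorem isPGroup_zpowers {v : G} (hv : ∃ k : ℕ, orderOf v = p ^ k) :
    IsPGroup p (Subgroup.zpowers v) := by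
  obtain ⟨k, hk⟩ := hv
  exact IsPGroup.of_card (n := k) (by rw [Nat.card_zpowers, hk])

/-- A finite `p`-group generated by a normal subgroup and the conjugates of `v` is generated by
the subgroup and `v`. -/
theorem le_sup_zpowers_of_le_closure_conjSet [Finite G] [Fact p.Prime] {R A : Subgroup G} {v : G}
    (hR : IsPGroup p R) (hAR : A ≤ R) (hv : v ∈ R)
    (hgen : R ≤ A ⊔ Subgroup.closure (conjSet R v)) : R ≤ A ⊔ Subgroup.zpowers v := by
  have hnc : NormalizerCondition R := by
    haveI := hR.isNilpotent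
    exact Group.normalizerCondition_of_isNilpotent
  rcases eq_top_or_exists_le_coatom ((A ⊔ Subgroup.zpowers v).subgroupOf R) with h | ⟨M, hM, hle⟩
  · exact Subgroup.subgroupOf_eq_top.1 h
  · exfalso
    have hMn : M.Normal := Subgroup.NormalizerCondition.normal_of_coatom M hnc hM
    refine hM.1 (eq_top_iff.2 fun x _ => ?_)
    have h1 : R ≤ M.map R.subtype := by
      refine hgen.trans (sup_le ?_ ((Subgroup.closure_le _).2 ?_))
      · intro a ha
        exact ⟨⟨a, hAR ha⟩, hle (Subgroup.mem_subgroupOf.2 (Subgroup.mem_sup_left ha)), rfl⟩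
      · rintro x ⟨t, ht, rfl⟩
        have hvM : (⟨v, hv⟩ : R) ∈ M :=
          hle (Subgroup.mem_subgroupOf.2 (Subgroup.mem_sup_right (Subgroup.mem_zpowers v)))
        exact ⟨⟨t, ht⟩ * ⟨v, hv⟩ * (⟨t, ht⟩)⁻¹, hMn.conj_mem _ hvM _, rfl⟩
    obtain ⟨y, hy, he⟩ := h1 x.2
    rwa [← Subtype.ext he]

section

variable {s : Finset (Subgroup G)} {v : G}

/-- The basic facts on the toggled subgroup. -/
theorem toggleAt_facts (hs : IsTopNormalChain p s) (hv : v ∈ chainNorm s)
    (hp : ∃ k : ℕ, orderOf v = p ^ k) (hv1 : v ≠ 1) :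
    toggleAt v s ≠ ⊥ ∧ IsPGroup p (toggleAt v s) ∧
      (∀ Q ∈ s, Q ≤ toggleAt v s ∨ toggleAt v s ≤ Q) ∧
      toggleAt v s ≤ chainNorm s ∧
      s.sup id ≤ Subgroup.normalizer (toggleAt v s : Set G) ∧
      chainNorm s ⊓ Subgroup.centralizer ({v} : Set G) ≤
        Subgroup.normalizer (toggleAt v s : Set G) := by
  obtain ⟨hne, hcmp, hp', T, hT, htop⟩ := hs
  have hsup : s.sup id = T := sup_eq_top_member hT fun Q hQ => (htop Q hQ).1
  have hTN : T ≤ chainNorm s := fun x hx => mem_chainNorm.2 fun Q hQ => (htop Q hQ).2 hx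
  have hA : (s.filter fun Q => v ∉ Q).sup id ≤ T :=
    Finset.sup_le fun Q hQ => (htop Q (Finset.mem_filter.1 hQ).1).1
  have hK : Subgroup.closure (conjSet T v) ≤ T ⊔ Subgroup.zpowers v := by
    rw [Subgroup.closure_le]
    rintro x ⟨t, ht, rfl⟩
    exact mul_mem (mul_mem (Subgroup.mem_sup_left ht)
      (Subgroup.mem_sup_right (Subgroup.mem_zpowers v))) (inv_mem (Subgroup.mem_sup_left ht))
  have hR : toggleAt v s ≤ T ⊔ Subgroup.zpowers v := by
    rw [toggleAt, hsup]
    exact sup_le (hA.trans le_sup_left) hK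
  refine ⟨fun h => ?_, ?_, fun Q hQ => ?_, ?_, ?_, ?_⟩
  · have := self_mem_toggleAt v s
    rw [h, Subgroup.mem_bot] at this
    exact hv1 this
  · refine IsPGroup.to_le ?_ hR
    exact (hp' T hT).2.to_sup_of_normal_left' (isPGroup_zpowers hp)
      (Subgroup.zpowers_le.2 (mem_chainNorm.1 hv T hT))
  · by_cases hvQ : v ∈ Q
    · right
      rw [toggleAt, hsup]
      refine sup_le (Finset.sup_le fun Q' hQ' => ?_) ((Subgroup.closure_le _).2 ?_)
      · rcases hcmp Q' (Finset.mem_filter.1 hQ').1 Q hQ with h | h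
        · exact h
        · exact absurd (h hvQ) (Finset.mem_filter.1 hQ').2
      · rintro x ⟨t, ht, rfl⟩
        exact (Subgroup.mem_normalizer_iff.1 ((htop Q hQ).2 ht) v).1 hvQ
    · left
      exact le_trans (Finset.le_sup (f := id) (Finset.mem_filter.2 ⟨hQ, hvQ⟩)) le_sup_left
  · exact hR.trans (sup_le hTN (Subgroup.zpowers_le.2 hv))
  · rw [toggleAt, hsup]
    refine le_trans (le_inf ?_ (le_normalizer_closure_conjSet T v)) (normalizer_inf_le_sup _ _)
    exact hTN.trans ((chainNorm_anti (Finset.filter_subset _ _)).trans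
      (chainNorm_le_normalizer_sup _))
  · rw [toggleAt, hsup]
    rintro c hc
    obtain ⟨hc1, hc2⟩ := Subgroup.mem_inf.1 hc
    refine normalizer_inf_le_sup _ _ (Subgroup.mem_inf.2 ⟨?_, ?_⟩)
    · exact chainNorm_le_normalizer_sup _ (chainNorm_anti (Finset.filter_subset _ _) hc1)
    · exact conjSet_conj (Subgroup.mem_centralizer_singleton_iff.1 hc2)
        (mem_chainNorm.1 hc1 T hT)

theorem isTopNormalChain_insert (hs : IsTopNormalChain p s) (hv : v ∈ chainNorm s)
    (hp : ∃ k : ℕ, orderOf v = p ^ k) (hv1 : v ≠ 1) :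
    IsTopNormalChain p (insert (toggleAt v s) s) ∧ v ∈ chainNorm (insert (toggleAt v s) s) ∧
      toggleAt v (insert (toggleAt v s) s) = toggleAt v s ∧
      chainNorm (insert (toggleAt v s) s) ⊓ Subgroup.centralizer ({v} : Set G) =
        chainNorm s ⊓ Subgroup.centralizer ({v} : Set G) := by
  obtain ⟨hbot, hpg, hcmpR, hRN, hTR, hC⟩ := toggleAt_facts hs hv hp hv1
  set R := toggleAt v s with hRdef
  have hvR : v ∈ R := self_mem_toggleAt v s
  obtain ⟨hne, hcmp, hp', T, hT, htop⟩ := hs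
  have hsup : s.sup id = T := sup_eq_top_member hT fun Q hQ => (htop Q hQ).1
  rw [hsup] at hTR
  refine ⟨⟨Finset.insert_nonempty _ _, ?_, ?_, ?_⟩, ?_, ?_, ?_⟩
  · intro Q hQ Q' hQ'
    rcases Finset.mem_insert.1 hQ with hQ | hQ <;> rcases Finset.mem_insert.1 hQ' with hQ' | hQ'
    · exact Or.inl (le_of_eq (hQ.trans hQ'.symm))
    · exact hQ ▸ (hcmpR Q' hQ').symm
    · exact hQ' ▸ hcmpR Q hQ
    · exact hcmp Q hQ Q' hQ'
  · intro Q hQ
    rcases Finset.mem_insert.1 hQ with hQ | hQ
    · exact hQ ▸ ⟨hbot, hpg⟩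
    · exact hp' Q hQ
  · refine ⟨T ⊔ R, ?_, fun Q hQ => ?_⟩
    · rcases hcmpR T hT with h | h
      · rw [sup_eq_right.2 h]; exact Finset.mem_insert_self _ _
      · rw [sup_eq_left.2 h]; exact Finset.mem_insert_of_mem hT
    · rcases Finset.mem_insert.1 hQ with hQ | hQ
      · rw [hQ]; exact ⟨le_sup_right, sup_le hTR Subgroup.le_normalizer⟩
      · exact ⟨(htop Q hQ).1.trans le_sup_left,
          sup_le (htop Q hQ).2 fun x hx => mem_chainNorm.1 (hRN hx) Q hQ⟩
  · rw [chainNorm_insert]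
    exact ⟨Subgroup.le_normalizer hvR, hv⟩
  · have hfil : (insert R s).filter (fun Q => v ∉ Q) = s.filter (fun Q => v ∉ Q) := by
      rw [Finset.filter_insert, if_neg (not_not.2 hvR)]
    rw [toggleAt, hfil, Finset.sup_insert, hsup]
    refine le_antisymm (sup_le le_sup_left ((Subgroup.closure_le _).2 ?_)) ?_
    · rintro x ⟨t, ht, rfl⟩
      have : id R ⊔ T ≤ Subgroup.normalizer (R : Set G) := sup_le Subgroup.le_normalizer hTR
      exact (Subgroup.mem_normalizer_iff.1 (this ht) v).1 hvR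
    · rw [hRdef, toggleAt, hsup]
      refine sup_le_sup le_rfl (Subgroup.closure_mono ?_)
      rintro x ⟨t, ht, rfl⟩
      exact ⟨t, Subgroup.mem_sup_right ht, rfl⟩
  · rw [chainNorm_insert, inf_assoc, inf_eq_right]
    exact hC

theorem isTopNormalChain_erase [Finite G] [Fact p.Prime] (hs : IsTopNormalChain p s) (hv : v ∈ chainNorm s)
    (hp : ∃ k : ℕ, orderOf v = p ^ k) (hv1 : v ≠ 1) (hR : toggleAt v s ∈ s)
    (hne : s ≠ {toggleAt v s}) :
    IsTopNormalChain p (s.erase (toggleAt v s)) ∧ v ∈ chainNorm (s.erase (toggleAt v s)) ∧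
      toggleAt v (s.erase (toggleAt v s)) = toggleAt v s := by
  have hne' : (s.erase (toggleAt v s)).Nonempty := by
    rw [Finset.nonempty_iff_ne_empty]
    intro h
    rcases (Finset.erase_eq_empty_iff _ _).1 h with h | h
    · rw [h] at hR; simp at hR
    · exact hne h
  set R := toggleAt v s with hRdef
  have hvR : v ∈ R := self_mem_toggleAt v s
  obtain ⟨-, -, -, hRN, hTR, -⟩ := toggleAt_facts hs hv hp hv1
  obtain ⟨-, hcmp, hp', T, hT, htop⟩ := hs
  obtain ⟨T', hT', hmax⟩ := Finset.exists_maximal hne'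
  have htop' : ∀ Q ∈ s.erase R, Q ≤ T' ∧ T' ≤ Subgroup.normalizer (Q : Set G) := by
    intro Q hQ
    refine ⟨?_, ((htop T' (Finset.mem_of_mem_erase hT')).1).trans
      (htop Q (Finset.mem_of_mem_erase hQ)).2⟩
    rcases hcmp Q (Finset.mem_of_mem_erase hQ) T' (Finset.mem_of_mem_erase hT') with h | h
    · exact h
    · exact hmax hQ h
  have hs' : IsTopNormalChain p (s.erase R) :=
    ⟨hne', fun Q hQ Q' hQ' => hcmp Q (Finset.mem_of_mem_erase hQ) Q' (Finset.mem_of_mem_erase hQ'),
      fun Q hQ => hp' Q (Finset.mem_of_mem_erase hQ), T', hT', htop'⟩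
  have hv' : v ∈ chainNorm (s.erase R) := chainNorm_anti (Finset.erase_subset _ _) hv
  refine ⟨hs', hv', ?_⟩
  -- both are the toggle of `s`
  have hfil : (s.erase R).filter (fun Q => v ∉ Q) = s.filter (fun Q => v ∉ Q) := by
    ext Q
    simp only [Finset.mem_filter, Finset.mem_erase]
    exact ⟨fun h => ⟨h.1.2, h.2⟩, fun h => ⟨⟨fun e => h.2 (e ▸ hvR), h.1⟩, h.2⟩⟩
  set R' := toggleAt v (s.erase R) with hR'
  set A := (s.filter fun Q => v ∉ Q).sup id with hA
  have hsup : s.sup id = T := sup_eq_top_member hT fun Q hQ => (htop Q hQ).1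
  have hsup' : (s.erase R).sup id = T' :=
    sup_eq_top_member hT' fun Q hQ => (htop' Q hQ).1
  have hRe : toggleAt v s = A ⊔ Subgroup.closure (conjSet T v) := by
    rw [toggleAt, hsup]
  have hR'e : toggleAt v (s.erase R) = A ⊔ Subgroup.closure (conjSet T' v) := by
    rw [toggleAt, hsup', hfil]
  refine le_antisymm ?_ ?_
  · refine hR'e.le.trans ((sup_le_sup le_rfl (Subgroup.closure_mono ?_)).trans hRe.ge)
    rintro x ⟨t, ht, rfl⟩
    exact ⟨t, (htop T' (Finset.mem_of_mem_erase hT')).1 ht, rfl⟩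
  by_cases hTe : T = R
  · -- the toggle is the top
    have hgen : R ≤ A ⊔ Subgroup.closure (conjSet R v) := by
      have := hRe.le
      rwa [hTe] at this
    refine (le_sup_zpowers_of_le_closure_conjSet (hTe ▸ (hp' T hT).2)
      (le_sup_left.trans hRe.ge) hvR hgen).trans ?_
    exact sup_le (le_sup_left.trans hR'e.ge) (Subgroup.zpowers_le.2 (self_mem_toggleAt v _))
  · have hTT : T' = T := le_antisymm (htop T' (Finset.mem_of_mem_erase hT')).1
      ((htop' T (Finset.mem_erase.2 ⟨hTe, hT⟩)).1)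
    refine hRe.le.trans ?_
    rw [← hTT]
    exact hR'e.ge

theorem toggleAt_singleton_zpowers (v : G) :
    toggleAt v {Subgroup.zpowers v} = Subgroup.zpowers v := by
  have hf : ({Subgroup.zpowers v} : Finset (Subgroup G)).filter (fun Q => v ∉ Q) = ∅ := by
    rw [Finset.filter_singleton, if_neg (not_not.2 (Subgroup.mem_zpowers v))]
  rw [toggleAt, hf, Finset.sup_empty, bot_sup_eq, Finset.sup_singleton]
  refine le_antisymm ((Subgroup.closure_le _).2 ?_)
    (Subgroup.zpowers_le.2 (self_mem_closure_conjSet _ v))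
  rintro x ⟨t, ht, rfl⟩
  exact mul_mem (mul_mem ht (Subgroup.mem_zpowers v)) (inv_mem ht)

theorem eq_zpowers_of_eq_singleton [Finite G] [Fact p.Prime] (hs : IsTopNormalChain p s)
    (he : s = {toggleAt v s}) : s = {Subgroup.zpowers v} := by
  set R := toggleAt v s with hR
  have hvR : v ∈ R := self_mem_toggleAt v s
  rw [he]
  congr 1
  refine le_antisymm ?_ (Subgroup.zpowers_le.2 hvR)
  have hp' : IsPGroup p R := (hs.2.2.1 R (by rw [he]; exact Finset.mem_singleton_self R)).2
  refine (le_sup_zpowers_of_le_closure_conjSet (A := ⊥) hp' bot_le hvR ?_).trans (le_of_eq (bot_sup_eq _))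
  have hf : s.filter (fun Q => v ∉ Q) = ∅ := by
    rw [he, Finset.filter_singleton, if_neg (not_not.2 hvR)]
  have hsup : s.sup id = R := by rw [he, Finset.sup_singleton]; rfl
  conv_lhs => rw [hR, toggleAt, hf, hsup, Finset.sup_empty]

end

/-- For a fixed `p`-element `v`, the signed sum over the chains it stabilises reduces to the chain
with the single member generated by `v`. -/
theorem sum_chains_toggle [Finite G] [Fact p.Prime] {v : G} (hp : ∃ k : ℕ, orderOf v = p ^ k)
    (hv1 : v ≠ 1) (S : Finset (Finset (Subgroup G)))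
    (hS : ∀ s, s ∈ S ↔ IsTopNormalChain p s ∧ v ∈ chainNorm s) (W : Subgroup G → ℤ) :
    ∑ s ∈ S, (-1 : ℤ) ^ (s.card - 1) * W (chainNorm s ⊓ Subgroup.centralizer ({v} : Set G)) =
      W (Subgroup.centralizer ({v} : Set G)) := by
  set f : Finset (Subgroup G) → ℤ := fun s =>
    (-1 : ℤ) ^ (s.card - 1) * W (chainNorm s ⊓ Subgroup.centralizer ({v} : Set G)) with hf
  have h0 : ({Subgroup.zpowers v} : Finset (Subgroup G)) ∈ S := by
    refine (hS _).2 ⟨⟨Finset.singleton_nonempty _, ?_, ?_, ?_⟩, ?_⟩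
    · intro Q hQ Q' hQ'
      rw [Finset.mem_singleton.1 hQ, Finset.mem_singleton.1 hQ']
      exact Or.inl le_rfl
    · intro Q hQ
      rw [Finset.mem_singleton.1 hQ]
      exact ⟨fun h => hv1 (Subgroup.zpowers_eq_bot.1 h), isPGroup_zpowers hp⟩
    · refine ⟨_, Finset.mem_singleton_self _, fun Q hQ => ?_⟩
      rw [Finset.mem_singleton.1 hQ]
      exact ⟨le_rfl, Subgroup.le_normalizer⟩
    · rw [mem_chainNorm]
      intro Q hQ
      rw [Finset.mem_singleton.1 hQ]
      exact Subgroup.le_normalizer (Subgroup.mem_zpowers v)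
  change ∑ s ∈ S, f s = _
  rw [← Finset.add_sum_erase S f h0]
  have hrest : ∑ s ∈ S.erase {Subgroup.zpowers v}, f s = 0 := by
    refine Finset.sum_involution (fun s _ => if toggleAt v s ∈ s then s.erase (toggleAt v s)
      else insert (toggleAt v s) s) ?_ ?_ ?_ ?_
    · intro s hs
      obtain ⟨hs0, hsS⟩ := Finset.mem_erase.1 hs
      obtain ⟨hc, hv⟩ := (hS s).1 hsS
      simp only [hf]
      by_cases hR : toggleAt v s ∈ s
      · rw [if_pos hR]
        have hne : s ≠ {toggleAt v s} := fun e => hs0 (eq_zpowers_of_eq_singleton hc e)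
        obtain ⟨hc', hv', ht⟩ := isTopNormalChain_erase hc hv hp hv1 hR hne
        have h2 := (isTopNormalChain_insert hc' hv' hp hv1).2.2.2
        rw [ht, Finset.insert_erase hR] at h2
        have hn : 0 < (s.erase (toggleAt v s)).card := hc'.1.card_pos
        have hcard := Finset.card_erase_add_one hR
        rw [h2, ← hcard, Nat.add_sub_cancel]
        obtain ⟨n, hn'⟩ : ∃ n, (s.erase (toggleAt v s)).card = n + 1 := ⟨_, (Nat.succ_pred_eq_of_pos hn).symm⟩
        rw [hn', Nat.add_sub_cancel, pow_succ]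
        ring
      · rw [if_neg hR]
        have h2 := (isTopNormalChain_insert hc hv hp hv1).2.2.2
        have hn : 0 < s.card := hc.1.card_pos
        rw [h2, Finset.card_insert_of_notMem hR, Nat.add_sub_cancel]
        obtain ⟨n, hn'⟩ : ∃ n, s.card = n + 1 := ⟨_, (Nat.succ_pred_eq_of_pos hn).symm⟩
        rw [hn', Nat.add_sub_cancel, pow_succ]
        ring
    · intro s hs _ he
      by_cases hR : toggleAt v s ∈ s
      · rw [if_pos hR] at he
        exact (Finset.erase_eq_self.1 he) hR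
      · rw [if_neg hR] at he
        exact hR (Finset.insert_eq_self.1 he)
    · intro s hs
      obtain ⟨hs0, hsS⟩ := Finset.mem_erase.1 hs
      obtain ⟨hc, hv⟩ := (hS s).1 hsS
      by_cases hR : toggleAt v s ∈ s
      · rw [if_pos hR]
        have hne : s ≠ {toggleAt v s} := fun e => hs0 (eq_zpowers_of_eq_singleton hc e)
        obtain ⟨hc', hv', ht⟩ := isTopNormalChain_erase hc hv hp hv1 hR hne
        refine Finset.mem_erase.2 ⟨fun e => ?_, (hS _).2 ⟨hc', hv'⟩⟩
        rw [e, toggleAt_singleton_zpowers] at ht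
        have := Finset.insert_erase hR
        rw [e, ← ht] at this
        exact hs0 (by rw [← this]; simp)
      · rw [if_neg hR]
        obtain ⟨hc', hv', ht, -⟩ := isTopNormalChain_insert hc hv hp hv1
        refine Finset.mem_erase.2 ⟨fun e => ?_, (hS _).2 ⟨hc', hv'⟩⟩
        have h1 : toggleAt v s = Subgroup.zpowers v :=
          Finset.mem_singleton.1 (e ▸ Finset.mem_insert_self _ _)
        obtain ⟨Q, hQ⟩ := hc.1
        have h2 : Q = Subgroup.zpowers v :=
          Finset.mem_singleton.1 (e ▸ Finset.mem_insert_of_mem hQ)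
        exact hR (by rw [h1, ← h2]; exact hQ)
    · intro s hs
      obtain ⟨hs0, hsS⟩ := Finset.mem_erase.1 hs
      obtain ⟨hc, hv⟩ := (hS s).1 hsS
      by_cases hR : toggleAt v s ∈ s
      · have hne : s ≠ {toggleAt v s} := fun e => hs0 (eq_zpowers_of_eq_singleton hc e)
        obtain ⟨-, -, ht⟩ := isTopNormalChain_erase hc hv hp hv1 hR hne
        simp only [if_pos hR, ht]
        rw [if_neg (Finset.notMem_erase _ _), Finset.insert_erase hR]
      · obtain ⟨-, -, ht, -⟩ := isTopNormalChain_insert hc hv hp hv1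
        simp only [if_neg hR, ht]
        rw [if_pos (Finset.mem_insert_self _ _), Finset.erase_insert hR]
  rw [hrest, add_zero]
  simp only [hf, Finset.card_singleton, Nat.sub_self, pow_zero, one_mul]
  congr 1
  rw [inf_eq_right]
  intro c hc
  rw [mem_chainNorm]
  intro Q hQ
  rw [Finset.mem_singleton.1 hQ]
  refine Subgroup.centralizer_le_normalizer _ ?_
  rw [Subgroup.mem_centralizer_iff]
  rintro x ⟨n, rfl⟩
  have h : Commute v c := (Subgroup.mem_centralizer_singleton_iff.1 hc).symm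
  exact h.zpow_left n

end Cfsg.Agent.BlockCover
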