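import Cfsg.Agent.BlockCover.DefectMeet

/-!
# A block covered by only one block
-/

set_option linter.style.haveILetI false
set_option linter.unusedSectionVars false

namespace Cfsg.Agent.BlockCover

open Cfsg
open Cfsg.Agent.Block

universe u

variable {G : Type u} [Group G] [Fintype G]
variable {p : ℕ} [Fact p.Prime] {M : Ideal AlgInt}
variable (N : Subgroup G) [hN : N.Normal] [Fintype N]

/-- If the centraliser of a defect group of `b` lies in `N`, the central characters of a covering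
block vanish modulo `M` outside `N`. -/
theorem centralChar_mem_of_notMem [M.IsPrime] (hM : IsPModular p M) {b : Set (IrrCharacter N)}
    (hb : IsPBlock M b) {Q : Subgroup G} (hQN : Q ≤ N)
    (hQ : IsDefectGroup p M b (Q.subgroupOf N))
    (hC : Subgroup.centralizer (Q : Set G) ≤ N) {B : Set (IrrCharacter G)} (hB : IsPBlock M B)
    (hcov : ∃ χ ∈ B, ∃ θ ∈ b, classInner (fun n : N => (χ : G → ℂ) n) (θ : N → ℂ) ≠ 0)
    {χ : IrrCharacter G} (hχ : χ ∈ B) {g : G} (hg : g ∉ N) :
    MemLocalIdeal M (centralChar (χ : G → ℂ) g) := by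
  by_contra hne
  obtain ⟨P, hP⟩ := exists_isDefectGroup (p := p) (M := M) hB
  obtain ⟨x, hx⟩ := inf_eq_conj_defectGroup N hM hb hQN hQ hB hcov hP
  obtain ⟨E, hE⟩ := exists_isClassDefectGroup (p := p) g
  obtain ⟨y, hy⟩ := subConj_of_centralChar_unit hM hB hP hχ hE hne
  have h1 : Q.map (MulAut.conj (y * x)).toMonoidHom ≤ Subgroup.centralizer ({g} : Set G) := by
    rw [← map_conj_map_conj, hx]
    exact (Subgroup.map_mono inf_le_left).trans (hy.trans hE.le_centralizer)
  have h2 := hC ((mem_centralizer_map_conj_iff Q (y * x) g).1 (le_centralizer_singleton_iff.1 h1))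
  exact hg (by simpa [mul_assoc] using hN.conj_mem _ h2 (y * x))

/-- A block of `N` whose defect group has its centraliser in `N` is covered by one block. -/
theorem covering_unique (hM : IsPModular p M) {b : Set (IrrCharacter N)}
    (hb : IsPBlock M b) {Q : Subgroup G} (hQN : Q ≤ N)
    (hQ : IsDefectGroup p M b (Q.subgroupOf N))
    (hC : Subgroup.centralizer (Q : Set G) ≤ N) {B B' : Set (IrrCharacter G)}
    (hB : IsPBlock M B) (hB' : IsPBlock M B')
    (hcov : ∃ χ ∈ B, ∃ θ ∈ b, classInner (fun n : N => (χ : G → ℂ) n) (θ : N → ℂ) ≠ 0)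
    (hcov' : ∃ χ ∈ B', ∃ θ ∈ b, classInner (fun n : N => (χ : G → ℂ) n) (θ : N → ℂ) ≠ 0) :
    B = B' := by
  haveI : M.IsPrime := hM.2.1.isPrime
  obtain ⟨χ, hχ, θ, hθ, h⟩ := hcov
  obtain ⟨χ', hχ', θ', hθ', h'⟩ := hcov'
  refine pBlock_eq_of_mem hB hB' hχ ?_
  rw [pBlock_eq hB' hχ', mem_blockOf_iff]
  refine sameBlock_symm fun g => ?_
  by_cases hg : g ∈ N
  · have h1 := Brauer.centralChar_congr_of_covers N hM hB hb hχ hθ h hχ hθ ⟨g, hg⟩
    have h2 := Brauer.centralChar_congr_of_covers N hM hB' hb hχ' hθ' h' hχ' hθ ⟨g, hg⟩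
    simpa using memLocalIdeal_sub h1 h2
  · exact memLocalIdeal_sub
      (centralChar_mem_of_notMem N hM hb hQN hQ hC hB ⟨χ, hχ, θ, hθ, h⟩ hχ hg)
      (centralChar_mem_of_notMem N hM hb hQN hQ hC hB' ⟨χ', hχ', θ', hθ', h'⟩ hχ' hg)

end Cfsg.Agent.BlockCover
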