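import Cfsg.Agent.BlockCover.FongReynolds
import Cfsg.Agent.BlockCover.Unique
import Cfsg.Agent.Brauer.Fong
import Cfsg.Agent.Block.Covering
import Cfsg.Agent.PSolv.HallHigman

/-!
# The block of a `p`-soluble group over an invariant character of `O_{p'}` (Fong)
-/

set_option linter.style.haveILetI false
set_option linter.unusedSectionVars false

namespace Cfsg.Agent.BlockCover

open Cfsg
open Cfsg.Agent.Block

universe u

variable {G : Type u} [Group G] [Fintype G] {p : ℕ} [Fact p.Prime] {M : Ideal AlgInt}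

/-- The block of a character of a group of order prime to `p`. -/
theorem blockOf_eq_singleton (hM : IsPModular p M) {N : Type u} [Group N] [Fintype N]
    (hN : ¬ p ∣ Nat.card N) (θ : IrrCharacter N) : blockOf M (θ : N → ℂ) = {θ} := by
  haveI : M.IsPrime := hM.2.1.isPrime
  ext η
  rw [Set.mem_singleton_iff, mem_blockOf_iff]
  exact ⟨fun h => Brauer.eq_of_sameBlock_of_not_dvd_card hM hN h,
    fun h => h ▸ sameBlock_refl _⟩

/-- A character over `θ` has a constituent on an intermediate subgroup which is over `θ`. -/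
theorem exists_constituent_over {N R : Subgroup G} [Fintype N] [Fintype R] (hNR : N ≤ R)
    {χ : IrrCharacter G} {θ : IrrCharacter N}
    (h : classInner (fun n : N => (χ : G → ℂ) n) (θ : N → ℂ) ≠ 0) :
    ∃ ψ : IrrCharacter R, classInner (resN hNR (ψ : R → ℂ)) (θ : N → ℂ) ≠ 0 ∧
      classInner (fun r : R => (χ : G → ℂ) r) (ψ : R → ℂ) ≠ 0 := by
  classical
  obtain ⟨c, hc, hc'⟩ := Char.isCharacter_exists_coeff
    (CharInd.isCharacter_res R (Char.isCharacter_of_irr χ.2))
  have e : (fun k : N => (χ : G → ℂ) k) = ∑ ξ : IrrCharacter R, (c ξ : ℂ) • resN hNR (ξ : R → ℂ) := by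
    funext k
    have := congrFun hc ⟨k, hNR k.2⟩
    simp only [Finset.sum_apply, nsmul_eq_mul] at this
    simp only [Finset.sum_apply, Pi.smul_apply, smul_eq_mul, resN]
    exact this
  rw [e, Char.classInner_sum_left] at h
  obtain ⟨ψ, -, hψ⟩ := Finset.exists_ne_zero_of_sum_ne_zero h
  rw [Char.classInner_smul_left, mul_ne_zero_iff] at hψ
  exact ⟨ψ, hψ.2, by rw [hc']; exact hψ.1⟩

variable (N : Subgroup G) [hN : N.Normal] [Fintype N]

/-- The characters over an invariant character of `O_{p'}` of a `p`-soluble group form one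
block, of full defect. -/
theorem block_over_pPrimeCore (hM : IsPModular p M) (hsolv : IsPSolvable p G)
    (hNdef : N = pPrimeCore p G) (θ : IrrCharacter N) (hinv : ∀ x : G, Brauer.conjIrr N x θ = θ) :
    ∃ B : Set (IrrCharacter G), IsPBlock M B ∧
      (∀ χ : IrrCharacter G, χ ∈ B ↔ classInner (fun n : N => (χ : G → ℂ) n) (θ : N → ℂ) ≠ 0) ∧
      ∀ P : Subgroup G, IsDefectGroup p M B P → Nat.card P = p ^ (Nat.card G).factorization p := by
  classical
  haveI : M.IsPrime := hM.2.1.isPrime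
  have hp := (Fact.out : p.Prime)
  have hpN : ¬ p ∣ Nat.card N := by
    rw [← hp.coprime_iff_not_dvd, hNdef]
    exact (PSolv.coprime_card_pPrimeCore p G).symm
  set R : Subgroup G := (pCore p (G ⧸ N)).comap (QuotientGroup.mk' N) with hR
  haveI : (pCore p (G ⧸ N)).Normal := pCore_normal p _
  haveI : R.Normal := (inferInstance : (pCore p (G ⧸ N)).Normal).comap _
  have hNR : N ≤ R := QuotientGroup.le_comap_mk' N _
  letI := Fintype.ofFinite R
  letI := Fintype.ofFinite (N.subgroupOf R)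
  set e := Subgroup.subgroupOfEquivOfLe hNR with he
  set θR := Brauer.irrComp e θ with hθR
  have hres : ∀ ψ : IrrCharacter R,
      classInner (fun x : N.subgroupOf R => (ψ : R → ℂ) x) (θR : N.subgroupOf R → ℂ) =
        classInner (resN hNR (ψ : R → ℂ)) (θ : N → ℂ) :=
    fun ψ => classInner_res_equiv e (resN hNR (ψ : R → ℂ)) (θ : N → ℂ)
  have hpN' : ¬ p ∣ Nat.card (N.subgroupOf R) := by rwa [Nat.card_congr e.toEquiv]
  obtain ⟨k, hk⟩ : ∃ k, (N.subgroupOf R).index = p ^ k := by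
    obtain ⟨k, hk⟩ := IsPGroup.iff_card.1 (PSolv.isPGroup_pCore p (G ⧸ N))
    refine ⟨k, Nat.eq_of_mul_eq_mul_left (Nat.card_pos (α := N)) ?_⟩
    rw [← hk, ← PSolv.card_comap_mk, ← hR, ← (N.subgroupOf R).card_mul_index, Nat.card_congr e.toEquiv]
  -- the block of `R` over `θ`
  set bR : Set (IrrCharacter R) := {ψ | classInner (resN hNR (ψ : R → ℂ)) (θ : N → ℂ) ≠ 0} with hbR
  obtain ⟨ψ₀, hψ₀⟩ := Brauer.exists_irr_over (N.subgroupOf R) θR
  have hbRb : IsPBlock M bR := by
    refine ⟨ψ₀, Set.ext fun ψ => ⟨fun hψ => ?_, fun hψ => ?_⟩⟩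
    · exact Brauer.sameBlock_of_constituents_sameBlock (N.subgroupOf R) hM hk ψ₀ ψ θR θR hψ₀
        (by rw [hres]; exact hψ) (sameBlock_refl _)
    · show classInner _ _ ≠ 0
      rw [← hres]
      exact (classInner_res_ne_zero_iff_of_sameBlock hM (N.subgroupOf R) hpN' θR.2 ψ₀.2 ψ.2 hψ).1 hψ₀
  have hcovR : ∀ {B : Set (IrrCharacter R)}, IsPBlock M B →
      (∃ ψ ∈ B, ∃ η ∈ blockOf M (θR : N.subgroupOf R → ℂ),
        classInner (fun x : N.subgroupOf R => (ψ : R → ℂ) x) (η : N.subgroupOf R → ℂ) ≠ 0) →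
      B = bR := by
    rintro B hB ⟨ψ, hψ, η, hη, h⟩
    rw [blockOf_eq_singleton hM hpN', Set.mem_singleton_iff] at hη
    subst hη
    rw [hres] at h
    exact pBlock_eq_of_mem hB hbRb hψ h
  obtain ⟨Q, hQ⟩ := exists_isDefectGroup (p := p) (M := M) hbRb
  have hψ₀R : ψ₀ ∈ bR := by show classInner _ _ ≠ 0; rw [← hres]; exact hψ₀
  obtain ⟨hQidx, -, -⟩ := Brauer.fong (N.subgroupOf R) hM (isPBlock_blockOf θR) (fun x η hη => by
      rw [blockOf_eq_singleton hM hpN', Set.mem_singleton_iff] at hη ⊢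
      subst hη
      refine Subtype.ext (funext fun n => ?_)
      show CharInd.conjChar (N.subgroupOf R) x (θR : N.subgroupOf R → ℂ) n = _
      rw [CharInd.conjChar_apply]
      have h1 := congrArg (fun φ : IrrCharacter N => (φ : N → ℂ) (e n)) (hinv (x : G))
      change CharInd.conjChar N (x : G) (θ : N → ℂ) (e n) = (θ : N → ℂ) (e n) at h1
      rw [CharInd.conjChar_apply] at h1
      exact h1)
    hbRb ⟨ψ₀, hψ₀R, θR, mem_blockOf_self θR, hψ₀⟩
    (fun B hB hc => by rw [hcovR hB hc]) hQ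
  have hsup : Q ⊔ N.subgroupOf R = ⊤ := by
    rw [← Subgroup.index_eq_one]
    have h1 : (Q ⊔ N.subgroupOf R).index ∣ p ^ k := hk ▸ Subgroup.index_dvd_of_le le_sup_right
    obtain ⟨j, -, hj⟩ := (Nat.dvd_prime_pow hp).1 h1
    rcases Nat.eq_zero_or_pos j with rfl | hj0
    · rw [hj, pow_zero]
    · exact absurd (hj ▸ dvd_pow_self p hj0.ne') hQidx
  set QG := Q.map R.subtype with hQG
  have hQGR : QG ≤ R := Subgroup.map_subtype_le Q
  have hQGdef : IsDefectGroup p M bR (QG.subgroupOf R) := by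
    rwa [hQG, Subgroup.subgroupOf, Subgroup.comap_map_eq_self_of_injective R.subtype_injective]
  have hC : Subgroup.centralizer (QG : Set G) ≤ R := by
    have hO : pPrimeCore p (G ⧸ N) = ⊥ := by
      subst hNdef
      exact PSolv.pPrimeCore_quotient_eq_bot p G
    intro c hc
    refine PSolv.centralizer_pCore_le (PSolv.isPSolvable_quotient hsolv N) hO ?_
    intro u hu
    obtain ⟨r, rfl⟩ := QuotientGroup.mk'_surjective N u
    have hr : (⟨r, hu⟩ : R) ∈ Q ⊔ N.subgroupOf R := hsup ▸ Subgroup.mem_top _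
    rw [← SetLike.mem_coe, Subgroup.mul_normal] at hr
    obtain ⟨q, hq, n, hn, hqn⟩ := hr
    have h1 : (q : G) * (n : G) = r := congrArg Subtype.val hqn
    have h2 := hc (q : G) ⟨q, hq, rfl⟩
    have h3 : QuotientGroup.mk' N (r : G) = QuotientGroup.mk' N (q : G) := by
      rw [← h1, map_mul, show QuotientGroup.mk' N (n : G) = 1 from (QuotientGroup.eq_one_iff _).2 hn,
        mul_one]
    rw [h3, ← map_mul, ← map_mul, h2]
  -- the block of `G`
  have hcov : ∀ {χ : IrrCharacter G}, classInner (fun n : N => (χ : G → ℂ) n) (θ : N → ℂ) ≠ 0 →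
      ∃ χ' ∈ blockOf M (χ : G → ℂ), ∃ ψ ∈ bR,
        classInner (fun r : R => (χ' : G → ℂ) r) (ψ : R → ℂ) ≠ 0 := fun {χ} h => by
    obtain ⟨ψ, hψ, hψ'⟩ := exists_constituent_over hNR h
    exact ⟨χ, mem_blockOf_self χ, ψ, hψ, hψ'⟩
  obtain ⟨χ₀, hχ₀⟩ := Brauer.exists_irr_over N θ
  have hiff : ∀ χ : IrrCharacter G, χ ∈ blockOf M (χ₀ : G → ℂ) ↔
      classInner (fun n : N => (χ : G → ℂ) n) (θ : N → ℂ) ≠ 0 := by
    intro χ
    refine ⟨fun h => (classInner_res_ne_zero_iff_of_sameBlock hM N hpN θ.2 χ₀.2 χ.2 h).1 hχ₀,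
      fun h => ?_⟩
    rw [covering_unique R hM hbRb hQGR hQGdef hC (isPBlock_blockOf χ₀) (isPBlock_blockOf χ)
      (hcov hχ₀) (hcov h)]
    exact mem_blockOf_self χ
  refine ⟨_, isPBlock_blockOf χ₀, hiff, fun P hP => ?_⟩
  obtain ⟨-, -, hdef⟩ := Brauer.fong N hM (isPBlock_blockOf θ) (fun x η hη => by
      rw [blockOf_eq_singleton hM hpN, Set.mem_singleton_iff] at hη ⊢
      subst hη
      exact hinv x)
    (isPBlock_blockOf χ₀) ⟨χ₀, mem_blockOf_self χ₀, θ, mem_blockOf_self θ, hχ₀⟩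
    (fun B' hB' ⟨χ, hχ, η, hη, h⟩ => by
      rw [blockOf_eq_singleton hM hpN, Set.mem_singleton_iff] at hη
      subst hη
      rw [pBlock_eq_of_mem hB' (isPBlock_blockOf χ₀) hχ ((hiff χ).2 h)]) hP
  have hv : (Nat.card G).factorization p = N.index.factorization p := by
    rw [← N.card_mul_index, Nat.factorization_mul Nat.card_pos.ne'
      Subgroup.index_ne_zero_of_finite, Finsupp.add_apply, Nat.factorization_eq_zero_of_not_dvd hpN,
      zero_add]
  have h1 : p ^ (Nat.card G).factorization p ≤ Nat.card P := by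
    rw [card_isDefectGroup hM (isPBlock_blockOf χ₀) hP, hdef, hv]
    exact Nat.pow_le_pow_right hp.pos (Nat.le_add_left _ _)
  obtain ⟨j, hj⟩ := IsPGroup.iff_card.1 (isDefectGroup_isPGroup hP)
  refine le_antisymm ?_ h1
  rw [hj]
  exact Nat.pow_le_pow_right hp.pos ((hp.pow_dvd_iff_le_factorization Nat.card_pos.ne').1
    (hj ▸ P.card_subgroup_dvd_card))

end Cfsg.Agent.BlockCover
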