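import Cfsg.Agent.BlockCover.VanishLift
import Cfsg.Agent.BlockCover.Solvable
import Cfsg.Agent.BlockCover.CoverTorsion
import Cfsg.Agent.CharDeep.Mult
import Cfsg.Agent.CharInd.Clifford
import Cfsg.Agent.Lib.Element
import Cfsg.Agent.Brauer.Fong
import Cfsg.Agent.Brauer.RegularRank
import Cfsg.Agent.PSolv.Cores
import Cfsg.Agent.Cores.Basic

/-!
# Kiyota-Okuyama: sets with idempotent vanishing on the singular elements are unions of blocks
-/

set_option linter.style.haveILetI false
set_option linter.unusedSectionVars false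

namespace Cfsg.Agent.BlockCover

open Cfsg
open Cfsg.Agent.Block
open scoped ComplexConjugate

universe u

variable {G : Type u} [Group G] [Fintype G] {p : ℕ} {M : Ideal AlgInt}

/-- `U` is a union of blocks. -/
def IsBlockUnion (M : Ideal AlgInt) (U : Set (IrrCharacter G)) : Prop :=
  ∀ χ ∈ U, blockOf M (χ : G → ℂ) ⊆ U

theorem IsBlockUnion.memLocalRing [M.IsPrime] {U : Set (IrrCharacter G)} (hU : IsBlockUnion M U)
    (g : G) : MemLocalRing M (blockCoeff U g) := by
  classical
  rw [Brauer.blockCoeff_eq_sum_blocks U (fun η η' hη h => hU η hη (mem_blockOf_iff.2 h)) g]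
  refine (localRing M).sum_mem fun B hB => blockCoeff_memLocalRing ?_ g
  exact mem_blocks_iff.1 (Finset.mem_filter.1 hB).1

theorem isBlockUnion_of_memLocalRing [M.IsPrime] {U : Set (IrrCharacter G)}
    (hU : ∀ g, MemLocalRing M (blockCoeff U g)) : IsBlockUnion M U :=
  fun _ hχ => blockOf_subset_of_memLocalRing hU hχ

/-- A multiple of an element of a normal `p'`-subgroup keeps singular elements singular. -/
theorem dvd_orderOf_mul [Fact p.Prime] (N : Subgroup G) [N.Normal] (hN : ¬ p ∣ Nat.card N)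
    {n g : G} (hn : n ∈ N) (hg : p ∣ orderOf g) : p ∣ orderOf (n * g) := by
  by_contra h
  have hq : ((n * g : G) : G ⧸ N) = (g : G ⧸ N) := by
    rw [QuotientGroup.mk_mul, (QuotientGroup.eq_one_iff n).2 hn, one_mul]
  have h1 : orderOf (g : G ⧸ N) ∣ orderOf (n * g) := by
    rw [← hq]; exact orderOf_map_dvd (QuotientGroup.mk' N) (n * g)
  have h2 : g ^ orderOf (n * g) ∈ N := by
    rw [← QuotientGroup.eq_one_iff, QuotientGroup.mk_pow]
    exact orderOf_dvd_iff_pow_eq_one.1 h1
  have h3 : orderOf g ∣ orderOf (n * g) * Nat.card N := by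
    refine orderOf_dvd_of_pow_eq_one ?_
    rw [pow_mul]
    exact congrArg Subtype.val (pow_card_eq_one' (x := (⟨_, h2⟩ : N)))
  exact ((Fact.out : p.Prime).dvd_mul.1 (hg.trans h3)).elim h hN

section Projection

variable (N : Subgroup G) [N.Normal] [Fintype N]

open scoped Classical in
/-- Convolution with an induced character picks the characters over it. -/
theorem sum_indFun_mul_conj (θ : IrrCharacter N) (ξ : IrrCharacter G) (g : G) :
    ∑ z : G, indFun N (θ : N → ℂ) z * conj ((ξ : G → ℂ) (z * g)) =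
      (if classInner (fun n : N => (ξ : G → ℂ) n) (θ : N → ℂ) ≠ 0 then
        (Nat.card G : ℂ) / ((CharInd.conjClass N (θ : N → ℂ)).card * (θ : N → ℂ) 1) else 0) *
        conj ((ξ : G → ℂ) g) := by
  have h := Brauer.sum_class_mul_conj (fun x b => CharInd.indFun_isClassFunction N (θ : N → ℂ) x b)
    ξ.2 g⁻¹
  rw [inv_inv] at h
  rw [h, Char.irr_inv ξ.2, Char.sum_mul_conj_eq_card_mul_classInner,
    CharInd.classInner_indFun_left N _ (Char.irr_isClassFunction ξ.2)]
  obtain ⟨m, hm⟩ := Char.isCharacter_classInner_nat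
    (CharInd.isCharacter_res N (Char.isCharacter_of_irr ξ.2)) θ
  rw [← CharInd.classInner_swap, hm, map_natCast]
  split_ifs with h0
  · have hcl := congrFun (CharInd.clifford N ξ.2 θ.2 (by rw [hm]; exact h0)) 1
    simp only [Pi.smul_apply, Finset.sum_apply, smul_eq_mul, OneMemClass.coe_one, hm] at hcl
    have hval : ∀ φ ∈ CharInd.conjClass N (θ : N → ℂ), φ 1 = (θ : N → ℂ) 1 := by
      intro φ hφ
      obtain ⟨x, rfl⟩ := (CharInd.mem_conjClass N).1 hφ
      rw [CharInd.conjChar_apply]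
      exact congrArg (θ : N → ℂ) (Subtype.ext (by simp))
    rw [Finset.sum_congr rfl hval, Finset.sum_const, nsmul_eq_mul] at hcl
    rw [hcl]
    have hθ1 := Char.irr_one_ne_zero θ.2
    have hcard : ((CharInd.conjClass N (θ : N → ℂ)).card : ℂ) ≠ 0 :=
      Nat.cast_ne_zero.2 (Finset.card_pos.2 ⟨_, (CharInd.mem_conjClass N).2
        ⟨1, CharInd.conjChar_one N _⟩⟩).ne'
    field_simp
  · rw [not_not] at h0
    rw [h0]; ring

/-- The members of `U` over `θ` again have an idempotent vanishing on the singular elements. -/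
theorem VanishSing.over [Fact p.Prime] (hN : ¬ p ∣ Nat.card N) {U : Set (IrrCharacter G)}
    (hU : VanishSing p U) (θ : IrrCharacter N) :
    VanishSing p {χ | χ ∈ U ∧ classInner (fun n : N => (χ : G → ℂ) n) (θ : N → ℂ) ≠ 0} := by
  classical
  intro g hg
  have h0 : ∑ z : G, indFun N (θ : N → ℂ) z * blockCoeff U (z * g) = 0 := by
    refine Finset.sum_eq_zero fun z _ => ?_
    by_cases hz : z ∈ N
    · rw [hU _ (dvd_orderOf_mul N hN hz hg), mul_zero]
    · rw [CharInd.indFun_normal_notMem N _ hz, zero_mul]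
  simp only [blockCoeff_eq_sum, Finset.mul_sum] at h0
  rw [Finset.sum_comm] at h0
  rw [Finset.sum_congr rfl fun (χ : IrrCharacter G) _ => show
      ∑ z : G, indFun N (θ : N → ℂ) z *
        ((Nat.card G : ℂ)⁻¹ * ((χ : G → ℂ) 1 * conj ((χ : G → ℂ) (z * g)))) =
      (Nat.card G : ℂ)⁻¹ * ((χ : G → ℂ) 1 *
        ∑ z : G, indFun N (θ : N → ℂ) z * conj ((χ : G → ℂ) (z * g))) by
      rw [Finset.mul_sum, Finset.mul_sum]; exact Finset.sum_congr rfl fun z _ => by ring] at h0
  simp only [sum_indFun_mul_conj, ite_mul, zero_mul, mul_ite, mul_zero] at h0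
  rw [← Finset.sum_filter, Finset.filter_filter] at h0
  rw [blockCoeff_eq_sum, Finset.mul_sum]
  set K : ℂ := (Nat.card G : ℂ) / ((CharInd.conjClass N (θ : N → ℂ)).card * (θ : N → ℂ) 1)
  have hK : K ≠ 0 := div_ne_zero (Nat.cast_ne_zero.2 Nat.card_pos.ne')
    (mul_ne_zero (Nat.cast_ne_zero.2 (Finset.card_pos.2 ⟨_, (CharInd.mem_conjClass N).2
        ⟨1, CharInd.conjChar_one N _⟩⟩).ne') (Char.irr_one_ne_zero θ.2))
  refine (mul_eq_zero.1 (show K * _ = 0 from ?_)).resolve_left hK
  rw [Finset.mul_sum]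
  refine Eq.trans ?_ h0
  refine Finset.sum_congr (by ext; simp) fun χ _ => ?_
  ring

end Projection

/-- The statement proved by induction. -/
def VanishUnion (p : ℕ) (M : Ideal AlgInt) (G : Type u) [Group G] [Fintype G] : Prop :=
  ∀ U : Set (IrrCharacter G), VanishSing p U → IsBlockUnion M U

/-- The step modulo a nontrivial `p`-core. -/
theorem vanishUnion_of_pCore_ne_bot (hM : IsPModular p M) [M.IsPrime]
    (hsolv : IsPSolvable p G) (hQ : pCore p G ≠ ⊥)
    (ih : ∀ (H : Type u) [Group H] [Fintype H],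
      (Nat.card H).factorization p < (Nat.card G).factorization p → IsPSolvable p H →
      VanishUnion p M H) : VanishUnion p M G := by
  classical
  haveI : Fact p.Prime := ⟨hM.1⟩
  intro U hU
  haveI : (pCore p G).Normal := pCore_normal p G
  letI := Fintype.ofFinite (G ⧸ pCore p G)
  letI := Fintype.ofFinite (pCore p G)
  refine isBlockUnion_of_memLocalRing fun g => memLocalRing_blockCoeff_of_quot (pCore p G) hM
    (PSolv.isPGroup_pCore p G) hU ?_ g
  refine fun q => (ih (G ⧸ pCore p G) ?_ (PSolv.isPSolvable_quotient hsolv _) _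
    (hU.quot (pCore p G))).memLocalRing q
  obtain ⟨k, hk⟩ := IsPGroup.iff_card.1 (PSolv.isPGroup_pCore p G)
  have hk0 : k ≠ 0 := fun h => hQ (Subgroup.eq_bot_of_card_eq _ (by rw [hk, h, pow_zero]))
  rw [← (pCore p G).card_mul_index, Nat.factorization_mul Nat.card_pos.ne'
    Subgroup.index_ne_zero_of_finite, hk, Finsupp.add_apply, hM.1.factorization_pow,
    Finsupp.single_eq_same, Subgroup.index_eq_card]
  omega

/-- The reduction to the stabiliser of a character of `O_{p'}`. -/
theorem blockOf_subset_of_stab (hM : IsPModular p M) [M.IsPrime] (N : Subgroup G) [N.Normal]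
    [Fintype N] (hN : ¬ p ∣ Nat.card N) (θ : IrrCharacter N)
    [Fintype (CharInd.conjStab N (θ : N → ℂ))] {U : Set (IrrCharacter G)} (hU : VanishSing p U)
    (hover : ∀ χ ∈ U, classInner (fun n : N => (χ : G → ℂ) n) (θ : N → ℂ) ≠ 0)
    (ih : VanishUnion p M (CharInd.conjStab N (θ : N → ℂ))) : IsBlockUnion M U := by
  classical
  haveI : Fact p.Prime := ⟨hM.1⟩
  set b := blockOf M (θ : N → ℂ) with hbdef
  have hbs : b = {θ} := blockOf_eq_singleton hM hN θ
  have hb : IsPBlock M b := isPBlock_blockOf θ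
  set T := CharInd.conjStab N (θ : N → ℂ) with hTdef
  have hNT : N ≤ T := CharInd.le_conjStab N (Char.irr_isClassFunction θ.2)
  have hmem : ∀ g : G, g ∈ T ↔ ∀ η ∈ b, Brauer.conjIrr N g η ∈ b := by
    intro g
    simp only [hbs, Set.mem_singleton_iff, forall_eq]
    exact ⟨fun h => Subtype.ext h, fun h => congrArg Subtype.val h⟩
  have hoverb : ∀ ξ : IrrCharacter T, classInner (resN hNT (ξ : T → ℂ)) (θ : N → ℂ) ≠ 0 ↔
      ∃ η ∈ b, classInner (resN hNT (ξ : T → ℂ)) (η : N → ℂ) ≠ 0 := fun ξ => by simp [hbs]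
  letI := Fintype.ofFinite (N.subgroupOf T)
  set e := Subgroup.subgroupOfEquivOfLe hNT with he
  set θT := Brauer.irrComp e θ with hθT
  have hresT : ∀ ξ : IrrCharacter T,
      classInner (fun x : N.subgroupOf T => (ξ : T → ℂ) x) (θT : N.subgroupOf T → ℂ) =
        classInner (resN hNT (ξ : T → ℂ)) (θ : N → ℂ) :=
    fun ξ => classInner_res_equiv e (resN hNT (ξ : T → ℂ)) (θ : N → ℂ)
  have hNT' : ¬ p ∣ Nat.card (N.subgroupOf T) := by rwa [Nat.card_congr e.toEquiv]
  -- the correspondents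
  have hψ : ∀ χ : U, ∃ ψ : IrrCharacter T, classInner (resN hNT (ψ : T → ℂ)) (θ : N → ℂ) ≠ 0 ∧
      indFun T (ψ : T → ℂ) = ((χ : IrrCharacter G) : G → ℂ) := fun χ => by
    obtain ⟨ψ, h1, h2⟩ := exists_inducing hNT hmem hb (mem_blockOf_self θ) (hover χ χ.2)
    exact ⟨ψ, (hoverb ψ).2 h1, h2⟩
  choose ψ hψθ hψind using hψ
  set U' : Set (IrrCharacter T) := Set.range ψ with hU'
  have hψinj : Function.Injective ψ := fun a c h =>
    Subtype.ext (Subtype.ext (by rw [← hψind a, h, hψind c]))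
  have huniq : ∀ (χ : U) (ξ : IrrCharacter T),
      classInner (resN hNT (ξ : T → ℂ)) (θ : N → ℂ) ≠ 0 →
      classInner (fun t : T => ((χ : IrrCharacter G) : G → ℂ) t) (ξ : T → ℂ) =
        if ξ = ψ χ then 1 else 0 := by
    intro χ ξ hξ
    split_ifs with h
    · subst h; exact classInner_res_of_indFun (hψind χ).symm
    · by_contra h0
      refine h (indFun_injective hNT hmem hb ((hoverb ξ).1 hξ) ((hoverb _).1 (hψθ χ)) ?_)
      rw [hψind χ]
      have hirr := indFun_irr hNT hmem hb ((hoverb ξ).1 hξ)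
      by_contra hne
      refine h0 ?_
      rw [← CharInd.classInner_indFun_right T _ (Char.irr_isClassFunction χ.1.2),
        ← CharInd.classInner_swap, Char.classInner_irr_ne hirr χ.1.2 hne, map_zero]
  have hU'v : VanishSing p U' := by
    intro t ht
    have h0 : ∑ z : T, indFun (N.subgroupOf T) (θT : N.subgroupOf T → ℂ) z *
        blockCoeff U ((z * t : T) : G) = 0 := by
      refine Finset.sum_eq_zero fun z _ => ?_
      by_cases hz : z ∈ N.subgroupOf T
      · rw [hU _ (by rw [Subgroup.orderOf_coe]; exact dvd_orderOf_mul _ hNT' hz ht), mul_zero]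
      · rw [CharInd.indFun_normal_notMem _ _ hz, zero_mul]
    set K : ℂ := (Nat.card T : ℂ) / ((CharInd.conjClass (N.subgroupOf T)
      (θT : N.subgroupOf T → ℂ)).card * (θT : N.subgroupOf T → ℂ) 1) with hK
    have hK0 : K ≠ 0 := div_ne_zero (Nat.cast_ne_zero.2 Nat.card_pos.ne')
      (mul_ne_zero (Nat.cast_ne_zero.2 (Finset.card_pos.2 ⟨_, (CharInd.mem_conjClass _).2
        ⟨1, CharInd.conjChar_one _ _⟩⟩).ne') (Char.irr_one_ne_zero θT.2))
    have hterm : ∀ χ : U, ∑ z : T, indFun (N.subgroupOf T) (θT : N.subgroupOf T → ℂ) z *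
        conj (((χ : IrrCharacter G) : G → ℂ) ((z * t : T) : G)) =
          K * conj ((ψ χ : T → ℂ) t) := by
      intro χ
      have hexp := Char.eq_sum_classInner_smul (Char.isCharacter_isClassFunction
        (CharInd.isCharacter_res T (Char.isCharacter_of_irr χ.1.2)))
      have h1 : ∀ z : T, conj (((χ : IrrCharacter G) : G → ℂ) ((z * t : T) : G)) =
          ∑ ξ : IrrCharacter T, conj (classInner (fun t : T => ((χ : IrrCharacter G) : G → ℂ) t)
            (ξ : T → ℂ)) * conj ((ξ : T → ℂ) (z * t)) := fun z => by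
        rw [show ((χ : IrrCharacter G) : G → ℂ) ((z * t : T) : G) = _ from congrFun hexp (z * t)]
        simp only [Finset.sum_apply, Pi.smul_apply, smul_eq_mul, map_sum, map_mul]
      simp only [h1, Finset.mul_sum]
      rw [Finset.sum_comm]
      simp only [mul_left_comm (indFun (N.subgroupOf T) _ _), ← Finset.mul_sum, sum_indFun_mul_conj,
        hresT]
      rw [Finset.sum_eq_single (ψ χ)]
      · rw [if_pos (hψθ χ), huniq χ _ (hψθ χ), if_pos rfl, map_one, one_mul, hK]
      · intro ξ _ hne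
        by_cases hξ : classInner (resN hNT (ξ : T → ℂ)) (θ : N → ℂ) = 0
        · rw [if_neg (not_not.2 hξ), zero_mul, mul_zero]
        · rw [huniq χ ξ hξ, if_neg hne, map_zero, zero_mul]
      · exact fun h => absurd (Finset.mem_univ _) h
    have hdeg : ∀ χ : U, ((χ : IrrCharacter G) : G → ℂ) 1 = (T.index : ℂ) * (ψ χ : T → ℂ) 1 :=
      fun χ => by rw [← hψind χ, CharInd.indFun_one_apply]
    have hsum : blockCoeff U' t = (Nat.card T : ℂ)⁻¹ *
        ∑ χ : U, (ψ χ : T → ℂ) 1 * conj ((ψ χ : T → ℂ) t) := by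
      rw [blockCoeff_eq_sum]
      congr 1
      rw [show (Finset.univ.filter fun ξ : IrrCharacter T => ξ ∈ U') = Finset.univ.image ψ by
        ext ξ; simp [hU', eq_comm], Finset.sum_image fun a _ c _ h => hψinj h]
    rw [hsum]
    simp only [blockCoeff_eq_sum, Finset.mul_sum] at h0
    rw [Finset.sum_comm, Finset.sum_subtype (p := fun χ => χ ∈ U) _ (by simp)] at h0
    refine mul_eq_zero_of_right _ ((mul_eq_zero.1
      (show ((Nat.card G : ℂ)⁻¹ * (T.index : ℂ) * K) *
        ∑ χ : U, (ψ χ : T → ℂ) 1 * conj ((ψ χ : T → ℂ) t) = 0 from ?_)).resolve_left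
      (mul_ne_zero (mul_ne_zero (inv_ne_zero (Nat.cast_ne_zero.2 Nat.card_pos.ne'))
        (Nat.cast_ne_zero.2 Subgroup.index_ne_zero_of_finite)) hK0))
    rw [Finset.mul_sum]
    refine Eq.trans ?_ h0
    refine Finset.sum_congr rfl fun χ _ => ?_
    rw [Finset.sum_congr rfl fun z _ => show indFun (N.subgroupOf T) (θT : N.subgroupOf T → ℂ) z *
        ((Nat.card G : ℂ)⁻¹ * (((χ : IrrCharacter G) : G → ℂ) 1 *
          conj (((χ : IrrCharacter G) : G → ℂ) ((z * t : T) : G)))) =
      (Nat.card G : ℂ)⁻¹ * ((χ : IrrCharacter G) : G → ℂ) 1 *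
        (indFun (N.subgroupOf T) (θT : N.subgroupOf T → ℂ) z *
          conj (((χ : IrrCharacter G) : G → ℂ) ((z * t : T) : G))) by ring,
      ← Finset.mul_sum, hterm, hdeg]
    ring
  -- conclusion
  intro χ hχ χ' hχ'
  have hblock := ih U' hU'v
  obtain ⟨B₀, hind, -, hiff⟩ := induced_block hNT hmem hM hb (isPBlock_blockOf (ψ ⟨χ, hχ⟩))
    ⟨ψ ⟨χ, hχ⟩, mem_blockOf_self _, (hoverb _).1 (hψθ _)⟩
  have hχB : χ ∈ B₀ := (hiff χ).2 ⟨ψ ⟨χ, hχ⟩, mem_blockOf_self _, (hψind ⟨χ, hχ⟩).symm⟩
  rw [← pBlock_eq hind.2.1 hχB] at hχ'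
  obtain ⟨ξ, hξ, he'⟩ := (hiff χ').1 hχ'
  obtain ⟨u, rfl⟩ := hblock _ ⟨⟨χ, hχ⟩, rfl⟩ hξ
  rw [show χ' = (u : IrrCharacter G) from Subtype.ext (he'.trans (hψind u))]
  exact u.2

/-- A nontrivial `p`-core in a central `p'`-extension. -/
theorem pCore_ne_bot_of_central [Fact p.Prime] {X Y : Type u} [Group X] [Finite X] [Group Y]
    [Finite Y] (h : X →* Y) (hsurj : Function.Surjective h)
    (hker : ∀ z, h z = 1 → ∀ y, z * y = y * z) (hp' : ¬ p ∣ Nat.card h.ker)
    (hY : pCore p Y ≠ ⊥) : pCore p X ≠ ⊥ := by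
  have hp := (Fact.out : p.Prime)
  haveI : (pCore p Y).Normal := pCore_normal p Y
  set W := (pCore p Y).comap h with hW
  haveI : W.Normal := (inferInstance : (pCore p Y).Normal).comap h
  obtain ⟨S⟩ := (inferInstance : Nonempty (Sylow p W))
  set SX := (S : Subgroup W).map W.subtype with hSX
  have hSXW : SX ≤ W := Subgroup.map_subtype_le _
  have hkerW : h.ker ≤ W := fun z hz => by
    rw [hW, Subgroup.mem_comap, MonoidHom.mem_ker.1 hz]; exact one_mem _
  obtain ⟨k, hk⟩ := IsPGroup.iff_card.1 (PSolv.isPGroup_pCore p Y)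
  have hk0 : k ≠ 0 := fun h0 => hY (Subgroup.eq_bot_of_card_eq _ (by rw [hk, h0, pow_zero]))
  set hW' : W →* pCore p Y := h.subgroupComap (pCore p Y) with hhW'
  have hW'surj : Function.Surjective hW' := h.subgroupComap_surjective_of_surjective _ hsurj
  have hcardker : Nat.card hW'.ker = Nat.card h.ker := by
    refine Nat.card_congr
      { toFun := fun z => ⟨(z : W), ?_⟩
        invFun := fun z => ⟨⟨z, hkerW z.2⟩, ?_⟩
        left_inv := fun z => rfl
        right_inv := fun z => rfl }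
    · exact congrArg Subtype.val (MonoidHom.mem_ker.1 z.2)
    · exact Subtype.ext (MonoidHom.mem_ker.1 z.2)
  have hcardW : Nat.card W = Nat.card h.ker * p ^ k := by
    rw [← hcardker, ← hk, ← hW'.ker.card_mul_index, Subgroup.index_ker, MonoidHom.range_eq_top.2
      hW'surj, Subgroup.card_top]
  have hS : Nat.card (S : Subgroup W) = p ^ k := by
    rw [S.card_eq_multiplicity, hcardW, Nat.factorization_mul Nat.card_pos.ne'
      (pow_ne_zero _ hp.ne_zero), Finsupp.add_apply, Nat.factorization_eq_zero_of_not_dvd hp',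
      hp.factorization_pow, Finsupp.single_eq_same, zero_add]
  have hinj : Function.Injective (hW'.comp (S : Subgroup W).subtype) := by
    rw [← MonoidHom.ker_eq_bot_iff, Subgroup.eq_bot_iff_forall]
    intro s hs
    have hs' : ((s : W) : X) ∈ h.ker := congrArg Subtype.val (MonoidHom.mem_ker.1 hs)
    have h1 : orderOf ((s : W) : X) ∣ Nat.card h.ker := by
      rw [show orderOf ((s : W) : X) = orderOf (⟨_, hs'⟩ : h.ker) from
        Subgroup.orderOf_coe (⟨_, hs'⟩ : h.ker)]
      exact orderOf_dvd_natCard _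
    have h2 : orderOf s ∣ p ^ k := hS ▸ orderOf_dvd_natCard s
    rw [Subgroup.orderOf_coe, Subgroup.orderOf_coe] at h1
    have h3 := Nat.dvd_gcd h2 h1
    rw [((hp.coprime_iff_not_dvd.2 hp').pow_left k).gcd_eq_one, Nat.dvd_one,
      orderOf_eq_one_iff] at h3
    exact h3
  have hbij : Function.Surjective (hW'.comp (S : Subgroup W).subtype) :=
    ((Nat.bijective_iff_injective_and_card _).2 ⟨hinj, by rw [hS, hk]⟩).2
  haveI hSn : (S : Subgroup W).Normal := ⟨fun s hs w => by
    obtain ⟨t, ht⟩ := hbij (hW' w)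
    have hz : h (((t : W) : X)⁻¹ * w) = 1 := by
      rw [map_mul, map_inv, inv_mul_eq_one]
      exact congrArg Subtype.val ht
    have hc := hker _ hz ((s : W) : X)
    have e : w * s * w⁻¹ = (t : W) * s * (t : W)⁻¹ := by
      apply Subtype.ext
      simp only [Subgroup.coe_mul, Subgroup.coe_inv]
      set z := ((t : W) : X)⁻¹ * (w : X) with hzdef
      rw [show (w : X) = ((t : W) : X) * z from (mul_inv_cancel_left _ _).symm]
      calc ((t : W) : X) * z * s * (((t : W) : X) * z)⁻¹
          = (t : W) * (z * s) * z⁻¹ * ((t : W) : X)⁻¹ := by group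
        _ = (t : W) * (s * z) * z⁻¹ * ((t : W) : X)⁻¹ := by rw [hc]
        _ = _ := by group
    rw [e]
    exact mul_mem (mul_mem t.2 hs) (inv_mem t.2)⟩
  haveI : (S : Subgroup W).Characteristic := Sylow.characteristic_of_normal S hSn
  haveI : SX.Normal := ConjAct.normal_of_characteristic_of_normal
  intro hbot
  have hle : SX ≤ pCore p X := Cores.le_pCore inferInstance (S.isPGroup'.map W.subtype)
  rw [hbot, le_bot_iff] at hle
  have h4 : Nat.card SX = p ^ k := by
    rw [hSX, Subgroup.card_map_of_injective W.subtype_injective, hS]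
  rw [hle, Subgroup.card_bot] at h4
  exact hk0 ((Nat.pow_eq_one.1 h4.symm).resolve_left hp.ne_one)

end Cfsg.Agent.BlockCover
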