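import Cfsg.Agent.BlockVal.SectionCount
import Cfsg.Agent.Brauer.Transport
import Cfsg.Agent.BlockCover.Vanishing
import Cfsg.Agent.BlockCover.ChainToggle

/-!
# Members minus rank of a union of blocks, subsection by subsection, and its sum over chains
-/

set_option linter.style.haveILetI false
set_option linter.unusedSectionVars false
set_option maxHeartbeats 800000

namespace Cfsg.Agent.BlockCover

open Cfsg
open Cfsg.Agent.Block
open scoped ComplexConjugate
open Cfsg.Agent.Brauer (regSum irrComp)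

universe u

variable {G : Type u} [Group G] [Fintype G] {p : ℕ} {M : Ideal AlgInt}

/-- The regular rank is preserved by isomorphisms. -/
theorem blockRank_image_irrComp {K K' : Type u} [Group K] [Group K'] [Finite K] [Finite K']
    (e : K ≃* K') (b : Set (IrrCharacter K')) : blockRank p (irrComp e '' b) = blockRank p b := by
  have h1 : ∀ f : K' → ℂ, pRegularPart p (f ∘ e) = LinearMap.funLeft ℂ ℂ e (pRegularPart p f) := by
    intro f
    funext k
    simp only [LinearMap.funLeft_apply, pRegularPart, IsPRegular, MulEquiv.orderOf_eq,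
      Function.comp_apply]
    congr
  have h2 : (fun χ : IrrCharacter K => pRegularPart p (χ : K → ℂ)) '' (irrComp e '' b) =
      LinearMap.funLeft ℂ ℂ e '' ((fun χ : IrrCharacter K' => pRegularPart p (χ : K' → ℂ)) '' b) := by
    rw [Set.image_image, Set.image_image]
    exact Set.image_congr fun χ _ => h1 _
  unfold blockRank
  rw [h2, Submodule.span_image]
  exact (Submodule.equivMapOfInjective _
    (LinearMap.funLeft_injective_of_surjective ℂ ℂ e e.surjective) _).finrank_eq.symm

/-- `|G|` times the regular rank of a set with integral idempotent is the sum of the regular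
square norms of its members. -/
theorem card_mul_blockRank_of_integral (hM : IsPModular p M) {B : Set (IrrCharacter G)}
    (hB : ∀ g, MemLocalRing M (blockCoeff B g)) [DecidablePred (· ∈ B)] :
    (Nat.card G : ℂ) * (blockRank p B : ℂ) =
      ∑ χ ∈ Finset.univ.filter (· ∈ B), regSum p (χ : G → ℂ) (χ : G → ℂ) := by
  classical
  haveI : M.IsPrime := hM.2.1.isPrime
  let ι := {χ : IrrCharacter G // χ ∈ B}
  let R : IrrCharacter G → IrrCharacter G → ℂ := fun χ ψ =>
    regSum p (χ : G → ℂ) (ψ : G → ℂ) / (Nat.card G : ℂ)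
  let A : Matrix ι ι ℂ := fun ψ χ => R χ.1 ψ.1
  let Φ : (ι → ℂ) →ₗ[ℂ] (G → ℂ) :=
    Fintype.linearCombination ℂ fun χ : ι => pRegularPart p ((χ.1 : IrrCharacter G) : G → ℂ)
  have hG : (Nat.card G : ℂ) ≠ 0 := Nat.cast_ne_zero.mpr Nat.card_pos.ne'
  have hAA : A * A = A := by
    ext ψ χ
    show ∑ η : ι, R η.1 ψ.1 * R χ.1 η.1 = R χ.1 ψ.1
    have h := Brauer.sum_regSum_mul_regSum hM B hB χ.1 ψ.1
    rw [if_pos ψ.2, Finset.sum_subtype (p := (· ∈ B)) _ (fun η => by simp)] at h
    simp only [R]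
    calc ∑ η : ι, regSum p (η.1 : G → ℂ) (ψ.1 : G → ℂ) / (Nat.card G : ℂ) *
          (regSum p (χ.1 : G → ℂ) (η.1 : G → ℂ) / (Nat.card G : ℂ))
        = (∑ η : ι, regSum p (χ.1 : G → ℂ) (η.1 : G → ℂ) * regSum p (η.1 : G → ℂ) (ψ.1 : G → ℂ)) /
            (Nat.card G : ℂ) ^ 2 := by
          rw [Finset.sum_div]
          exact Finset.sum_congr rfl fun η _ => by ring
      _ = _ := by
          rw [h]
          field_simp
  have hcl : ∀ (c : ι → ℂ) (ψ : IrrCharacter G),
      classInner (Φ c) (ψ : G → ℂ) = ∑ χ : ι, c χ * R χ.1 ψ := by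
    intro c ψ
    simp only [Φ, Fintype.linearCombination_apply]
    rw [Char.classInner_sum_left]
    exact Finset.sum_congr rfl fun χ _ => by
      rw [Char.classInner_smul_left, BrauerPairs.classInner_pRegularPart]
  have hA : ∀ (c : ι → ℂ) (ψ : ι), Matrix.toLin' A c ψ = classInner (Φ c) (ψ.1 : G → ℂ) := by
    intro c ψ
    rw [hcl, Matrix.toLin'_apply]
    simp only [Matrix.mulVec, dotProduct, A]
    exact Finset.sum_congr rfl fun χ _ => mul_comm _ _
  have hker : LinearMap.ker Φ = LinearMap.ker (Matrix.toLin' A) := by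
    ext c
    simp only [LinearMap.mem_ker]
    refine ⟨fun h => funext fun ψ => ?_, fun h => ?_⟩
    · rw [hA, h]; simp [classInner]
    · have hcf : IsClassFunction G (Φ c) := fun g x => by
        simp only [Φ, Fintype.linearCombination_apply, Finset.sum_apply, Pi.smul_apply]
        exact Finset.sum_congr rfl fun χ _ => by
          rw [BrauerPairs.pRegularPart_classFunction (Char.irr_isClassFunction χ.1.2) g x]
      rw [Char.eq_sum_classInner_smul hcf]
      refine Finset.sum_eq_zero fun ψ _ => ?_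
      by_cases hψ : ψ ∈ B
      · rw [← hA c ⟨ψ, hψ⟩, h]; simp
      · rw [hcl, Finset.sum_eq_zero, zero_smul]
        intro χ _
        simp [R, Brauer.regSum_eq_zero_of_integral hM B hB χ.2 hψ]
  have hrange : blockRank p B = Module.finrank ℂ (LinearMap.range (Matrix.toLin' A)) := by
    have h1 : LinearMap.range Φ = Submodule.span ℂ
        ((fun χ : IrrCharacter G => pRegularPart p (χ : G → ℂ)) '' B) := by
      simp only [Φ, Fintype.range_linearCombination]
      congr 1
      ext f
      constructor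
      · rintro ⟨χ, rfl⟩; exact ⟨χ.1, χ.2, rfl⟩
      · rintro ⟨χ, hχ, rfl⟩; exact ⟨⟨χ, hχ⟩, rfl⟩
    have h2 := LinearMap.finrank_range_add_finrank_ker Φ
    have h3 := LinearMap.finrank_range_add_finrank_ker (Matrix.toLin' A)
    rw [hker] at h2
    unfold blockRank
    rw [← h1]
    omega
  have hproj : LinearMap.IsProj (LinearMap.range (Matrix.toLin' A)) (Matrix.toLin' A) := by
    rw [LinearMap.isProj_range_iff_isIdempotentElem, IsIdempotentElem, Module.End.mul_eq_comp,
      ← Matrix.toLin'_mul, hAA]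
  have htr := hproj.trace
  rw [Matrix.trace_toLin'_eq, ← hrange] at htr
  rw [← htr, Matrix.trace, Finset.mul_sum,
    Finset.sum_subtype (p := (· ∈ B)) _ (fun η => by simp)]
  refine Finset.sum_congr rfl fun χ _ => ?_
  show (Nat.card G : ℂ) * (regSum p (χ.1 : G → ℂ) (χ.1 : G → ℂ) / (Nat.card G : ℂ)) = _
  field_simp

/-- The sum of the regular ranks of the blocks of `C` inducing a block inside `U`. -/
noncomputable def subsectionRank (p : ℕ) (M : Ideal AlgInt) (C : Subgroup G)
    (U : Set (IrrCharacter G)) : ℕ :=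
  ∑ γ ∈ (Set.toFinite {γ : Set (IrrCharacter C) | ∃ B, IsInducedBlock M C γ B ∧ B ⊆ U}).toFinset,
    blockRank p γ

/-- The square sum of a union of blocks on the section of a `p`-element. -/
theorem section_square_sum_union (hM : IsPModular p M) {v : G} {k : ℕ} (hv : orderOf v = p ^ k)
    {C : Subgroup G} [Fintype C] (hC : C = Subgroup.centralizer ({v} : Set G))
    {U : Set (IrrCharacter G)} (hU : IsBlockUnion M U) [DecidablePred (· ∈ U)] :
    ∑ χ ∈ Finset.univ.filter (· ∈ U),
        regSum p (fun y : C => (χ : G → ℂ) (v * (y : G))) (fun y : C => (χ : G → ℂ) (v * (y : G)))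
      = (Nat.card C : ℂ) * (subsectionRank p M C U : ℂ) := by
  classical
  haveI : M.IsPrime := hM.2.1.isPrime
  set T := (Finset.univ.filter (· ∈ U)).image (fun χ : IrrCharacter G => blockOf M (χ : G → ℂ))
    with hT
  have hTb : ∀ B, B ∈ T ↔ IsPBlock M B ∧ B ⊆ U := by
    intro B
    simp only [hT, Finset.mem_image, Finset.mem_filter, Finset.mem_univ, true_and]
    constructor
    · rintro ⟨χ, hχ, rfl⟩
      exact ⟨⟨χ, rfl⟩, hU χ hχ⟩
    · rintro ⟨hB, hsub⟩
      obtain ⟨χ, hχ⟩ := pBlock_nonempty hB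
      exact ⟨χ, hsub hχ, (pBlock_eq hB hχ).symm⟩
  rw [← Finset.sum_fiberwise_of_maps_to (t := T)
    (g := fun χ : IrrCharacter G => blockOf M (χ : G → ℂ))
    (fun χ hχ => Finset.mem_image_of_mem _ hχ)]
  have hfib : ∀ B ∈ T, ∑ χ ∈ (Finset.univ.filter fun χ : IrrCharacter G => χ ∈ U).filter
        (fun χ : IrrCharacter G => blockOf M (χ : G → ℂ) = B),
        regSum p (fun y : C => (χ : G → ℂ) (v * (y : G))) (fun y : C => (χ : G → ℂ) (v * (y : G)))
      = (Nat.card C : ℂ) *
        ((∑ γ ∈ (Set.toFinite {γ : Set (IrrCharacter C) | IsInducedBlock M C γ B}).toFinset,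
          blockRank p γ : ℕ) : ℂ) := by
    intro B hB
    obtain ⟨hB1, hB2⟩ := (hTb B).1 hB
    rw [← finsum_mem_eq_finite_toFinset_sum, ← SecCount.section_square_sum hM hv hC hB1]
    refine Finset.sum_congr ?_ fun _ _ => rfl
    ext χ
    simp only [Finset.mem_filter, Finset.mem_univ, true_and]
    constructor
    · rintro ⟨-, rfl⟩
      exact mem_blockOf_self χ
    · intro hχ
      exact ⟨hB2 hχ, (pBlock_eq hB1 hχ).symm⟩
  rw [Finset.sum_congr rfl hfib, ← Finset.mul_sum, ← Nat.cast_sum]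
  congr 2
  rw [subsectionRank, ← Finset.sum_biUnion]
  · refine Finset.sum_congr ?_ fun _ _ => rfl
    ext γ
    simp only [Finset.mem_biUnion, Set.Finite.mem_toFinset, Set.mem_setOf_eq]
    exact ⟨fun ⟨B, hB, h⟩ => ⟨B, h, ((hTb B).1 hB).2⟩,
      fun ⟨B, h, hB⟩ => ⟨B, (hTb B).2 ⟨h.2.1, hB⟩, h⟩⟩
  · intro B _ B' _ hne
    simp only [Function.onFun, Finset.disjoint_left, Set.Finite.mem_toFinset, Set.mem_setOf_eq]
    exact fun γ h h' => hne (isInducedBlock_unique h h')

/-- Members minus regular rank of a union of blocks, as a sum over the nontrivial `p`-elements. -/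
theorem card_sub_blockRank_eq_sum (hM : IsPModular p M) {U : Set (IrrCharacter G)}
    (hU : IsBlockUnion M U) (S : Finset G) (hS : ∀ v, v ∈ S ↔ v ≠ 1 ∧ ∃ k : ℕ, orderOf v = p ^ k) :
    (Nat.card G : ℤ) * ((Nat.card U : ℤ) - (blockRank p U : ℤ)) =
      ∑ v ∈ S, (Nat.card (Subgroup.centralizer ({v} : Set G)) : ℤ) *
        (subsectionRank p M (Subgroup.centralizer ({v} : Set G)) U : ℤ) := by
  classical
  haveI : M.IsPrime := hM.2.1.isPrime
  haveI : Fact p.Prime := ⟨hM.1⟩
  refine Int.cast_injective (α := ℂ) ?_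
  push_cast
  rw [mul_sub, card_mul_blockRank_of_integral hM hU.memLocalRing]
  have hcard : (Nat.card G : ℂ) * (Nat.card U : ℂ) = ∑ χ ∈ Finset.univ.filter (· ∈ U),
      ∑ g : G, (χ : G → ℂ) g * conj ((χ : G → ℂ) g) := by
    have h : ∀ χ : IrrCharacter G, ∑ g : G, (χ : G → ℂ) g * conj ((χ : G → ℂ) g) = Nat.card G := by
      intro χ
      rw [Char.sum_mul_conj_eq_card_mul_classInner, Char.classInner_irrCharacter, if_pos rfl,
        mul_one]
    rw [Finset.sum_congr rfl fun χ _ => h χ, Finset.sum_const, nsmul_eq_mul, mul_comm]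
    congr 2
    rw [Nat.card_eq_fintype_card, Fintype.card_subtype]
  rw [hcard]
  set F : G → ℂ := fun g => ∑ χ ∈ Finset.univ.filter (· ∈ U),
    (χ : G → ℂ) g * conj ((χ : G → ℂ) g) with hF
  have hsplit : (∑ χ ∈ Finset.univ.filter (· ∈ U), ∑ g : G, (χ : G → ℂ) g * conj ((χ : G → ℂ) g)) -
      ∑ χ ∈ Finset.univ.filter (· ∈ U), regSum p (χ : G → ℂ) (χ : G → ℂ) =
      ∑ g ∈ Finset.univ.filter (fun g : G => p ∣ orderOf g), F g := by
    simp only [regSum, hF]
    rw [Finset.sum_comm (s := Finset.univ.filter fun g : G => p ∣ orderOf g),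
      ← Finset.sum_sub_distrib]
    refine Finset.sum_congr rfl fun χ _ => ?_
    rw [sub_eq_iff_eq_add, Finset.sum_filter_add_sum_filter_not]
  rw [hsplit]
  have hmaps : ∀ g ∈ Finset.univ.filter (fun g : G => p ∣ orderOf g), Element.pPart p g ∈ S := by
    intro g hg
    refine (hS _).2 ⟨fun h => ?_, _, Element.orderOf_pPart_eq_pow hM.1 g⟩
    have h1 := Element.pPart_mul_pComplPart p g
    rw [h, one_mul] at h1
    have h2 := Element.coprime_orderOf_pComplPart hM.1 g
    rw [h1] at h2
    exact (hM.1.coprime_iff_not_dvd.1 h2.symm) (Finset.mem_filter.1 hg).2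
  rw [← Finset.sum_fiberwise_of_maps_to hmaps]
  refine Finset.sum_congr rfl fun v hv => ?_
  obtain ⟨hv1, k, hk⟩ := (hS v).1 hv
  haveI := Fintype.ofFinite (Subgroup.centralizer ({v} : Set G))
  rw [← section_square_sum_union hM hk rfl hU]
  have hk0 : p ∣ orderOf v := by
    rw [hk]
    refine dvd_pow_self p fun h0 => hv1 ?_
    rw [← orderOf_eq_one_iff, hk, h0, pow_zero]
  simp only [regSum, hF]
  rw [Finset.sum_comm (s := Finset.univ.filter fun χ : IrrCharacter G => χ ∈ U)]
  symm
  refine Finset.sum_bij' (fun y _ => v * (y : G))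
    (fun g hg => (⟨Element.pComplPart p g, Subgroup.mem_centralizer_singleton_iff.2 ?_⟩ :
      Subgroup.centralizer ({v} : Set G))) ?_ ?_ ?_ ?_ ?_
  · rw [← (Finset.mem_filter.1 hg).2]
    exact (Element.commute_pPart_pComplPart p g).symm
  · intro y hy
    have hy' : ¬ p ∣ orderOf (y : G) := by
      rw [Subgroup.orderOf_coe]; exact (Finset.mem_filter.1 hy).2
    have hc : Commute v (y : G) := (Subgroup.mem_centralizer_singleton_iff.1 y.2).symm
    refine Finset.mem_filter.2 ⟨Finset.mem_filter.2 ⟨Finset.mem_univ _, ?_⟩,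
      (Brauer.orderOf_mul_coprime_parts hk hy' hc).1⟩
    have hcop : (orderOf v).Coprime (orderOf (y : G)) := by
      rw [hk]; exact (hM.1.coprime_iff_not_dvd.2 hy').pow_left k
    rw [hc.orderOf_mul_eq_mul_orderOf_of_coprime hcop]
    exact hk0.mul_right _
  · intro g hg
    refine Finset.mem_filter.2 ⟨Finset.mem_univ _, ?_⟩
    rw [← Subgroup.orderOf_coe]
    exact hM.1.coprime_iff_not_dvd.1 (Element.coprime_orderOf_pComplPart hM.1 g).symm
  · intro y hy
    refine Subtype.ext (Brauer.orderOf_mul_coprime_parts hk ?_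
      (Subgroup.mem_centralizer_singleton_iff.1 y.2).symm).2
    rw [Subgroup.orderOf_coe]; exact (Finset.mem_filter.1 hy).2
  · intro g hg
    dsimp only
    conv_rhs => rw [← Element.pPart_mul_pComplPart p g]
    rw [(Finset.mem_filter.1 hg).2]
  · intro y _; rfl

/-- Transitivity of block induction, in both directions. -/
theorem isInducedBlock_trans_iff [M.IsPrime] {L N : Subgroup G} (hLN : L ≤ N)
    {γ : Set (IrrCharacter L)} {β : Set (IrrCharacter N)} {B : Set (IrrCharacter G)}
    (hγ : IsPBlock M γ)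
    (hβ : IsInducedBlock M (L.subgroupOf N) (irrComp (Subgroup.subgroupOfEquivOfLe hLN) '' γ) β) :
    IsInducedBlock M L γ B ↔ IsInducedBlock M N β B := by
  classical
  refine ⟨fun h => Brauer.isInducedBlock_trans hLN h hβ, fun h => ⟨hγ, h.2.1, ?_⟩⟩
  haveI := Fintype.ofFinite L
  haveI := Fintype.ofFinite N
  haveI := Fintype.ofFinite (L.subgroupOf N)
  intro ξ hξ χ hχ g
  obtain ⟨η, hη⟩ := pBlock_nonempty hβ.2.1
  have h1 := Brauer.omega_restr_sub_mem_of_induced (L.subgroupOf N) hβ (Set.mem_image_of_mem _ hξ) hη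
    ((classSum_isCentralElt (R := localRing M) g).restr N)
  have h2 := h.2.2 η hη χ hχ g
  rw [Brauer.inducedCentralChar_eq_omega (M := M)] at h2 ⊢
  have e : omega (irrComp (Subgroup.subgroupOfEquivOfLe hLN) ξ : L.subgroupOf N → ℂ)
      (toC M (restr (L.subgroupOf N) (restr N (classSum (localRing M) g))))
      = omega (ξ : L → ℂ) (toC M (restr L (classSum (localRing M) g))) := by
    rw [omega_eq_sum, omega_eq_sum, Brauer.coe_irrComp, Function.comp_apply, map_one]
    congr 1
    refine Fintype.sum_equiv (Subgroup.subgroupOfEquivOfLe hLN).toEquiv _ _ fun x => ?_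
    simp only [mapR_restr, coeff_restr, Function.comp_apply, MulEquiv.coe_toEquiv]
    rfl
  rw [e] at h1
  simpa using memLocalIdeal_add h1 h2

/-- The characters of `H` in blocks inducing `b`. -/
def overBlock (M : Ideal AlgInt) (H : Subgroup G) (b : Set (IrrCharacter G)) :
    Set (IrrCharacter H) :=
  {ψ | ∃ β : Set (IrrCharacter H), ψ ∈ β ∧ IsInducedBlock M H β b}

theorem isBlockUnion_overBlock [M.IsPrime] (H : Subgroup G) [Fintype H] (b : Set (IrrCharacter G)) :
    IsBlockUnion M (overBlock M H b) := by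
  rintro ψ ⟨β, hψ, hβ⟩ ψ' hψ'
  exact ⟨β, by rw [pBlock_eq hβ.1 hψ]; exact hψ', hβ⟩

theorem subset_overBlock_iff [M.IsPrime] (H : Subgroup G) [Fintype H] {β : Set (IrrCharacter H)}
    (hβ : IsPBlock M β) (b : Set (IrrCharacter G)) :
    β ⊆ overBlock M H b ↔ IsInducedBlock M H β b := by
  refine ⟨fun h => ?_, fun h ψ hψ => ⟨β, hψ, h⟩⟩
  obtain ⟨ψ, hψ⟩ := pBlock_nonempty hβ
  obtain ⟨β', hψ', hβ'⟩ := h hψ
  rwa [pBlock_eq_of_mem hβ hβ'.1 hψ hψ']

/-- The subsection ranks of `overBlock` depend only on the centralizer as a subgroup of `G`. -/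
theorem subsectionRank_overBlock (hM : IsPModular p M) {H : Subgroup G} [Fintype H] {v : H}
    {k : ℕ} (hv : orderOf v = p ^ k) {b : Set (IrrCharacter G)} (hb : IsPBlock M b) :
    subsectionRank p M (Subgroup.centralizer ({v} : Set H)) (overBlock M H b) =
      subsectionRank p M (H ⊓ Subgroup.centralizer ({(v : G)} : Set G)) b ∧
    Nat.card (Subgroup.centralizer ({v} : Set H)) =
      Nat.card ↥(H ⊓ Subgroup.centralizer ({(v : G)} : Set G)) := by
  classical
  haveI : M.IsPrime := hM.2.1.isPrime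
  haveI : Fact p.Prime := ⟨hM.1⟩
  set L := H ⊓ Subgroup.centralizer ({(v : G)} : Set G) with hL
  have hLH : L ≤ H := inf_le_left
  have hC : Subgroup.centralizer ({v} : Set H) = L.subgroupOf H := by
    ext h
    rw [Subgroup.mem_subgroupOf, hL, Subgroup.mem_inf, Subgroup.mem_centralizer_singleton_iff,
      Subgroup.mem_centralizer_singleton_iff]
    exact ⟨fun e => ⟨h.2, congrArg Subtype.val e⟩, fun e => Subtype.ext e.2⟩
  refine ⟨?_, by rw [hC]; exact Nat.card_congr (Subgroup.subgroupOfEquivOfLe hLH).toEquiv⟩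
  have hPg : IsPGroup p (Subgroup.zpowers v) := isPGroup_zpowers ⟨k, hv⟩
  have hCP : Subgroup.centralizer (Subgroup.zpowers v : Set H) = L.subgroupOf H :=
    (Brauer.centralizer_zpowers_eq v).trans hC
  haveI := Fintype.ofFinite L
  haveI := Fintype.ofFinite (L.subgroupOf H)
  set e := Subgroup.subgroupOfEquivOfLe hLH with he
  have hdef : ∀ γ : Set (IrrCharacter (L.subgroupOf H)), IsPBlock M γ →
      ∃ β, IsInducedBlock M (L.subgroupOf H) γ β := fun γ hγ =>
    inducedBlockDefined_of_brauer hM hPg (Subgroup.zpowers_le.2 (SecCount.mem_C hC.symm)) hCP.le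
      (hCP ▸ Subgroup.centralizer_le_normalizer _) hγ
  rw [hC, subsectionRank, subsectionRank]
  symm
  refine Finset.sum_bij (fun γ _ => irrComp e '' γ) ?_ ?_ ?_ ?_
  · intro γ hγ
    obtain ⟨B, hB, hBb⟩ := (Set.Finite.mem_toFinset _).1 hγ
    obtain ⟨χ, hχ⟩ := pBlock_nonempty hB.2.1
    have hBe : B = b := pBlock_eq_of_mem hB.2.1 hb hχ (hBb hχ)
    obtain ⟨β, hβ⟩ := hdef _ (Brauer.isPBlock_image_irrComp e hB.1)
    refine (Set.Finite.mem_toFinset _).2 ⟨β, hβ, (subset_overBlock_iff H hβ.2.1 b).2 ?_⟩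
    exact hBe ▸ (isInducedBlock_trans_iff hLH hB.1 hβ).1 hB
  · intro γ _ γ' _ h
    exact (irrComp e).injective.image_injective h
  · intro δ hδ
    obtain ⟨β, hβ, hsub⟩ := (Set.Finite.mem_toFinset _).1 hδ
    have hγ : IsPBlock M (irrComp e.symm '' δ) := Brauer.isPBlock_image_irrComp e.symm hβ.1
    have hback : irrComp e '' (irrComp e.symm '' δ) = δ := by
      rw [Set.image_image]
      refine (Set.image_congr fun χ _ => ?_).trans (Set.image_id' δ)
      refine Subtype.ext (funext fun x => ?_)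
      simp [Brauer.coe_irrComp]
    refine ⟨_, (Set.Finite.mem_toFinset _).2 ⟨b, ?_, subset_rfl⟩, hback⟩
    exact (isInducedBlock_trans_iff hLH hγ (hback.symm ▸ hβ)).2
      ((subset_overBlock_iff H hβ.2.1 b).1 hsub)
  · intro γ _
    exact (blockRank_image_irrComp e γ).symm

/-- The alternating sum of members minus rank over chains of `p`-subgroups normal in their top
member. -/
theorem card_sub_blockRank_eq_chain_sum (hM : IsPModular p M) {b : Set (IrrCharacter G)}
    (hb : IsPBlock M b) (Ch : Finset (Finset (Subgroup G)))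
    (hCh : ∀ s, s ∈ Ch ↔ IsTopNormalChain p s) :
    (Nat.card G : ℤ) * ((Nat.card b : ℤ) - (blockRank p b : ℤ)) =
      ∑ s ∈ Ch, (-1 : ℤ) ^ (s.card - 1) * (Nat.card (chainNorm s) : ℤ) *
        ((Nat.card (overBlock M (chainNorm s) b) : ℤ) -
          (blockRank p (overBlock M (chainNorm s) b) : ℤ)) := by
  classical
  haveI : M.IsPrime := hM.2.1.isPrime
  haveI : Fact p.Prime := ⟨hM.1⟩
  set S := Finset.univ.filter (fun v : G => v ≠ 1 ∧ ∃ k : ℕ, orderOf v = p ^ k) with hSdef
  have hS : ∀ v, v ∈ S ↔ v ≠ 1 ∧ ∃ k : ℕ, orderOf v = p ^ k := fun v => by simp [hSdef]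
  have hbU : IsBlockUnion M b := fun χ hχ => le_of_eq (pBlock_eq hb hχ).symm
  rw [card_sub_blockRank_eq_sum hM hbU S hS]
  set W : Subgroup G → ℤ := fun L => (Nat.card L : ℤ) * (subsectionRank p M L b : ℤ) with hW
  have hloc : ∀ s ∈ Ch, (Nat.card (chainNorm s) : ℤ) *
        ((Nat.card (overBlock M (chainNorm s) b) : ℤ) -
          (blockRank p (overBlock M (chainNorm s) b) : ℤ)) =
      ∑ v ∈ S.filter (· ∈ chainNorm s),
        W (chainNorm s ⊓ Subgroup.centralizer ({v} : Set G)) := by
    intro s _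
    set H := chainNorm s with hH
    haveI := Fintype.ofFinite H
    set SH := Finset.univ.filter (fun v : H => v ≠ 1 ∧ ∃ k : ℕ, orderOf v = p ^ k) with hSH
    rw [card_sub_blockRank_eq_sum hM (isBlockUnion_overBlock H b) SH (fun v => by simp [hSH])]
    refine Finset.sum_bij (fun v _ => (v : G)) ?_ ?_ ?_ ?_
    · intro v hv
      simp only [hSH, Finset.mem_filter, Finset.mem_univ, true_and] at hv
      refine Finset.mem_filter.2 ⟨(hS _).2 ⟨?_, ?_⟩, v.2⟩
      · exact fun h => hv.1 (Subtype.ext h)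
      · rw [Subgroup.orderOf_coe]; exact hv.2
    · intro v _ v' _ h
      exact Subtype.ext h
    · intro v hv
      obtain ⟨hvS, hvH⟩ := Finset.mem_filter.1 hv
      obtain ⟨hv1, k, hk⟩ := (hS v).1 hvS
      refine ⟨⟨v, hvH⟩, ?_, rfl⟩
      simp only [hSH, Finset.mem_filter, Finset.mem_univ, true_and]
      refine ⟨fun h => hv1 (congrArg Subtype.val h), k, ?_⟩
      rw [← Subgroup.orderOf_coe]; exact hk
    · intro v hv
      simp only [hSH, Finset.mem_filter, Finset.mem_univ, true_and] at hv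
      obtain ⟨-, k, hk⟩ := hv
      obtain ⟨h1, h2⟩ := subsectionRank_overBlock hM hk hb
      simp only [hW]
      rw [h1, h2]
  symm
  rw [Finset.sum_congr rfl fun s hs => by rw [mul_assoc, hloc s hs, Finset.mul_sum]]
  rw [Finset.sum_comm' (t' := S) (s' := fun v => Ch.filter fun s => v ∈ chainNorm s)
    (fun s v => by simp only [Finset.mem_filter]; tauto)]
  refine Finset.sum_congr rfl fun v hv => ?_
  obtain ⟨hv1, hvp⟩ := (hS v).1 hv
  exact sum_chains_toggle hvp hv1 _ (fun s => by rw [Finset.mem_filter, hCh]) W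

end Cfsg.Agent.BlockCover
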