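import Cfsg.Agent.Brauer.FrobTrace

/-!
# High `p`-power powers in a group ring on the `p`-singular classes

A class function vanishing on the `p`-regular elements pairs with a `p ^ j`-th power to a
multiple of `p ^ (j - e)`, `p ^ e` the order of a Sylow `p`-subgroup: the terms of the power are
permuted by rotation, and a short orbit has a product which is a high `p`-th power.
-/

set_option linter.style.haveILetI false
set_option linter.unusedSectionVars false

namespace Cfsg.Agent.BlockCover

open MonoidAlgebra

/-- An invariant function vanishing on the short orbits of a `p`-group sums to a multiple of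
the least long orbit length. -/
theorem pow_dvd_sum_of_orbits {R : Type*} [CommRing R] {p : ℕ} [hp : Fact p.Prime] {A : Type*}
    [Group A] [Finite A] (hA : IsPGroup p A) {X : Type*} [Fintype X] [MulAction A X] {f : X → R}
    (hinv : ∀ (a : A) (x : X), f (a • x) = f x) (d : ℕ)
    (hshort : ∀ x : X, ¬ p ^ d ∣ Nat.card (MulAction.orbit A x) → f x = 0) :
    (p : R) ^ d ∣ ∑ x, f x := by
  classical
  rw [← Finset.sum_fiberwise Finset.univ (fun x : X => MulAction.orbit A x) f |>.trans rfl]
  refine Finset.dvd_sum fun O _ => ?_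
  by_cases hO : (Finset.univ.filter fun x : X => MulAction.orbit A x = O).Nonempty
  · obtain ⟨x, hx⟩ := hO
    rw [Finset.mem_filter] at hx
    have hval : ∀ y ∈ Finset.univ.filter (fun y : X => MulAction.orbit A y = O), f y = f x := by
      intro y hy
      rw [Finset.mem_filter, ← hx.2] at hy
      have hy' : y ∈ MulAction.orbit A x := hy.2 ▸ MulAction.mem_orbit_self y
      obtain ⟨a, rfl⟩ := hy'
      exact hinv a x
    rw [Finset.sum_congr rfl hval, Finset.sum_const, nsmul_eq_mul]
    by_cases hd : p ^ d ∣ Nat.card (MulAction.orbit A x)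
    · refine Dvd.dvd.mul_right ?_ _
      have he : (Finset.univ.filter fun y : X => MulAction.orbit A y = O).card =
          Nat.card (MulAction.orbit A x) := by
        rw [Nat.card_eq_fintype_card, ← Set.toFinset_card]
        congr 1
        ext y
        simp only [Finset.mem_filter, Finset.mem_univ, true_and, Set.mem_toFinset, ← hx.2]
        exact MulAction.orbit_eq_iff
      rw [he, ← Nat.cast_pow]
      exact Nat.cast_dvd_cast hd
    · rw [hshort x hd, mul_zero]
      exact dvd_zero _
  · rw [Finset.not_nonempty_iff_eq_empty.1 hO, Finset.sum_empty]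
    exact dvd_zero _

variable {G R : Type*} [Group G] [Fintype G] [CommRing R]

/-- The product along a periodic word is a power of the product along a period. -/
theorem prod_map_range_periodic (w : ℕ → G) (m : ℕ) (hw : ∀ i, w (i + m) = w i) :
    ∀ q : ℕ, ((List.range (q * m)).map w).prod = ((List.range m).map w).prod ^ q
  | 0 => by simp
  | q + 1 => by
    have hw' : ∀ q i, w (q * m + i) = w i := by
      intro q
      induction q with
      | zero => intro i; simp
      | succ q ih =>
        intro i
        rw [show (q + 1) * m + i = q * m + i + m by ring, hw, ih]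
    rw [show (q + 1) * m = q * m + m by ring, List.range_add, List.map_append, List.prod_append,
      prod_map_range_periodic w m hw q, List.map_map, pow_succ]
    congr 2
    exact List.map_congr_left fun i _ => hw' q i

/-- `p ^ j`-th powers are small on the `p`-singular classes. -/
theorem pow_dvd_sum_coeff_pow_mul {p : ℕ} [hp : Fact p.Prime] (F : G → R)
    (hclass : ∀ g h : G, F (h * g * h⁻¹) = F g) (hF : ∀ g : G, ¬ p ∣ orderOf g → F g = 0) (e : ℕ)
    (he : (Nat.card G).factorization p ≤ e) (x : MonoidAlgebra R G) (j : ℕ) :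
    (p : R) ^ (j - e) ∣ ∑ g, (x ^ p ^ j).coeff g * F g := by
  classical
  haveI : NeZero (p ^ j) := ⟨pow_ne_zero _ hp.out.ne_zero⟩
  let pr : (ZMod (p ^ j) → G) → G := fun v => ((List.range (p ^ j)).map fun i : ℕ => v i).prod
  let f : (ZMod (p ^ j) → G) → R := fun v => (∏ i, x.coeff (v i)) * F (pr v)
  have h1 : ∑ g, (x ^ p ^ j).coeff g * F g = ∑ v, f v := by
    rw [Brauer.pow_eq_sum_tuples]
    simp only [coeff_sum, Finsupp.coe_finsetSum, Finset.sum_apply, coeff_single, Finset.sum_mul]
    rw [Finset.sum_comm]
    have key : ∀ v : Fin (p ^ j) → G, (∑ g, Finsupp.single (List.ofFn v).prod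
        (∏ i, x.coeff (v i)) g * F g) = (∏ i, x.coeff (v i)) * F (List.ofFn v).prod := by
      intro v
      simp [Finsupp.single_apply]
    simp only [key]
    let e : Fin (p ^ j) ≃ ZMod (p ^ j) := (ZMod.finEquiv (p ^ j)).toEquiv
    have he : ∀ i : Fin (p ^ j), e i = ((i : ℕ) : ZMod (p ^ j)) := by
      intro i
      have : ∀ (n : ℕ) [NeZero n] (i : Fin n), ZMod.finEquiv n i = ((i : ℕ) : ZMod n) := by
        intro n _ i
        obtain ⟨m, rfl⟩ : ∃ m, n = m + 1 := ⟨n - 1, (Nat.succ_pred_eq_of_ne_zero (NeZero.ne n)).symm⟩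
        exact (Fin.cast_val_eq_self i).symm
      exact this _ i
    refine Fintype.sum_equiv (e.arrowCongr (Equiv.refl G)) _ _ fun v => ?_
    have hpr : pr (e.arrowCongr (Equiv.refl G) v) = (List.ofFn v).prod := by
      have : v = fun i : Fin (p ^ j) => e.arrowCongr (Equiv.refl G) v ((i : ℕ) : ZMod (p ^ j)) := by
        funext i; simp [← he]
      conv_rhs => rw [this, List.ofFn_eq_map]
      simp only [pr, ← List.map_coe_finRange_eq_range, List.map_map, Function.comp_def]
    simp only [f]
    rw [hpr]
    congr 1
    exact Fintype.prod_equiv e _ _ (fun i => by simp)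
  rw [h1]
  letI : MulAction (Multiplicative (ZMod (p ^ j))) (ZMod (p ^ j) → G) :=
    { smul := fun u v i => v (i + u.toAdd)
      one_smul := fun v => funext fun i => congrArg v (by simp)
      mul_smul := fun u w v => funext fun i => congrArg v (by simp [add_assoc]) }
  have hsmul : ∀ (u : Multiplicative (ZMod (p ^ j))) (v : ZMod (p ^ j) → G) (i : ZMod (p ^ j)),
      (u • v) i = v (i + u.toAdd) := fun _ _ _ => rfl
  have hrot : ∀ v : ZMod (p ^ j) → G, pr (fun i => v (i + 1)) = (v 0)⁻¹ * pr v * v 0 := by
    intro v
    have a := congrArg List.prod (congrArg (List.map fun i : ℕ => v i)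
      (List.range_succ (n := p ^ j)))
    have b := congrArg List.prod (congrArg (List.map fun i : ℕ => v i)
      (List.range_succ_eq_map (n := p ^ j)))
    rw [a] at b
    simp only [List.map_append, List.prod_append, List.map_cons, List.map_nil, List.prod_cons,
      List.prod_nil, mul_one, List.map_map, ZMod.natCast_self, Nat.cast_zero] at b
    rw [mul_assoc, eq_inv_mul_iff_mul_eq, b]
    simp only [pr, Function.comp_def, Nat.succ_eq_add_one, Nat.cast_add, Nat.cast_one]
  refine pow_dvd_sum_of_orbits (A := Multiplicative (ZMod (p ^ j)))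
    (IsPGroup.of_card (n := j) (by simp [Nat.card_zmod])) ?_ _ ?_
  · intro u v
    have hF1 : ∀ (m : ℕ) (v : ZMod (p ^ j) → G),
        F (pr fun i => v (i + (m : ZMod (p ^ j)))) = F (pr v) := by
      intro m
      induction m with
      | zero => intro v; simp
      | succ m ih =>
        intro v
        have hs : (fun i => v (i + ((m + 1 : ℕ) : ZMod (p ^ j))))
            = fun i => (fun l => v (l + 1)) (i + (m : ZMod (p ^ j))) := by
          funext i; push_cast; rw [add_assoc]
        rw [hs, ih (fun l => v (l + 1)), hrot]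
        have := hclass (pr v) (v 0)⁻¹
        rwa [inv_inv] at this
    obtain ⟨m, hm⟩ : ∃ m : ℕ, (m : ZMod (p ^ j)) = u.toAdd := ⟨_, ZMod.natCast_zmod_val _⟩
    simp only [f]
    have h2 : pr (u • v) = pr fun i => v (i + (m : ZMod (p ^ j))) := by
      rw [show u • v = fun i => v (i + (m : ZMod (p ^ j))) from funext fun i => by rw [hsmul, hm]]
    rw [h2, hF1]
    congr 1
    exact Fintype.prod_equiv (Equiv.addRight u.toAdd) _ _ fun i => rfl
  · intro v hv
    set A := Multiplicative (ZMod (p ^ j))
    set S := MulAction.stabilizer A v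
    have hcard : Nat.card (MulAction.orbit A v) = S.index := (MulAction.index_stabilizer A v).symm
    obtain ⟨i, hij, hi⟩ : ∃ i ≤ j, S.index = p ^ i := by
      refine (Nat.dvd_prime_pow hp.out).1 ?_
      have := S.index_dvd_card
      rwa [Nat.card_eq_fintype_card, Fintype.card_multiplicative, ZMod.card] at this
    rw [hcard, hi, Nat.pow_dvd_pow_iff_le_right hp.out.one_lt, not_le] at hv
    have hmem : Multiplicative.ofAdd ((p ^ i : ℕ) : ZMod (p ^ j)) ∈ S := by
      have := S.pow_index_mem (Multiplicative.ofAdd (1 : ZMod (p ^ j)))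
      rw [hi, ← ofAdd_nsmul, nsmul_one] at this
      exact this
    have hper : ∀ l : ℕ, (fun l : ℕ => v (l : ZMod (p ^ j))) (l + p ^ i) =
        (fun l : ℕ => v (l : ZMod (p ^ j))) l := by
      intro l
      have h3 := congrFun (MulAction.mem_stabilizer_iff.1 hmem) (l : ZMod (p ^ j))
      rw [hsmul, toAdd_ofAdd] at h3
      simpa [Nat.cast_add] using h3
    have hpr : pr v = ((List.range (p ^ i)).map fun l : ℕ => v l).prod ^ p ^ (j - i) := by
      show ((List.range (p ^ j)).map fun l : ℕ => v l).prod = _
      have hji : p ^ j = p ^ (j - i) * p ^ i := by rw [← pow_add, Nat.sub_add_cancel hij]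
      conv_lhs => rw [show List.range (p ^ j) = List.range (p ^ (j - i) * p ^ i) from
        congrArg List.range hji]
      exact prod_map_range_periodic (fun l : ℕ => v l) (p ^ i) hper (p ^ (j - i))
    refine mul_eq_zero_of_right _ (hF _ ?_)
    rw [hpr]
    set h := ((List.range (p ^ i)).map fun l : ℕ => v l).prod
    intro hdvd
    have ho := orderOf_dvd_natCard h
    rw [orderOf_pow' h (pow_ne_zero _ hp.out.ne_zero)] at hdvd
    have h4 : p * Nat.gcd (orderOf h) (p ^ (j - i)) ∣ orderOf h :=
      (Nat.dvd_div_iff_mul_dvd (Nat.gcd_dvd_left _ _)).1 hdvd |> fun t => by rwa [mul_comm] at t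
    obtain ⟨t, ht, hgcd⟩ := (Nat.dvd_prime_pow hp.out).1 (Nat.gcd_dvd_right (orderOf h) (p ^ (j - i)))
    rw [hgcd] at h4
    have ht1 : t + 1 ≤ e := by
      refine le_trans ?_ he
      exact (hp.out.pow_dvd_iff_le_factorization Nat.card_pos.ne').1
        ((by rwa [pow_succ, mul_comm] : p ^ (t + 1) ∣ orderOf h).trans ho)
    have h5 : p ^ (t + 1) ∣ Nat.gcd (orderOf h) (p ^ (j - i)) :=
      Nat.dvd_gcd (by rwa [pow_succ, mul_comm]) (pow_dvd_pow _ (by omega))
    rw [hgcd, Nat.pow_dvd_pow_iff_le_right hp.out.one_lt] at h5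
    omega

end Cfsg.Agent.BlockCover
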