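import Cfsg.Agent.Brauer.CoveringPIndex
import Cfsg.Agent.Block.DefectGroup
import Mathlib.Algebra.Algebra.Operations
import Mathlib.RingTheory.Nilpotent.Lemmas
import Mathlib.RingTheory.Noetherian.Nilpotent

/-!
# Defect groups of covering blocks meet the normal subgroup in a defect group (Knörr)
-/

set_option linter.style.haveILetI false
set_option linter.unusedSectionVars false

namespace Cfsg.Agent.BlockCover

open Cfsg MonoidAlgebra
open Cfsg.Agent.Block
open scoped ComplexConjugate

universe u

variable {G : Type u} [Group G] [Fintype G]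

theorem isInvariant_mul {R : Type*} [CommRing R] {P : Subgroup G} {a b : MonoidAlgebra R G}
    (ha : IsInvariant P a) (hb : IsInvariant P b) : IsInvariant P (a * b) := by
  intro u hu g
  rw [coeff_mul_sum, coeff_mul_sum]
  refine Fintype.sum_equiv (MulAut.conj u⁻¹).toEquiv _ _ fun x => ?_
  change _ = a.coeff (u⁻¹ * x * u⁻¹⁻¹) * b.coeff ((u⁻¹ * x * u⁻¹⁻¹)⁻¹ * g)
  rw [← ha u hu (u⁻¹ * x * u⁻¹⁻¹), ← hb u hu ((u⁻¹ * x * u⁻¹⁻¹)⁻¹ * g)]
  congr 2 <;> group

theorem mem_centralizer_map_conj_iff (Q : Subgroup G) (x g : G) :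
    g ∈ Subgroup.centralizer ((Q.map (MulAut.conj x).toMonoidHom : Subgroup G) : Set G) ↔
      x⁻¹ * g * x ∈ Subgroup.centralizer (Q : Set G) := by
  constructor
  · intro h u hu
    have h1 := h (x * u * x⁻¹) ⟨u, hu, rfl⟩
    calc u * (x⁻¹ * g * x) = x⁻¹ * ((x * u * x⁻¹) * g) * x := by group
      _ = x⁻¹ * (g * (x * u * x⁻¹)) * x := by rw [h1]
      _ = x⁻¹ * g * x * u := by group
  · rintro h _ ⟨u, hu, rfl⟩
    change x * u * x⁻¹ * g = g * (x * u * x⁻¹)
    have h1 := h u hu
    calc x * u * x⁻¹ * g = x * (u * (x⁻¹ * g * x)) * x⁻¹ := by group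
      _ = x * (x⁻¹ * g * x * u) * x⁻¹ := by rw [h1]
      _ = g * (x * u * x⁻¹) := by group

variable {p : ℕ} [Fact p.Prime] {M : Ideal AlgInt} [M.IsPrime]
variable (N : Subgroup G) [hN : N.Normal] [Fintype N]

/-- The idempotent of the orbit of a block of a normal subgroup, inside the group algebra. -/
theorem exists_orbitBlockIdem {b : Set (IrrCharacter N)} (hb : IsPBlock M b) :
    ∃ z : MonoidAlgebra (localRing M) G, IsCentralElt z ∧ (∀ g ∉ N, z.coeff g = 0) ∧
      toC M (restr N z) = blockIdem (Brauer.conjOrbit N b) ∧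
      ∀ n : N, ((z.coeff (n : G) : localRing M) : ℂ) = blockCoeff (Brauer.conjOrbit N b) n := by
  classical
  let z : MonoidAlgebra (localRing M) G := ofFn fun g =>
    if hg : g ∈ N then ⟨blockCoeff (Brauer.conjOrbit N b) ⟨g, hg⟩,
      Brauer.blockCoeff_conjOrbit_memLocalRing N hb _⟩ else 0
  have hcoe : ∀ n : N, ((z.coeff (n : G) : localRing M) : ℂ) =
      blockCoeff (Brauer.conjOrbit N b) n := fun n => by
    simp only [z, coeff_ofFn, dif_pos n.2]
  refine ⟨z, ?_, fun g hg => by simp only [z, coeff_ofFn, dif_neg hg], ?_, hcoe⟩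
  · intro g x
    simp only [z, coeff_ofFn]
    by_cases hg : g ∈ N
    · rw [dif_pos hg, dif_pos (hN.conj_mem g hg x)]
      exact Subtype.ext (Brauer.blockCoeff_conjOrbit_conj N x ⟨g, hg⟩)
    · rw [dif_neg hg, dif_neg]
      intro h
      exact hg (by simpa [mul_assoc] using hN.conj_mem _ h x⁻¹)
  · exact groupAlgebra_ext fun n => by
      rw [coeff_mapR, coeff_restr, coeff_blockIdem]; exact hcoe n

/-- Coefficients of a conjugate block. -/
theorem blockCoeff_of_conjIrr_mem {b b' : Set (IrrCharacter N)} (hb : IsPBlock M b)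
    (hb' : IsPBlock M b') {η : IrrCharacter N} (hη : η ∈ b') {x : G}
    (hx : Brauer.conjIrr N x η ∈ b) (m : N) :
    blockCoeff b m = blockCoeff b' (⟨x * m * x⁻¹, hN.conj_mem m m.2 x⟩ : N) := by
  classical
  have hmap : ∀ θ : IrrCharacter N, Brauer.conjIrr N x θ ∈ b ↔ θ ∈ b' := by
    intro θ
    rw [pBlock_eq hb hx, pBlock_eq hb' hη, mem_blockOf_iff, mem_blockOf_iff]
    constructor
    · intro h
      have h1 := Brauer.sameBlock_conjChar N h x⁻¹
      change SameBlock M ((Brauer.conjIrr N x⁻¹ (Brauer.conjIrr N x η) : N → ℂ))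
        ((Brauer.conjIrr N x⁻¹ (Brauer.conjIrr N x θ) : N → ℂ)) at h1
      rwa [← Brauer.conjIrr_mul, ← Brauer.conjIrr_mul, mul_inv_cancel, Brauer.conjIrr_one,
        Brauer.conjIrr_one] at h1
    · exact fun h => Brauer.sameBlock_conjChar N h x
  let e : IrrCharacter N ≃ IrrCharacter N :=
    { toFun := Brauer.conjIrr N x
      invFun := Brauer.conjIrr N x⁻¹
      left_inv := fun η => by rw [← Brauer.conjIrr_mul, mul_inv_cancel, Brauer.conjIrr_one]
      right_inv := fun η => by rw [← Brauer.conjIrr_mul, inv_mul_cancel, Brauer.conjIrr_one] }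
  rw [blockCoeff_eq_sum, blockCoeff_eq_sum]
  congr 1
  symm
  refine Finset.sum_equiv e (fun θ => ?_) fun θ _ => ?_
  · simp only [Finset.mem_filter, Finset.mem_univ, true_and]
    exact (hmap θ).symm
  · change _ = CharInd.conjChar N x (θ : N → ℂ) 1 * conj (CharInd.conjChar N x (θ : N → ℂ) m)
    rw [CharInd.conjChar_apply, CharInd.conjChar_apply]
    congr 1
    exact congrArg _ (Subtype.ext (by simp))

/-- Blocks of the orbit exhaust the orbit's idempotent. -/
theorem exists_block_coeff_ne {b : Set (IrrCharacter N)} (hb : IsPBlock M b) {n : N}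
    (hn : ¬ MemLocalIdeal M (blockCoeff (Brauer.conjOrbit N b) n)) :
    ∃ x : G, ¬ MemLocalIdeal M
      (blockCoeff b (⟨x * n * x⁻¹, hN.conj_mem n n.2 x⟩ : N)) := by
  classical
  have hclosed : ∀ η η' : IrrCharacter N, η ∈ Brauer.conjOrbit N b →
      SameBlock M (η : N → ℂ) (η' : N → ℂ) → η' ∈ Brauer.conjOrbit N b := by
    rintro η η' ⟨x, hx⟩ hsb
    refine ⟨x, ?_⟩
    rw [pBlock_eq hb hx]
    exact Brauer.sameBlock_conjChar N hsb x
  have key : blockCoeff (Brauer.conjOrbit N b) n =
      ∑ b' ∈ (blocks M N).filter (fun b' => b' ⊆ Brauer.conjOrbit N b), blockCoeff b' n := by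
    simp only [blockCoeff_eq_sum, ← Finset.mul_sum]
    congr 1
    rw [← Finset.sum_fiberwise_of_maps_to
      (g := fun η : IrrCharacter N => blockOf M (η : N → ℂ))
      (t := (blocks M N).filter (fun b' => b' ⊆ Brauer.conjOrbit N b)) fun η hη => ?_]
    · refine Finset.sum_congr rfl fun b' hb' => Finset.sum_congr ?_ fun _ _ => rfl
      obtain ⟨hb'1, hb'2⟩ := Finset.mem_filter.1 hb'
      ext η
      simp only [Finset.mem_filter, Finset.mem_univ, true_and]
      exact ⟨fun h => h.2 ▸ mem_blockOf_self η,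
        fun h => ⟨hb'2 h, (pBlock_eq (mem_blocks_iff.1 hb'1) h).symm⟩⟩
    · rw [Finset.mem_filter, mem_blocks_iff]
      exact ⟨isPBlock_blockOf η, fun η' hη' => hclosed η η' (by simpa using hη) hη'⟩
  rw [key] at hn
  obtain ⟨b', hb'f, hb'n⟩ : ∃ b' ∈ (blocks M N).filter (fun b' => b' ⊆ Brauer.conjOrbit N b),
      ¬ MemLocalIdeal M (blockCoeff b' n) := by
    by_contra hall
    push Not at hall
    exact hn (memLocalIdeal_sum _ _ hall)
  obtain ⟨hb'1, hb'2⟩ := Finset.mem_filter.1 hb'f
  have hb' := mem_blocks_iff.1 hb'1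
  obtain ⟨η, hη⟩ := pBlock_nonempty hb'
  obtain ⟨x, hx⟩ := hb'2 hη
  refine ⟨x⁻¹, ?_⟩
  rw [blockCoeff_of_conjIrr_mem N hb hb' hη hx]
  convert hb'n using 3
  exact Subtype.ext (by group)

/-- Knörr: a defect group of a covering block meets `N` in a defect group of the covered block. -/
theorem inf_eq_conj_defectGroup (hM : IsPModular p M) {b : Set (IrrCharacter N)}
    (hb : IsPBlock M b) {Q : Subgroup G} (hQN : Q ≤ N)
    (hQ : IsDefectGroup p M b (Q.subgroupOf N)) {B : Set (IrrCharacter G)} (hB : IsPBlock M B)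
    (hcov : ∃ χ ∈ B, ∃ θ ∈ b, classInner (fun n : N => (χ : G → ℂ) n) (θ : N → ℂ) ≠ 0)
    {P : Subgroup G} (hP : IsDefectGroup p M B P) :
    ∃ x : G, Q.map (MulAut.conj x).toMonoidHom = P ⊓ N := by
  classical
  haveI := charP_resF (M := M) hM
  have hQp : IsPGroup p Q :=
    (isDefectGroup_isPGroup hQ).of_equiv (Subgroup.subgroupOfEquivOfLe hQN)
  obtain ⟨z, hz, hzsupp, hzN, hzcoe⟩ := exists_orbitBlockIdem N hb
  set S := Brauer.conjOrbit N b with hS
  set e := toF M z with he
  set f := idemF M B with hf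
  have hec : IsCentralElt e := hz.mapR _
  have hesupp : ∀ g ∉ N, e.coeff g = 0 := fun g hg => by rw [he, coeff_mapR, hzsupp g hg, map_zero]
  have heN : restr N e = toF M (restr N z) := (mapR_restr _ N z).symm
  have hee : e * e = e := by
    have h1 : restr N z * restr N z = restr N z :=
      toC_injective M (by rw [map_mul, hzN, blockIdem_mul_self])
    have h2 : restr N (e * e) = restr N e := by
      rw [restr_mul_of_supported hesupp, heN, ← map_mul, h1]
    rw [← incl_restr_of_supported hesupp, ← map_mul, ← restr_mul_of_supported hesupp, h2]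
  -- `f e = f`
  obtain ⟨χ₀, hχ₀, θ₀, hθ₀, h₀⟩ := hcov
  have hlam : ∀ χ ∈ B, lam M (χ : G → ℂ) e = 1 := by
    intro χ hχ
    rw [lam_eq_of_sameBlock χ.2 χ₀.2 (pBlock_sameBlock hB hχ hχ₀) e, he, lam_toF χ₀.2 hz,
      Brauer.omega_eq_omega_restr_of_constituent N χ₀.2 θ₀.2 h₀ hz hzsupp, hzN, omega_blockIdem,
      if_pos (show θ₀ ∈ S from ⟨1, by rwa [Brauer.conjIrr_one]⟩), redC_one]
  have hfe : f * e = f := by
    have h1c : IsCentralElt ((1 : MonoidAlgebra (ResF M) G) - e) := IsCentralElt.one.sub hec
    have hnil : IsNilpotent (f * (1 - e)) := isNilpotent_idemF_mul hB h1c fun χ hχ => by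
      rw [lam_sub χ.2 IsCentralElt.one hec, lam_one χ.2, hlam χ hχ, sub_self]
    have hidem : IsIdempotentElem (f * (1 - e)) := by
      have h1e : IsIdempotentElem (1 - e) := (show IsIdempotentElem e from hee).one_sub
      exact IsIdempotentElem.mul_of_commute (isCentralElt_commute (idemF_isCentralElt B) _)
        (idemF_mul_self hB) h1e
    have h0 := eq_of_idempotent_of_nilpotent_sub hidem IsIdempotentElem.zero
      (Commute.zero_right _) (by simpa using hnil)
    rw [mul_sub, mul_one, sub_eq_zero] at h0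
    exact h0.symm
  obtain ⟨g, hg, hgP⟩ := isDefectGroup_iff.1 hP
  have hfg : f.coeff g ≠ 0 := (coeff_idemF_ne_zero_iff hB g).2 hg.2.1
  have hgC : g ∈ Subgroup.centralizer (P : Set G) :=
    le_centralizer_singleton_iff.1 hgP.le_centralizer
  -- (i)
  have hRle : Nat.card (P ⊓ N : Subgroup G) ≤ Nat.card Q := by
    have hRp : IsPGroup p (P ⊓ N : Subgroup G) := hgP.isPGroup.to_le inf_le_left
    set C := Subgroup.centralizer ((P ⊓ N : Subgroup G) : Set G) with hC
    have hgC' : g ∈ C := Subgroup.centralizer_le (s := ((P ⊓ N : Subgroup G) : Set G))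
      (fun u hu => hu.1) hgC
    obtain ⟨n, hne, hnC, hnN⟩ : ∃ n : G, e.coeff n ≠ 0 ∧ n ∈ C ∧ n ∈ N := by
      have h1 : (trunc C (f * e)).coeff g ≠ 0 := by rw [hfe, coeff_trunc_of_mem _ hgC']; exact hfg
      rw [trunc_centralizer_mul hRp ((idemF_isCentralElt B).isInvariant _) (hec.isInvariant _),
        coeff_mul_sum'] at h1
      obtain ⟨n, -, hn⟩ := Finset.exists_ne_zero_of_sum_ne_zero h1
      have hn' := right_ne_zero_of_mul hn
      have hnC : n ∈ C := by
        by_contra h; exact hn' (coeff_trunc_of_notMem _ h)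
      rw [coeff_trunc_of_mem _ hnC] at hn'
      exact ⟨n, hn', hnC, by by_contra h; exact hn' (hesupp n h)⟩
    have hnS : ¬ MemLocalIdeal M (blockCoeff S (⟨n, hnN⟩ : N)) := by
      intro h
      apply hne
      rw [he, coeff_mapR]
      rw [← hzcoe] at h
      exact red_eq_zero_iff.2 h
    obtain ⟨x, hx⟩ := exists_block_coeff_ne N hb hnS
    set R := (P ⊓ N : Subgroup G).map (MulAut.conj x).toMonoidHom with hR
    have hRN : R ≤ N := by
      rintro _ ⟨u, hu, rfl⟩; exact hN.conj_mem u hu.2 x
    obtain ⟨E, hE⟩ := exists_isClassDefectGroup (p := p)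
      (⟨x * n * x⁻¹, hN.conj_mem n hnN x⟩ : N)
    have h1 : SubConj (R.subgroupOf N) E := by
      refine subConj_classDefectGroup ((hRp.map _).comap_subtype) hE (IsConj.refl _) ?_
      rw [centralizer_subgroupOf_iff hRN]
      rw [hR, mem_centralizer_map_conj_iff]
      change x⁻¹ * (x * n * x⁻¹) * x ∈ C
      rwa [show x⁻¹ * (x * n * x⁻¹) * x = n by group]
    have h2 := (h1.trans (subConj_of_blockCoeff_unit hM hb hQ hE hx)).card_le
    rwa [Nat.card_congr (Subgroup.subgroupOfEquivOfLe hRN).toEquiv,
      Nat.card_congr (Subgroup.subgroupOfEquivOfLe hQN).toEquiv, hR,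
      Subgroup.card_map_of_injective (f := (MulAut.conj x).toMonoidHom)
        (MulAut.conj x).injective] at h2
  -- (ii)
  have hkey : ∃ c ∈ Subgroup.centralizer (Q : Set G), f.coeff c ≠ 0 := by
    by_contra hcon
    push Not at hcon
    let L : G ⧸ N → Set (MonoidAlgebra (ResF M) G) := fun q =>
      {a | (∀ c : G, (c : G ⧸ N) ≠ q → a.coeff c = 0) ∧ IsInvariant N a ∧ a * e = a ∧
        ∀ x c : G, x⁻¹ * c * x ∈ Subgroup.centralizer (Q : Set G) → a.coeff c = 0}
    have hQx : ∀ x : G, Q.map (MulAut.conj x).toMonoidHom ≤ N := fun x => by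
      rintro _ ⟨u, hu, rfl⟩; exact hN.conj_mem u (hQN hu) x
    have hLmul : ∀ {q q' : G ⧸ N} {a a' : MonoidAlgebra (ResF M) G},
        a ∈ L q → a' ∈ L q' → a * a' ∈ L (q * q') := by
      rintro q q' a a' ⟨ha1, ha2, ha3, ha4⟩ ⟨ha'1, ha'2, ha'3, ha'4⟩
      refine ⟨fun c hc => ?_, isInvariant_mul ha2 ha'2, by rw [mul_assoc, ha'3], fun x c hc => ?_⟩
      · rw [coeff_mul_sum]
        refine Finset.sum_eq_zero fun y _ => ?_
        by_cases hy : (y : G ⧸ N) = q
        · rw [ha'1 (y⁻¹ * c) fun h => hc ?_, mul_zero]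
          rw [← hy, ← h, ← QuotientGroup.mk_mul, mul_inv_cancel_left]
        · rw [ha1 y hy, zero_mul]
      · rw [← coeff_trunc_of_mem (a * a') ((mem_centralizer_map_conj_iff Q x c).2 hc),
          trunc_centralizer_mul (hQp.map _) (fun u hu => ha2 u (hQx x hu))
            (fun u hu => ha'2 u (hQx x hu)), coeff_mul_sum]
        refine Finset.sum_eq_zero fun y _ => ?_
        by_cases hy : y ∈ Subgroup.centralizer
            ((Q.map (MulAut.conj x).toMonoidHom : Subgroup G) : Set G)
        · rw [coeff_trunc_of_mem a hy, ha4 x y ((mem_centralizer_map_conj_iff Q x y).1 hy),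
            zero_mul]
        · rw [coeff_trunc_of_notMem a hy, zero_mul]
    let fc : G ⧸ N → MonoidAlgebra (ResF M) G := fun q =>
      ofFn fun c => if (c : G ⧸ N) = q then f.coeff c else 0
    haveI : Fintype (G ⧸ N) := Fintype.ofFinite _
    have hfsum : f = ∑ q : G ⧸ N, fc q := groupAlgebra_ext fun c => by
      simp [fc, coeff_sum]
    have hfc : ∀ q, fc q ∈ L q := by
      intro q
      refine ⟨fun c hc => by simp [fc, hc], fun u hu c => ?_, groupAlgebra_ext fun c => ?_,
        fun x c hc => ?_⟩
      · have hu1 : ((u : G) : G ⧸ N) = 1 := (QuotientGroup.eq_one_iff u).2 hu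
        simp only [fc, coeff_ofFn, QuotientGroup.mk_mul, QuotientGroup.mk_inv, hu1, one_mul,
          inv_one, mul_one, idemF_isCentralElt B c u, hf]
      · by_cases hc : (c : G ⧸ N) = q
        · rw [show (fc q).coeff c = (f * e).coeff c by simp [fc, hc, hfe], coeff_mul_sum',
            coeff_mul_sum']
          refine Finset.sum_congr rfl fun y _ => ?_
          by_cases hy : y ∈ N
          · simp [fc, hc, (QuotientGroup.eq_one_iff y).2 hy]
          · simp [hesupp y hy]
        · rw [coeff_mul_sum', show (fc q).coeff c = 0 by simp [fc, hc]]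
          refine Finset.sum_eq_zero fun y _ => ?_
          by_cases hy : y ∈ N
          · simp [fc, hc, (QuotientGroup.eq_one_iff y).2 hy]
          · simp [hesupp y hy]
      · have h1 := hcon _ hc
        simp only [fc, coeff_ofFn]
        rw [show f.coeff c = 0 by
          rw [← h1, ← idemF_isCentralElt B c x⁻¹, inv_inv, hf]]
        simp
    -- the elements supported on `N` form a nilpotent space
    have hnilL : ∀ a ∈ L 1, IsCentralElt (restr N a) ∧ IsNilpotent (restr N a) ∧
        incl N (restr N a) = a := by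
      rintro a ⟨ha1, ha2, ha3, ha4⟩
      have hsupp : ∀ c, c ∉ N → a.coeff c = 0 := fun c hc =>
        ha1 c fun h => hc ((QuotientGroup.eq_one_iff c).1 h)
      have hac : IsCentralElt (restr N a) := fun n m => by
        simpa using ha2 m m.2 n
      refine ⟨hac, ?_, incl_restr_of_supported hsupp⟩
      have hl : ∀ θ : IrrCharacter N, lam M (θ : N → ℂ) (restr N a) = 0 := by
        intro θ
        by_contra hne
        have hθS : θ ∈ S := by
          by_contra hθ
          apply hne
          rw [← ha3, restr_mul_of_supported hsupp, lam_mul θ.2 hac (hec.restr N), heN,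
            lam_toF θ.2 (hz.restr N), hzN, omega_blockIdem, if_neg hθ, redC_zero, mul_zero]
        obtain ⟨x, hx⟩ := hθS
        set b' := blockOf M (θ : N → ℂ) with hb'd
        have hb' : IsPBlock M b' := isPBlock_blockOf θ
        obtain ⟨w, hw, hwe⟩ := exists_idemF_mul_eq hb' (mem_blockOf_self θ) hac hne
        obtain ⟨n, hn, hnQ⟩ := isDefectGroup_iff.1 hQ
        have hnC : (n : G) ∈ Subgroup.centralizer (Q : Set G) :=
          (centralizer_subgroupOf_iff hQN n).1 (le_centralizer_singleton_iff.1 hnQ.le_centralizer)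
        set m : N := ⟨x * n * x⁻¹, hN.conj_mem n n.2 x⟩ with hm
        have hmne : (idemF M b').coeff m ≠ 0 := by
          rw [coeff_idemF_ne_zero_iff hb', hm,
            ← blockCoeff_of_conjIrr_mem N hb hb' (mem_blockOf_self θ) hx]
          exact hn.2.1
        apply hmne
        set C := Subgroup.centralizer ((Q.map (MulAut.conj x).toMonoidHom : Subgroup G) : Set G)
        have hmC : (m : G) ∈ C := (mem_centralizer_map_conj_iff Q x _).2 (by
          simpa [hm, mul_assoc] using hnC)
        have hinvN : ∀ {v : MonoidAlgebra (ResF M) N}, IsCentralElt v →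
            IsInvariant (Q.map (MulAut.conj x).toMonoidHom) (incl N v) := by
          intro v hv u hu c
          by_cases hc : c ∈ N
          · have h1 := hv ⟨c, hc⟩ ⟨u, hQx x hu⟩
            rw [← coeff_incl_coe N v ⟨c, hc⟩, ← coeff_incl_coe N v] at h1
            simpa using h1
          · rw [coeff_incl_of_notMem N v hc, coeff_incl_of_notMem]
            intro h
            exact hc (by simpa [mul_assoc] using hN.conj_mem _ h u⁻¹)
        rw [hwe, ← coeff_incl_coe N _ m, map_mul (incl N),
          ← coeff_trunc_of_mem (C := C) _ hmC,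
          trunc_centralizer_mul (hQp.map _) (hinvN ((idemF_isCentralElt b').mul hac)) (hinvN hw),
          map_mul (incl N), trunc_centralizer_mul (hQp.map _) (hinvN (idemF_isCentralElt b')) (hinvN hac),
          incl_restr_of_supported hsupp]
        have htr : trunc C a = 0 := groupAlgebra_ext fun c => by
          by_cases hc : c ∈ C
          · rw [coeff_trunc_of_mem a hc, ha4 x c ((mem_centralizer_map_conj_iff Q x c).1 hc)]; rfl
          · rw [coeff_trunc_of_notMem a hc]; rfl
        rw [htr, mul_zero, zero_mul]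
        rfl
      rw [← one_mul (restr N a), ← sum_idemF_blocks (M := M), Finset.sum_mul]
      refine Commute.isNilpotent_sum (fun b' hb' =>
        isNilpotent_idemF_mul (mem_blocks_iff.1 hb') hac fun θ _ => hl θ) fun b₁ b₂ _ _ => ?_
      exact isCentralElt_commute ((idemF_isCentralElt b₁).mul hac) _
    let φ : Subalgebra.center (ResF M) (MonoidAlgebra (ResF M) N) →ₐ[ResF M]
        MonoidAlgebra (ResF M) G :=
      (MonoidAlgebra.mapDomainAlgHom (ResF M) (ResF M) N.subtype).comp (Subalgebra.val _)
    haveI : Module.Finite (ResF M) (MonoidAlgebra (ResF M) N) := Module.Finite.equiv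
      (MonoidAlgebra.coeffLinearEquiv (R := ResF M) (S := ResF M) (M := N)).symm
    haveI : IsNoetherianRing (Subalgebra.center (ResF M) (MonoidAlgebra (ResF M) N)) :=
      IsNoetherianRing.of_finite (ResF M) _
    obtain ⟨m, hm⟩ := IsNoetherianRing.isNilpotent_nilradical
      (Subalgebra.center (ResF M) (MonoidAlgebra (ResF M) N))
    set J := Submodule.span (ResF M) (L 1) with hJ
    have hJm : J ^ (m + 1) = ⊥ := by
      have hle : J ≤ ((nilradical (Subalgebra.center (ResF M)
          (MonoidAlgebra (ResF M) N))).restrictScalars (ResF M)).map φ.toLinearMap := by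
        rw [hJ, Submodule.span_le]
        intro a ha
        obtain ⟨h1, h2, h3⟩ := hnilL a ha
        refine ⟨⟨restr N a, Subalgebra.mem_center_iff.2 fun v => (isCentralElt_commute h1 v).symm⟩,
          ?_, h3⟩
        change _ ∈ nilradical _
        rw [mem_nilradical]
        obtain ⟨k, hk⟩ := h2
        exact ⟨k, Subtype.ext (by simpa using hk)⟩
      refine le_bot_iff.1 ((pow_le_pow_left' hle _).trans ?_)
      rw [← Submodule.map_pow, ← Submodule.restrictScalars_pow (Nat.succ_ne_zero m), pow_succ, hm]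
      simp
    have hTJ : (⊤ : Submodule (ResF M) (MonoidAlgebra (ResF M) G)) * J ≤ J * ⊤ := by
      rw [Submodule.mul_le]
      intro v _ a ha
      induction ha using Submodule.span_induction with
      | mem a ha =>
        obtain ⟨ha1, ha2, ha3, ha4⟩ := ha
        induction v using MonoidAlgebra.induction_on with
        | of c =>
          rw [show MonoidAlgebra.of (ResF M) G c * a
              = (single c 1 * a * single c⁻¹ 1) * MonoidAlgebra.of (ResF M) G c by
            rw [MonoidAlgebra.of_apply, mul_assoc, MonoidAlgebra.single_mul_single, inv_mul_cancel,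
              one_mul, ← MonoidAlgebra.one_def, mul_one]]
          refine Submodule.mul_mem_mul (Submodule.subset_span ?_) Submodule.mem_top
          have hco : ∀ d, (single c (1 : ResF M) * a * single c⁻¹ 1).coeff d =
              a.coeff (c⁻¹ * d * c) := fun d => by
            rw [coeff_mul_sum']
            simp only [coeff_mul_sum]
            simp [Finsupp.single_apply, mul_assoc]
          refine ⟨fun d hd => ?_, fun u hu d => ?_, ?_, fun x d hd => ?_⟩
          · rw [hco]
            apply ha1
            intro h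
            apply hd
            rw [QuotientGroup.mk_mul, QuotientGroup.mk_mul, QuotientGroup.mk_inv, mul_assoc,
              inv_mul_eq_one] at h
            exact mul_right_cancel (b := (c : G ⧸ N)) (h.symm.trans (one_mul _).symm)
          · rw [hco, hco, ← ha2 (c⁻¹ * u * c) (by simpa using hN.conj_mem u hu c⁻¹) (c⁻¹ * d * c)]
            congr 1
            group
          · rw [mul_assoc, ← isCentralElt_commute hec, ← mul_assoc, mul_assoc (single c 1) a e,
              ha3]
          · rw [hco]
            apply ha4 (c⁻¹ * x)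
            rw [show (c⁻¹ * x)⁻¹ * (c⁻¹ * d * c) * (c⁻¹ * x) = x⁻¹ * d * x by group]
            exact hd
        | add v w hv hw => rw [add_mul]; exact Submodule.add_mem _ (hv trivial) (hw trivial)
        | smul r v hv => rw [smul_mul_assoc]; exact Submodule.smul_mem _ r (hv trivial)
      | zero => rw [mul_zero]; exact Submodule.zero_mem _
      | add a a' _ _ h h' => rw [mul_add]; exact Submodule.add_mem _ h h'
      | smul r a _ h => rw [mul_smul_comm]; exact Submodule.smul_mem _ r h
    set I := J * (⊤ : Submodule (ResF M) (MonoidAlgebra (ResF M) G)) with hI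
    have hIr : ∀ a ∈ I, ∀ v, a * v ∈ I := fun a ha v => by
      have h1 : a * v ∈ I * ⊤ := Submodule.mul_mem_mul ha Submodule.mem_top
      rw [hI, mul_assoc] at h1
      exact (mul_le_mul' le_rfl le_top : J * ((⊤ : Submodule (ResF M) _) * ⊤) ≤ J * ⊤) h1
    have hIpow : ∀ k, ∀ a ∈ I ^ k, a ∈ J ^ k * ⊤ := by
      intro k
      induction k with
      | zero => intro a _; rw [pow_zero, one_mul]; exact Submodule.mem_top
      | succ k ih =>
        intro a ha
        rw [pow_succ] at ha
        have hle : I ^ k * I ≤ J ^ (k + 1) * ⊤ := calc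
          I ^ k * I ≤ (J ^ k * ⊤) * (J * ⊤) := mul_le_mul' (fun x hx => ih x hx) le_rfl
          _ = J ^ k * ((⊤ * J) * ⊤) := by simp only [mul_assoc]
          _ ≤ J ^ k * ((J * ⊤) * ⊤) := mul_le_mul' le_rfl (mul_le_mul' hTJ le_rfl)
          _ = J ^ (k + 1) * (⊤ * ⊤) := by simp only [pow_succ, mul_assoc]
          _ ≤ J ^ (k + 1) * ⊤ := mul_le_mul' le_rfl le_top
        exact hle ha
    have hind : ∀ k, ∀ (a : MonoidAlgebra (ResF M) G) (q : G ⧸ N) (D : Finset (G ⧸ N)),
        (∀ d ∈ D, ∃ u w, a = u * w ∧ w ∈ L (d⁻¹ * q)) →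
        Fintype.card (G ⧸ N) < D.card + k → a * f ^ k ∈ I := by
      intro k
      induction k with
      | zero =>
        intro a q D _ h
        exact absurd h (not_lt.2 ((add_zero _).le.trans D.card_le_univ))
      | succ k ih =>
        intro a q D hD h
        by_cases hq : q ∈ D
        · obtain ⟨u, w, rfl, hw⟩ := hD q hq
          rw [inv_mul_cancel] at hw
          exact hIr _ (hTJ (Submodule.mul_mem_mul Submodule.mem_top (Submodule.subset_span hw))) _
        · rw [pow_succ', ← mul_assoc]
          conv => arg 2; arg 1; rw [hfsum, Finset.mul_sum]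
          rw [Finset.sum_mul]
          refine Submodule.sum_mem _ fun r _ => ih (a * fc r) (q * r) (insert q D) ?_ ?_
          · intro d hd
            rcases Finset.mem_insert.1 hd with rfl | hd'
            · exact ⟨a, fc r, rfl, by rw [inv_mul_cancel_left]; exact hfc r⟩
            · obtain ⟨u, w, rfl, hw⟩ := hD d hd'
              exact ⟨u, w * fc r, mul_assoc _ _ _, by rw [← mul_assoc]; exact hLmul hw (hfc r)⟩
          · rw [Finset.card_insert_of_notMem hq]; omega
    have hpow : ∀ k, f ^ (k + 1) = f := by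
      intro k
      induction k with
      | zero => rw [pow_one]
      | succ k ih => rw [pow_succ, ih, hf, idemF_mul_self hB]
    have hfI : f ∈ I := by
      have h1 := hind (Fintype.card (G ⧸ N) + 1) 1 1 ∅ (by simp) (by simp)
      rwa [hpow, one_mul] at h1
    have hf0 : f ∈ J ^ (m + 1) * ⊤ := hIpow _ _ (by
      have h1 := Submodule.pow_mem_pow I hfI (m + 1)
      rwa [hpow] at h1)
    rw [hJm, Submodule.bot_mul, Submodule.mem_bot] at hf0
    exact hfg (by rw [hf0]; rfl)
  obtain ⟨c, hc, hcne⟩ := hkey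
  obtain ⟨E, hE⟩ := exists_isClassDefectGroup (p := p) c
  obtain ⟨x, hx⟩ := (subConj_classDefectGroup hQp hE (IsConj.refl c) hc).trans
    (subConj_of_blockCoeff_unit hM hB hP hE ((coeff_idemF_ne_zero_iff hB c).1 hcne))
  refine ⟨x, Subgroup.eq_of_le_of_card_ge (le_inf hx ?_) ?_⟩
  · rintro _ ⟨u, hu, rfl⟩; exact hN.conj_mem u (hQN hu) x
  · rwa [Subgroup.card_map_of_injective (f := (MulAut.conj x).toMonoidHom)
      (MulAut.conj x).injective]

end Cfsg.Agent.BlockCover
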