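import Cfsg.Agent.Brauer.Covering
import Cfsg.Agent.Brauer.Transport
import Cfsg.Agent.BlockVal.CoveringAll
import Cfsg.Agent.Block.Degrees
import Cfsg.Agent.CharInd.Correspondence

/-!
# The Fong-Reynolds correspondence

`T` is the stabiliser of the block `b` of the normal subgroup `N`.  Induction is a bijection from
the characters of `T` over `b` to those of `G` over `b`, and it carries blocks to blocks.
-/

set_option linter.style.haveILetI false
set_option linter.unusedSectionVars false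

namespace Cfsg.Agent.BlockCover

open Cfsg MonoidAlgebra
open Cfsg.Agent.Block
open scoped ComplexConjugate

universe u

variable {G : Type u} [Group G] [Fintype G]
variable {p : ℕ} {M : Ideal AlgInt}

theorem classInner_res_equiv {K L : Type*} [Group K] [Group L] [Fintype K] [Fintype L] (e : K ≃* L)
    (f g : L → ℂ) : classInner (f ∘ e) (g ∘ e) = classInner f g := by
  rw [classInner, classInner, Nat.card_congr e.toEquiv]
  congr 1
  exact Fintype.sum_equiv e.toEquiv _ _ fun x => rfl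

/-- A character of `G` in a covering block lies over the covered block. -/
theorem exists_over_of_covers (N : Subgroup G) [N.Normal] [Fintype N] (hM : IsPModular p M)
    {b : Set (IrrCharacter N)} (hb : IsPBlock M b) {B : Set (IrrCharacter G)} (hB : IsPBlock M B)
    (hcov : ∃ χ ∈ B, ∃ θ ∈ b, classInner (fun n : N => (χ : G → ℂ) n) (θ : N → ℂ) ≠ 0)
    {χ : IrrCharacter G} (hχ : χ ∈ B) :
    ∃ θ ∈ b, classInner (fun n : N => (χ : G → ℂ) n) (θ : N → ℂ) ≠ 0 := by
  obtain ⟨χ₀, hχ₀, θ₀, hθ₀, h0⟩ := hcov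
  obtain ⟨η, k, hk, hη⟩ := Char.exists_irr_constituent
    (CharInd.isCharacter_res N (Char.isCharacter_of_irr χ.2))
    (fun h => Char.irr_one_ne_zero χ.2 (congrFun h 1))
  have hη0 : classInner (fun n : N => (χ : G → ℂ) n) (η : N → ℂ) ≠ 0 := by
    rw [hη]; exact Nat.cast_ne_zero.2 hk.ne'
  obtain ⟨x, hx, hx0⟩ := Brauer.exists_constituent_mem_of_congr N hM hb hθ₀ χ
    (Brauer.centralChar_congr_of_covers N hM hB hb hχ₀ hθ₀ h0 hχ hθ₀) hη0
  exact ⟨_, hx, hx0⟩

variable {N : Subgroup G} {T : Subgroup G}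

/-- Restriction from `T` to `N`. -/
def resN (hNT : N ≤ T) (f : T → ℂ) : N → ℂ := fun n => f ⟨(n : G), hNT n.2⟩

section

variable [hN : N.Normal] [Fintype N] [Fintype T] {b : Set (IrrCharacter N)} (hNT : N ≤ T)
  (hmem : ∀ g : G, g ∈ T ↔ ∀ θ ∈ b, Brauer.conjIrr N g θ ∈ b)

omit [Fintype T] in
/-- An element sending one member of `b` into `b` stabilises `b`. -/
theorem mem_of_conjIrr_mem [M.IsPrime] (hb : IsPBlock M b)
    (hmem : ∀ g : G, g ∈ T ↔ ∀ θ ∈ b, Brauer.conjIrr N g θ ∈ b)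
    {g : G} {θ : IrrCharacter N} (hθ : θ ∈ b) (h : Brauer.conjIrr N g θ ∈ b) : g ∈ T := by
  refine (hmem g).2 fun η hη => ?_
  rw [pBlock_eq hb h]
  exact Brauer.sameBlock_conjChar N (pBlock_sameBlock hb hθ hη) g

/-- Constituents on `N` of a character of `T` are conjugate in `T`. -/
theorem constituent_conj_in {ψ : IrrCharacter T} {θ η : IrrCharacter N}
    (hθ : classInner (resN hNT (ψ : T → ℂ)) (θ : N → ℂ) ≠ 0)
    (hη : classInner (resN hNT (ψ : T → ℂ)) (η : N → ℂ) ≠ 0) :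
    ∃ t ∈ T, Brauer.conjIrr N t θ = η := by
  set e := Subgroup.subgroupOfEquivOfLe hNT with he
  letI := Fintype.ofFinite (N.subgroupOf T)
  have key : ∀ φ : IrrCharacter N,
      classInner (fun x : N.subgroupOf T => (ψ : T → ℂ) x)
        (Brauer.irrComp e φ : N.subgroupOf T → ℂ) = classInner (resN hNT (ψ : T → ℂ)) (φ : N → ℂ) :=
    fun φ => classInner_res_equiv e (resN hNT (ψ : T → ℂ)) (φ : N → ℂ)
  obtain ⟨x, hx⟩ := CoverAll.constituent_conj (N.subgroupOf T) (χ := ψ)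
    (θ := Brauer.irrComp e θ) (η := Brauer.irrComp e η) (by rw [key]; exact hθ) (by rw [key]; exact hη)
  refine ⟨x, x.2, Subtype.ext (funext fun n => ?_)⟩
  have h1 := congrFun hx (e.symm n)
  simp only [Brauer.coe_irrComp, Function.comp_apply, CharInd.conjChar_apply,
    MulEquiv.apply_symm_apply] at h1
  rw [h1]
  show (θ : N → ℂ) _ = (θ : N → ℂ) _
  exact congrArg _ (Subtype.ext rfl)

/-- A character of `T` over `b` has all its constituents on `N` in `b`. -/
theorem constituent_mem {ψ : IrrCharacter T} {θ η : IrrCharacter N} (hθb : θ ∈ b)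
    (hmem : ∀ g : G, g ∈ T ↔ ∀ θ ∈ b, Brauer.conjIrr N g θ ∈ b)
    (hθ : classInner (resN hNT (ψ : T → ℂ)) (θ : N → ℂ) ≠ 0)
    (hη : classInner (resN hNT (ψ : T → ℂ)) (η : N → ℂ) ≠ 0) : η ∈ b := by
  obtain ⟨t, ht, rfl⟩ := constituent_conj_in hNT hθ hη
  exact (hmem t).1 ht θ hθb

include hmem in
open scoped Classical in
/-- The degree inequality behind the correspondence. -/
theorem index_mul_sum_le [M.IsPrime] (hb : IsPBlock M b) (χ : IrrCharacter G) (s : Finset (IrrCharacter T))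
    (hs : ∀ ψ ∈ s, classInner (fun t : T => (χ : G → ℂ) t) (ψ : T → ℂ) ≠ 0 ∧
      ∃ θ ∈ b, classInner (resN hNT (ψ : T → ℂ)) (θ : N → ℂ) ≠ 0) :
    T.index * ∑ ψ ∈ s, charDegree (ψ : T → ℂ) ≤ charDegree (χ : G → ℂ) := by
  rcases s.eq_empty_or_nonempty with rfl | ⟨ψ₀, hψ₀⟩
  · simp
  obtain ⟨hψ₀c, θ, hθb, hθ0⟩ := hs ψ₀ hψ₀
  have hresT := CharInd.isCharacter_res T (Char.isCharacter_of_irr χ.2)
  obtain ⟨c, hc, hc'⟩ := Char.isCharacter_exists_coeff hresT
  choose m hm using fun (ξ : IrrCharacter T) (φ : IrrCharacter N) =>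
    Char.isCharacter_classInner_nat
      (show IsCharacter N (resN hNT (ξ : T → ℂ)) from
        CharInd.isCharacter_comp (Subgroup.inclusion hNT) (Char.isCharacter_of_irr ξ.2)) φ
  choose n hn using fun φ : IrrCharacter N => Char.isCharacter_classInner_nat
    (CharInd.isCharacter_res N (Char.isCharacter_of_irr χ.2)) φ
  have hsplit : ∀ φ : IrrCharacter N, n φ = ∑ ξ, c ξ * m ξ φ := by
    intro φ
    have e : (fun k : N => (χ : G → ℂ) k) = ∑ ξ : IrrCharacter T, (c ξ : ℂ) • resN hNT (ξ : T → ℂ) := by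
      funext k
      have := congrFun hc ⟨k, hNT k.2⟩
      simp only [Finset.sum_apply, nsmul_eq_mul] at this
      simp only [Finset.sum_apply, Pi.smul_apply, smul_eq_mul, resN]
      exact this
    have h1 := hn φ
    rw [e, Char.classInner_sum_left] at h1
    simp only [Char.classInner_smul_left, hm] at h1
    exact_mod_cast h1.symm
  have hc1 : ∀ ξ ∈ s, 1 ≤ c ξ := fun ξ hξ => Nat.one_le_iff_ne_zero.2 fun h0 => (hs ξ hξ).1 (by
    rw [hc', h0, Nat.cast_zero])
  have hle : ∀ φ, ∑ ξ ∈ s, m ξ φ ≤ n φ := fun φ => by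
    rw [hsplit]
    refine (Finset.sum_le_sum fun ξ hξ => Nat.le_mul_of_pos_left _ (hc1 ξ hξ)).trans ?_
    exact Finset.sum_le_sum_of_subset (Finset.subset_univ s)
  have hθn : n θ ≠ 0 := by
    intro h0
    have h1 := hle θ
    rw [h0, Nat.le_zero, Finset.sum_eq_zero_iff] at h1
    exact hθ0 (by rw [hm, h1 ψ₀ hψ₀, Nat.cast_zero])
  have hθχ : classInner (fun k : N => (χ : G → ℂ) k) (θ : N → ℂ) ≠ 0 := by
    rw [hn]; exact Nat.cast_ne_zero.2 hθn
  -- the orbit and its part in `b`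
  set O := Finset.univ.filter fun φ : IrrCharacter N => ∃ x : G, Brauer.conjIrr N x θ = φ with hO
  set U := O.filter (· ∈ b) with hU
  set F := fun φ : IrrCharacter N =>
    (Finset.univ.filter fun x : G => Brauer.conjIrr N x θ = φ).card with hF
  have hFθ : ∀ φ ∈ O, F φ = F θ := by
    intro φ hφ
    obtain ⟨y, rfl⟩ := (Finset.mem_filter.1 hφ).2
    refine Finset.card_bij (fun x _ => x * y⁻¹) (fun x hx => ?_) (fun a _ a' _ h => by simpa using h)
      (fun x hx => ⟨x * y, ?_, by simp⟩)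
    · simp only [Finset.mem_filter, Finset.mem_univ, true_and] at hx ⊢
      rw [Brauer.conjIrr_mul, hx, ← Brauer.conjIrr_mul, mul_inv_cancel, Brauer.conjIrr_one]
    · simp only [Finset.mem_filter, Finset.mem_univ, true_and] at hx ⊢
      rw [Brauer.conjIrr_mul, hx]
  have hcardG : Nat.card G = O.card * F θ := by
    rw [Nat.card_eq_fintype_card, ← Finset.card_univ,
      Finset.card_eq_sum_card_fiberwise (f := fun x : G => Brauer.conjIrr N x θ) (t := O)
        fun x _ => Finset.mem_filter.2 ⟨Finset.mem_univ _, x, rfl⟩,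
      Finset.sum_congr rfl hFθ, Finset.sum_const, smul_eq_mul]
  have hcardT : Nat.card T = U.card * F θ := by
    rw [Nat.card_eq_fintype_card, ← Fintype.card_coe (Finset.univ.filter (· ∈ T)) |>.symm.trans
      (Fintype.card_congr (Equiv.subtypeEquivRight fun x => by simp)),
      Finset.card_eq_sum_card_fiberwise (f := fun x : G => Brauer.conjIrr N x θ) (t := U)
        fun x hx => Finset.mem_filter.2 ⟨Finset.mem_filter.2 ⟨Finset.mem_univ _, x, rfl⟩,
          (hmem x).1 (Finset.mem_filter.1 hx).2 θ hθb⟩,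
      Finset.sum_congr rfl (g := fun _ => F θ) fun φ hφ => ?_, Finset.sum_const, smul_eq_mul]
    obtain ⟨hφO, hφb⟩ := Finset.mem_filter.1 hφ
    rw [← hFθ φ hφO]
    refine congrArg Finset.card ?_
    ext x
    simp only [Finset.mem_filter, Finset.mem_univ, true_and]
    exact ⟨fun h => h.2, fun h => ⟨mem_of_conjIrr_mem hb hmem hθb (h ▸ hφb), h⟩⟩
  have hFpos : 0 < F θ := Finset.card_pos.2
    ⟨1, Finset.mem_filter.2 ⟨Finset.mem_univ _, Brauer.conjIrr_one N θ⟩⟩
  have hOU : O.card = T.index * U.card := by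
    have h1 := T.card_mul_index
    rw [hcardG, hcardT] at h1
    exact (Nat.eq_of_mul_eq_mul_right hFpos (by rw [← h1]; ring)).symm
  -- degrees
  have hdeg : ∀ φ ∈ O, charDegree (φ : N → ℂ) = charDegree (θ : N → ℂ) := by
    intro φ hφ
    obtain ⟨x, rfl⟩ := (Finset.mem_filter.1 hφ).2
    unfold charDegree
    rw [show (Brauer.conjIrr N x θ : N → ℂ) 1 = (θ : N → ℂ) 1 from
      congrArg (θ : N → ℂ) (Subtype.ext (by simp))]
  have hnO : ∀ φ ∈ O, n φ = n θ := by
    intro φ hφ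
    obtain ⟨x, rfl⟩ := (Finset.mem_filter.1 hφ).2
    have h1 := hn (Brauer.conjIrr N x θ)
    change classInner _ (CharInd.conjChar N x (θ : N → ℂ)) = _ at h1
    rw [CharInd.classInner_res_conjChar N (Char.irr_isClassFunction χ.2), hn] at h1
    exact_mod_cast h1.symm
  have hnout : ∀ φ ∉ O, n φ = 0 := by
    intro φ hφ
    by_contra h0
    obtain ⟨x, hx⟩ := CoverAll.constituent_conj N hθχ
      (show classInner (fun k : N => (χ : G → ℂ) k) (φ : N → ℂ) ≠ 0 by
        rw [hn]; exact Nat.cast_ne_zero.2 h0)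
    exact hφ (Finset.mem_filter.2 ⟨Finset.mem_univ _, x, Subtype.ext hx.symm⟩)
  have hχdeg : charDegree (χ : G → ℂ) = O.card * (n θ * charDegree (θ : N → ℂ)) := by
    have h1 := congrFun (Char.eq_sum_classInner_smul
      (Char.isCharacter_isClassFunction (CharInd.isCharacter_res N (Char.isCharacter_of_irr χ.2)))) 1
    simp only [Finset.sum_apply, Pi.smul_apply, smul_eq_mul, OneMemClass.coe_one, hn] at h1
    rw [(irr_one_eq_charDegree χ.2).1, ← Finset.sum_subset (Finset.subset_univ O)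
      (fun φ _ hφ => by rw [hnout φ hφ, Nat.cast_zero, zero_mul])] at h1
    rw [Finset.sum_congr rfl (g := fun _ => ((n θ * charDegree (θ : N → ℂ) : ℕ) : ℂ))
      (fun φ hφ => by rw [hnO φ hφ, (irr_one_eq_charDegree φ.2).1, hdeg φ hφ, Nat.cast_mul]),
      Finset.sum_const, nsmul_eq_mul, ← Nat.cast_mul] at h1
    exact_mod_cast h1
  have hψdeg : ∀ ξ ∈ s, charDegree (ξ : T → ℂ) = ∑ φ ∈ U, m ξ φ * charDegree (θ : N → ℂ) := by
    intro ξ hξ
    obtain ⟨-, η, hηb, hη⟩ := hs ξ hξ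
    have hcls : IsCharacter N (resN hNT (ξ : T → ℂ)) :=
      CharInd.isCharacter_comp (Subgroup.inclusion hNT) (Char.isCharacter_of_irr ξ.2)
    have h1 := congrFun (Char.eq_sum_classInner_smul (Char.isCharacter_isClassFunction hcls)) 1
    simp only [Finset.sum_apply, Pi.smul_apply, smul_eq_mul, hm] at h1
    rw [show resN hNT (ξ : T → ℂ) 1 = (ξ : T → ℂ) 1 from congrArg (ξ : T → ℂ) (Subtype.ext rfl),
      (irr_one_eq_charDegree ξ.2).1,
      ← Finset.sum_subset (Finset.subset_univ U) (fun φ _ hφ => ?_)] at h1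
    · rw [Finset.sum_congr rfl (g := fun φ => ((m ξ φ * charDegree (θ : N → ℂ) : ℕ) : ℂ))
        (fun φ hφ => by
          rw [(irr_one_eq_charDegree φ.2).1, hdeg φ (Finset.mem_filter.1 hφ).1, Nat.cast_mul]),
        ← Nat.cast_sum] at h1
      exact_mod_cast h1
    · by_contra hne
      have hm0 : m ξ φ ≠ 0 := fun h => hne (by rw [h, Nat.cast_zero, zero_mul])
      refine hφ (Finset.mem_filter.2 ⟨?_, constituent_mem hNT hηb hmem hη
        (by rw [hm]; exact Nat.cast_ne_zero.2 hm0)⟩)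
      by_contra hφO
      have := hle φ
      rw [hnout φ hφO, Nat.le_zero, Finset.sum_eq_zero_iff] at this
      exact hm0 (this ξ hξ)
  rw [hχdeg, hOU, mul_assoc, Finset.sum_congr rfl hψdeg, Finset.sum_comm]
  refine Nat.mul_le_mul_left _ ((Finset.sum_le_card_nsmul U _
    (n θ * charDegree (θ : N → ℂ)) fun φ hφ => ?_).trans_eq (smul_eq_mul ..))
  rw [← Finset.sum_mul]
  exact Nat.mul_le_mul_right _ ((hle φ).trans_eq (hnO φ (Finset.mem_filter.1 hφ).1))

include hmem in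
/-- Induction from `T` of a character over `b` is irreducible. -/
theorem indFun_irr [M.IsPrime] (hb : IsPBlock M b) {ψ : IrrCharacter T}
    (hψ : ∃ θ ∈ b, classInner (resN hNT (ψ : T → ℂ)) (θ : N → ℂ) ≠ 0) :
    IsIrrCharacter G (indFun T (ψ : T → ℂ)) := by
  classical
  have hind := CharInd.isCharacter_indFun T (Char.isCharacter_of_irr ψ.2)
  have h1 := CharInd.indFun_one_apply (H := T) (ψ : T → ℂ)
  obtain ⟨χ, k, hk, hχ⟩ := Char.exists_irr_constituent hind (fun h => by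
    rw [h, Pi.zero_apply, eq_comm, mul_eq_zero, Nat.cast_eq_zero] at h1
    exact h1.elim Subgroup.index_ne_zero_of_finite (Char.irr_one_ne_zero ψ.2))
  have hχ0 : classInner (indFun T (ψ : T → ℂ)) (χ : G → ℂ) ≠ 0 := by
    rw [hχ]; exact Nat.cast_ne_zero.2 hk.ne'
  have hres : classInner (fun t : T => (χ : G → ℂ) t) (ψ : T → ℂ) ≠ 0 := by
    rw [← CharInd.classInner_indFun_right T _ (Char.irr_isClassFunction χ.2),
      ← CharInd.classInner_swap, ne_eq, map_eq_zero]
    exact hχ0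
  have hle := index_mul_sum_le hNT hmem hb χ {ψ} fun ξ hξ => by
    rw [Finset.mem_singleton.1 hξ]; exact ⟨hres, hψ⟩
  rw [Finset.sum_singleton] at hle
  rw [CharInd.eq_of_constituent_of_degree hind χ.2 hχ0 ?_]
  · exact χ.2
  · rw [h1, (irr_one_eq_charDegree ψ.2).1, (irr_one_eq_charDegree χ.2).1, ← Nat.cast_mul,
      Complex.natCast_re, Complex.natCast_re]
    exact_mod_cast hle

/-- The restriction of an induced character contains the character. -/
theorem classInner_res_of_indFun {ψ : IrrCharacter T} {χ : IrrCharacter G}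
    (h : (χ : G → ℂ) = indFun T (ψ : T → ℂ)) :
    classInner (fun t : T => (χ : G → ℂ) t) (ψ : T → ℂ) = 1 := by
  rw [← CharInd.classInner_indFun_right T _ (Char.irr_isClassFunction χ.2), ← h,
    Char.classInner_irr_self χ.2]

include hmem in
theorem indFun_injective [M.IsPrime] (hb : IsPBlock M b) {ψ ψ' : IrrCharacter T}
    (hψ : ∃ θ ∈ b, classInner (resN hNT (ψ : T → ℂ)) (θ : N → ℂ) ≠ 0)
    (hψ' : ∃ θ ∈ b, classInner (resN hNT (ψ' : T → ℂ)) (θ : N → ℂ) ≠ 0)
    (h : indFun T (ψ : T → ℂ) = indFun T (ψ' : T → ℂ)) : ψ = ψ' := by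
  classical
  by_contra hne
  set χ : IrrCharacter G := ⟨indFun T (ψ : T → ℂ), indFun_irr hNT hmem hb hψ⟩
  have hle := index_mul_sum_le hNT hmem hb χ {ψ, ψ'} fun ξ hξ => by
    rcases Finset.mem_insert.1 hξ with rfl | hξ'
    · exact ⟨by rw [classInner_res_of_indFun (ψ := ξ) rfl]; exact one_ne_zero, hψ⟩
    · rw [Finset.mem_singleton.1 hξ']
      exact ⟨by rw [classInner_res_of_indFun (ψ := ψ') h]; exact one_ne_zero, hψ'⟩
  rw [Finset.sum_pair hne] at hle
  have hd : charDegree (χ : G → ℂ) = T.index * charDegree (ψ : T → ℂ) := by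
    have h1 := CharInd.indFun_one_apply (H := T) (ψ : T → ℂ)
    rw [show indFun T (ψ : T → ℂ) = (χ : G → ℂ) from rfl, (irr_one_eq_charDegree ψ.2).1,
      (irr_one_eq_charDegree χ.2).1, ← Nat.cast_mul] at h1
    exact_mod_cast h1
  rw [hd, mul_add, add_le_iff_nonpos_right] at hle
  exact absurd (Nat.mul_pos (Nat.pos_of_ne_zero Subgroup.index_ne_zero_of_finite)
    (irr_one_eq_charDegree ψ'.2).2.1) (not_lt.2 hle)

include hmem in
theorem exists_inducing [M.IsPrime] (hb : IsPBlock M b) {χ : IrrCharacter G} {θ : IrrCharacter N} (hθ : θ ∈ b)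
    (h : classInner (fun n : N => (χ : G → ℂ) n) (θ : N → ℂ) ≠ 0) :
    ∃ ψ : IrrCharacter T, (∃ θ ∈ b, classInner (resN hNT (ψ : T → ℂ)) (θ : N → ℂ) ≠ 0) ∧
      indFun T (ψ : T → ℂ) = (χ : G → ℂ) := by
  classical
  obtain ⟨c, hc, hc'⟩ := Char.isCharacter_exists_coeff
    (CharInd.isCharacter_res T (Char.isCharacter_of_irr χ.2))
  have e : (fun k : N => (χ : G → ℂ) k) = ∑ ξ : IrrCharacter T, (c ξ : ℂ) • resN hNT (ξ : T → ℂ) := by
    funext k
    have := congrFun hc ⟨k, hNT k.2⟩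
    simp only [Finset.sum_apply, nsmul_eq_mul] at this
    simp only [Finset.sum_apply, Pi.smul_apply, smul_eq_mul, resN]
    exact this
  rw [e, Char.classInner_sum_left] at h
  obtain ⟨ψ, -, hψ⟩ := Finset.exists_ne_zero_of_sum_ne_zero h
  rw [Char.classInner_smul_left, mul_ne_zero_iff] at hψ
  refine ⟨ψ, ⟨θ, hθ, hψ.2⟩, ?_⟩
  have hirr := indFun_irr hNT hmem hb ⟨θ, hθ, hψ.2⟩
  by_contra hne
  have h0 := Char.classInner_irr_ne hirr χ.2 hne
  rw [CharInd.classInner_indFun_left T _ (Char.irr_isClassFunction χ.2), ← CharInd.classInner_swap,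
    map_eq_zero, hc'] at h0
  exact hψ.1 h0

/-- Every member of a block of `T` covering `b` lies over `b`. -/
theorem block_over (hM : IsPModular p M) (hb : IsPBlock M b)
    (hmem : ∀ g : G, g ∈ T ↔ ∀ θ ∈ b, Brauer.conjIrr N g θ ∈ b)
    {B' : Set (IrrCharacter T)} (hB' : IsPBlock M B')
    (hcov : ∃ ψ ∈ B', ∃ θ ∈ b, classInner (resN hNT (ψ : T → ℂ)) (θ : N → ℂ) ≠ 0)
    {ψ : IrrCharacter T} (hψ : ψ ∈ B') :
    ∃ θ ∈ b, classInner (resN hNT (ψ : T → ℂ)) (θ : N → ℂ) ≠ 0 := by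
  set e := Subgroup.subgroupOfEquivOfLe hNT with he
  letI := Fintype.ofFinite (N.subgroupOf T)
  obtain ⟨ψ₀, hψ₀, θ₀, hθ₀, h0⟩ := hcov
  obtain ⟨_, ⟨θ, hθ, rfl⟩, h⟩ := exists_over_of_covers (N.subgroupOf T) hM
    (Brauer.isPBlock_image_irrComp e hb) hB' ⟨ψ₀, hψ₀, Brauer.irrComp e θ₀, ⟨θ₀, hθ₀, rfl⟩, by
      rw [← classInner_res_equiv e] at h0; exact h0⟩ hψ
  refine ⟨θ, hθ, ?_⟩
  rw [← classInner_res_equiv e]
  exact h

include hmem in
open scoped Classical in
/-- Fong-Reynolds: the block induced by a covering block of `T`. -/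
theorem induced_block (hM : IsPModular p M) (hb : IsPBlock M b) {B' : Set (IrrCharacter T)}
    (hB' : IsPBlock M B')
    (hcov : ∃ ψ ∈ B', ∃ θ ∈ b, classInner (resN hNT (ψ : T → ℂ)) (θ : N → ℂ) ≠ 0) :
    ∃ B : Set (IrrCharacter G), IsInducedBlock M T B' B ∧
      (∃ χ ∈ B, ∃ θ ∈ b, classInner (fun n : N => (χ : G → ℂ) n) (θ : N → ℂ) ≠ 0) ∧
      ∀ χ : IrrCharacter G, χ ∈ B ↔ ∃ ψ ∈ B', (χ : G → ℂ) = indFun T (ψ : T → ℂ) := by
  haveI : M.IsPrime := hM.2.1.isPrime
  have hover := fun ψ (hψ : ψ ∈ B') => block_over hNT hM hb hmem hB' hcov (ψ := ψ) hψ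
  let ind : ∀ ψ, ψ ∈ B' → IrrCharacter G := fun ψ hψ =>
    ⟨indFun T (ψ : T → ℂ), indFun_irr hNT hmem hb (hover ψ hψ)⟩
  obtain ⟨ψ₀, hψ₀, θ₀, hθ₀, h0⟩ := hcov
  set S : Set (IrrCharacter G) := {χ | ∃ ψ ∈ B', (χ : G → ℂ) = indFun T (ψ : T → ℂ)} with hS
  set B := blockOf M (ind ψ₀ hψ₀ : G → ℂ) with hBdef
  have hchar : ∀ ψ (hψ : ψ ∈ B') (g : G), centralChar (ind ψ hψ : G → ℂ) g
      = inducedCentralChar T (ψ : T → ℂ) g := fun ψ hψ g =>
    (inducedCentralChar_eq_centralChar_indFun T (Char.isCharacter_of_irr ψ.2) g).symm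
  have hcongr : ∀ ψ ∈ B', ∀ g : G, MemLocalIdeal M
      (inducedCentralChar T (ψ : T → ℂ) g - inducedCentralChar T (ψ₀ : T → ℂ) g) := by
    intro ψ hψ g
    rw [Brauer.inducedCentralChar_eq_omega (M := M), Brauer.inducedCentralChar_eq_omega (M := M)]
    exact omega_toC_sub_mem_of_sameBlock ψ.2 ψ₀.2 (pBlock_sameBlock hB' hψ hψ₀)
      ((classSum_isCentralElt g).restr T)
  have hSB : S ⊆ B := by
    rintro χ ⟨ψ, hψ, hχ⟩
    rw [show χ = ind ψ hψ from Subtype.ext hχ, hBdef, mem_blockOf_iff]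
    refine sameBlock_symm fun g => ?_
    rw [hchar ψ hψ, hchar ψ₀ hψ₀]
    exact hcongr ψ hψ g
  have hint : ∀ g : G, MemLocalRing M (blockCoeff S g) := by
    intro g
    haveI := Fintype.ofFinite (G ⧸ T)
    set F : G → ℂ := extendByZero T (fun t => blockCoeff B' t) with hF
    have hFring : ∀ y : G, MemLocalRing M (F y) := by
      intro y
      by_cases hy : y ∈ T
      · rw [hF, CharInd.extendByZero_mem T _ hy]
        exact blockCoeff_memLocalRing hB' _
      · rw [hF, CharInd.extendByZero_notMem T _ hy]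
        exact (localRing M).zero_mem
    have hFinv : ∀ (x : G) (t : T), F ((x * t)⁻¹ * g * (x * t)) = F (x⁻¹ * g * x) := by
      intro x t
      have e : (x * t)⁻¹ * g * (x * t) = (t : G)⁻¹ * (x⁻¹ * g * x) * t := by group
      rw [e, hF]
      by_cases hy : x⁻¹ * g * x ∈ T
      · rw [CharInd.extendByZero_mem T _ hy,
          CharInd.extendByZero_mem T _ (mul_mem (mul_mem (inv_mem t.2) hy) t.2)]
        have := blockCoeff_conj_invariant B' (⟨x⁻¹ * g * x, hy⟩ : T) t⁻¹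
        rw [← this]
        congr 1
        exact Subtype.ext (by simp)
      · rw [CharInd.extendByZero_notMem T _ hy, CharInd.extendByZero_notMem T _ fun h => hy ?_]
        have := mul_mem (mul_mem t.2 h) (inv_mem t.2)
        rwa [show (t : G) * ((t : G)⁻¹ * (x⁻¹ * g * x) * t) * (t : G)⁻¹ = x⁻¹ * g * x by group] at this
    have key : blockCoeff S g = ∑ q : G ⧸ T, F (q.out⁻¹ * g * q.out) := by
      have h1 : ∑ x : G, F (x⁻¹ * g * x) = (Nat.card T : ℂ) * ∑ q : G ⧸ T, F (q.out⁻¹ * g * q.out) := by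
        rw [← Finset.sum_fiberwise Finset.univ (fun x : G => (x : G ⧸ T)), Finset.mul_sum]
        refine Finset.sum_congr rfl fun q _ => ?_
        rw [Finset.sum_congr rfl (g := fun _ => F (q.out⁻¹ * g * q.out)) fun x hx => ?_,
          Finset.sum_const, nsmul_eq_mul]
        · congr 2
          rw [← Fintype.card_subtype, Nat.card_eq_fintype_card]
          refine Fintype.card_congr
            { toFun := fun x => ⟨q.out⁻¹ * x.1, QuotientGroup.eq.1 (q.out_eq.trans x.2.symm)⟩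
              invFun := fun t => ⟨q.out * t.1, ?_⟩
              left_inv := fun x => Subtype.ext (by simp)
              right_inv := fun t => Subtype.ext (by simp) }
          rw [QuotientGroup.mk_mul_of_mem _ t.2]
          exact q.out_eq
        · have hxq : q.out⁻¹ * x ∈ T :=
            QuotientGroup.eq.1 (q.out_eq.trans (Finset.mem_filter.1 hx).2.symm)
          have := hFinv q.out ⟨_, hxq⟩
          rwa [show q.out * ((⟨_, hxq⟩ : T) : G) = x from mul_inv_cancel_left _ _] at this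
      refine mul_left_cancel₀ (Char.card_ne_zero_complex (G := T)) ?_
      rw [← h1, blockCoeff_eq_sum, ← Finset.sum_bij (s := Finset.univ.filter (· ∈ B'))
        (fun ψ hψ => ind ψ (Finset.mem_filter.1 hψ).2)
        (f := fun ψ => (T.index : ℂ) * (ψ : T → ℂ) 1 * conj (indFun T (ψ : T → ℂ) g)) ?_ ?_ ?_ ?_]
      · simp only [CharInd.indFun_apply, map_mul, map_sum, map_inv₀, map_natCast, Finset.mul_sum]
        rw [Finset.sum_comm]
        refine Finset.sum_congr rfl fun x _ => ?_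
        by_cases hy : x⁻¹ * g * x ∈ T
        · simp only [hF, CharInd.extendByZero_mem T _ hy, blockCoeff_eq_sum, Finset.mul_sum]
          refine Finset.sum_congr rfl fun ψ _ => ?_
          rw [← T.card_mul_index, Nat.cast_mul]
          have a1 : (Nat.card T : ℂ) ≠ 0 := Char.card_ne_zero_complex
          have a2 : (T.index : ℂ) ≠ 0 := Nat.cast_ne_zero.2 Subgroup.index_ne_zero_of_finite
          field_simp
        · simp [hF, CharInd.extendByZero_notMem T _ hy]
      · intro ψ hψ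
        exact Finset.mem_filter.2 ⟨Finset.mem_univ _, ψ, (Finset.mem_filter.1 hψ).2, rfl⟩
      · intro a ha a' ha' h
        exact indFun_injective hNT hmem hb (hover a (Finset.mem_filter.1 ha).2)
          (hover a' (Finset.mem_filter.1 ha').2) (congrArg Subtype.val h)
      · intro χ hχ
        obtain ⟨ψ, hψ, hχψ⟩ := (Finset.mem_filter.1 hχ).2
        exact ⟨ψ, Finset.mem_filter.2 ⟨Finset.mem_univ _, hψ⟩, Subtype.ext hχψ.symm⟩
      · intro ψ _
        show _ = indFun T (ψ : T → ℂ) 1 * conj (indFun T (ψ : T → ℂ) g)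
        rw [CharInd.indFun_one_apply]
    rw [key]
    exact (localRing M).sum_mem fun q _ => hFring _
  have hBS : B ⊆ S := blockOf_subset_of_memLocalRing hint ⟨ψ₀, hψ₀, rfl⟩
  refine ⟨B, ⟨hB', isPBlock_blockOf _, ?_⟩, ?_, fun χ => ⟨fun h => hBS h, fun h => hSB h⟩⟩
  · intro ξ hξ χ hχ g
    obtain ⟨ψ, hψ, hχψ⟩ := hBS hχ
    rw [hχψ, ← inducedCentralChar_eq_centralChar_indFun T (Char.isCharacter_of_irr ψ.2)]
    simpa using memLocalIdeal_sub (hcongr ξ hξ g) (hcongr ψ hψ g)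
  · refine ⟨ind ψ₀ hψ₀, hSB ⟨ψ₀, hψ₀, rfl⟩, θ₀, hθ₀, ?_⟩
    have hr : classInner (fun t : T => (ind ψ₀ hψ₀ : G → ℂ) t) (ψ₀ : T → ℂ) = 1 :=
      classInner_res_of_indFun rfl
    obtain ⟨c, hc, hc'⟩ := Char.isCharacter_exists_coeff
      (CharInd.isCharacter_res T (Char.isCharacter_of_irr (ind ψ₀ hψ₀).2))
    choose m hm using fun ξ : IrrCharacter T =>
      Char.isCharacter_classInner_nat (show IsCharacter N (resN hNT (ξ : T → ℂ)) from
        CharInd.isCharacter_comp (Subgroup.inclusion hNT) (Char.isCharacter_of_irr ξ.2)) θ₀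
    have e : (fun k : N => (ind ψ₀ hψ₀ : G → ℂ) k)
        = ∑ ξ : IrrCharacter T, (c ξ : ℂ) • resN hNT (ξ : T → ℂ) := by
      funext k
      have := congrFun hc ⟨k, hNT k.2⟩
      simp only [Finset.sum_apply, nsmul_eq_mul] at this
      simp only [Finset.sum_apply, Pi.smul_apply, smul_eq_mul, resN]
      exact this
    rw [e, Char.classInner_sum_left]
    simp only [Char.classInner_smul_left, hm]
    intro hz
    have hz' : ∑ ξ, c ξ * m ξ = 0 := by exact_mod_cast hz
    rcases mul_eq_zero.1 (Finset.sum_eq_zero_iff.1 hz' ψ₀ (Finset.mem_univ _)) with h1 | h1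
    · rw [hc', h1, Nat.cast_zero] at hr
      exact zero_ne_one hr
    · exact h0 (by rw [hm, h1, Nat.cast_zero])

include hmem in
/-- Every covering block of `G` comes from a covering block of `T`. -/
theorem exists_inducing_block (hM : IsPModular p M) (hb : IsPBlock M b)
    {B : Set (IrrCharacter G)} (hB : IsPBlock M B)
    (hcov : ∃ χ ∈ B, ∃ θ ∈ b, classInner (fun n : N => (χ : G → ℂ) n) (θ : N → ℂ) ≠ 0) :
    ∃ B' : Set (IrrCharacter T), IsPBlock M B' ∧
      (∃ ψ ∈ B', ∃ θ ∈ b, classInner (resN hNT (ψ : T → ℂ)) (θ : N → ℂ) ≠ 0) ∧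
      IsInducedBlock M T B' B := by
  haveI : M.IsPrime := hM.2.1.isPrime
  obtain ⟨χ, hχ, θ, hθ, h⟩ := hcov
  obtain ⟨ψ, hψ, he⟩ := exists_inducing hNT hmem hb hθ h
  have hcov' : ∃ ξ ∈ blockOf M (ψ : T → ℂ), ∃ θ ∈ b,
      classInner (resN hNT (ξ : T → ℂ)) (θ : N → ℂ) ≠ 0 := ⟨ψ, mem_blockOf_self ψ, hψ⟩
  obtain ⟨B₀, hind, -, hiff⟩ := induced_block hNT hmem hM hb (isPBlock_blockOf ψ) hcov'
  refine ⟨_, isPBlock_blockOf ψ, hcov', ?_⟩
  rwa [pBlock_eq_of_mem hB hind.2.1 hχ ((hiff χ).2 ⟨ψ, mem_blockOf_self ψ, he.symm⟩)]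

include hmem in
/-- Distinct covering blocks of `T` induce distinct blocks. -/
theorem induced_block_injective (hM : IsPModular p M) (hb : IsPBlock M b)
    {B₁ B₂ : Set (IrrCharacter T)} (h₁ : IsPBlock M B₁) (h₂ : IsPBlock M B₂)
    (hc₁ : ∃ ψ ∈ B₁, ∃ θ ∈ b, classInner (resN hNT (ψ : T → ℂ)) (θ : N → ℂ) ≠ 0)
    (hc₂ : ∃ ψ ∈ B₂, ∃ θ ∈ b, classInner (resN hNT (ψ : T → ℂ)) (θ : N → ℂ) ≠ 0)
    {B : Set (IrrCharacter G)} (hi₁ : IsInducedBlock M T B₁ B) (hi₂ : IsInducedBlock M T B₂ B) :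
    B₁ = B₂ := by
  haveI : M.IsPrime := hM.2.1.isPrime
  obtain ⟨A₁, ha₁, -, hiff₁⟩ := induced_block hNT hmem hM hb h₁ hc₁
  obtain ⟨A₂, ha₂, -, hiff₂⟩ := induced_block hNT hmem hM hb h₂ hc₂
  rw [← isInducedBlock_unique hi₁ ha₁] at hiff₁
  rw [← isInducedBlock_unique hi₂ ha₂] at hiff₂
  obtain ⟨χ, hχ⟩ := pBlock_nonempty hi₁.2.1
  obtain ⟨ψ₁, hψ₁, e₁⟩ := (hiff₁ χ).1 hχ
  obtain ⟨ψ₂, hψ₂, e₂⟩ := (hiff₂ χ).1 hχ
  obtain rfl := indFun_injective hNT hmem hb (block_over hNT hM hb hmem h₁ hc₁ hψ₁)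
    (block_over hNT hM hb hmem h₂ hc₂ hψ₂) (e₁.symm.trans e₂)
  exact pBlock_eq_of_mem h₁ h₂ hψ₁ hψ₂

omit [Fintype T] in
/-- The stabiliser condition of the statements in terms of `conjIrr`. -/
theorem mem_stab_iff (hT : ∀ g : G, g ∈ T ↔ ∀ θ ∈ b, ∀ θ' : IrrCharacter N,
      (∀ n : N, (θ' : N → ℂ) n = (θ : N → ℂ) ⟨g * n * g⁻¹, hN.conj_mem n n.2 g⟩) → θ' ∈ b)
    (g : G) : g ∈ T ↔ ∀ θ ∈ b, Brauer.conjIrr N g θ ∈ b := by
  rw [hT g]
  refine ⟨fun h θ hθ => h θ hθ _ fun n => ?_, fun h θ hθ θ' hθ' => ?_⟩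
  · exact CharInd.conjChar_apply N g (θ : N → ℂ) n
  · rw [show θ' = Brauer.conjIrr N g θ from Subtype.ext (funext fun n => by
      rw [hθ' n]; exact (CharInd.conjChar_apply N g (θ : N → ℂ) n).symm)]
    exact h θ hθ

end

end Cfsg.Agent.BlockCover
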