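import Cfsg.Agent.Block.FirstMain
import Cfsg.Agent.CharInd.Clifford

/-!
# Height zero constituents of characters induced from a block of the same defect
-/

set_option linter.style.haveILetI false
set_option linter.unusedSectionVars false

namespace Cfsg.Agent.BlockCover

open Cfsg MonoidAlgebra
open Cfsg.Agent.Block
open scoped ComplexConjugate

universe u

variable {G : Type u} [Group G] [Fintype G] {p : ℕ} [Fact p.Prime] {M : Ideal AlgInt}

open scoped Classical in
/-- The degree of the part in `B` of the induced character is a unit multiple of the whole. -/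
theorem redC_inducedPart [M.IsPrime] {H : Subgroup G} [Fintype H]
    {b : Set (IrrCharacter H)} {B : Set (IrrCharacter G)} (hind : IsInducedBlock M H b B)
    {ξ : IrrCharacter H} (hξ : ξ ∈ b) :
    MemLocalRing M ((∑ χ ∈ Finset.univ.filter (· ∈ B),
        classInner (indFun H (ξ : H → ℂ)) (χ : G → ℂ) * (χ : G → ℂ) 1) / indFun H (ξ : H → ℂ) 1) ∧
      redC M ((∑ χ ∈ Finset.univ.filter (· ∈ B),
        classInner (indFun H (ξ : H → ℂ)) (χ : G → ℂ) * (χ : G → ℂ) 1) / indFun H (ξ : H → ℂ) 1) = 1 := by
  obtain ⟨χ₀, hχ₀⟩ := pBlock_nonempty hind.2.1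
  have hB := hind.2.1
  haveI : Finite (ConjClasses G) := Finite.of_surjective _ ConjClasses.mk_surjective
  haveI := Fintype.ofFinite (ConjClasses G)
  have hψ : IsCharacter H (ξ : H → ℂ) := Char.isCharacter_of_irr ξ.2
  have hcls : IsClassFunction G (indFun H (ξ : H → ℂ)) := CharInd.indFun_isClassFunction H _
  have hlin : ∀ a : MonoidAlgebra ℂ G, IsCentralElt a →
      omega (ξ : H → ℂ) (restr H a) = omega (indFun H (ξ : H → ℂ)) a := by
    intro a ha
    conv_lhs => rw [isCentralElt_eq_sum_classSum ha, map_sum, map_sum]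
    conv_rhs => rw [isCentralElt_eq_sum_classSum ha, map_sum]
    refine Finset.sum_congr rfl fun c _ => ?_
    rw [restr_smul, map_smul, map_smul, inducedCentralChar_eq_omega,
      inducedCentralChar_eq_centralChar_indFun H hψ, ← centralChar_eq _ hcls]
  have hval : omega (indFun H (ξ : H → ℂ)) (blockIdem B) =
      (∑ χ ∈ Finset.univ.filter (· ∈ B),
        classInner (indFun H (ξ : H → ℂ)) (χ : G → ℂ) * (χ : G → ℂ) 1) / indFun H (ξ : H → ℂ) 1 := by
    have hexp := Char.eq_sum_classInner_smul hcls
    rw [omega_eq_sum]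
    congr 1
    calc ∑ g, (blockIdem B).coeff g * indFun H (ξ : H → ℂ) g
        = ∑ χ : IrrCharacter G, classInner (indFun H (ξ : H → ℂ)) (χ : G → ℂ) *
            ∑ g, (blockIdem B).coeff g * (χ : G → ℂ) g := by
          conv_lhs => rw [hexp]
          simp only [Finset.sum_apply, Pi.smul_apply, smul_eq_mul, Finset.mul_sum]
          rw [Finset.sum_comm]
          exact Finset.sum_congr rfl fun χ _ => Finset.sum_congr rfl fun g _ => by ring
      _ = _ := by
          rw [Finset.sum_filter]
          refine Finset.sum_congr rfl fun χ _ => ?_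
          have hw : (∑ g, (blockIdem B).coeff g * (χ : G → ℂ) g) =
              omega (χ : G → ℂ) (blockIdem B) * (χ : G → ℂ) 1 := by
            rw [omega_eq_sum, div_mul_cancel₀ _ (Char.irr_one_ne_zero χ.2)]
          rw [hw, omega_blockIdem]
          by_cases hχ : χ ∈ B
          · rw [if_pos hχ, if_pos hχ, one_mul]
          · rw [if_neg hχ, if_neg hχ, zero_mul, mul_zero]
  have h1 := lam_restr_of_isInducedBlock hind hξ hχ₀ (idemF_isCentralElt B)
  rw [lam_idemF_of_mem hB hχ₀, idemF, ← mapR_restr,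
    lam_toF ξ.2 ((idemS_isCentralElt B).restr H), mapR_restr, toC_idemS hB,
    hlin _ (blockIdem_isCentralElt B), hval] at h1
  refine ⟨?_, h1⟩
  rw [← hval, ← hlin _ (blockIdem_isCentralElt B), ← toC_idemS hB, ← mapR_restr]
  exact omega_toC_memLocalRing ξ.2 ((idemS_isCentralElt B).restr H)

/-- A height zero character of `b` induces to a character with a height zero constituent in `B`
of multiplicity prime to `p`. -/
theorem exists_height_zero_constituent (hM : IsPModular p M) {H : Subgroup G} [Fintype H]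
    {b : Set (IrrCharacter H)} {B : Set (IrrCharacter G)} (hind : IsInducedBlock M H b B)
    (hdef : blockDefect p b = blockDefect p B) {ζ : IrrCharacter H} (hζ : ζ ∈ b)
    (hζ0 : blockHeight p b (ζ : H → ℂ) = 0) :
    ∃ χ ∈ B, blockHeight p B (χ : G → ℂ) = 0 ∧ ∃ a : ℕ,
      classInner (indFun H (ζ : H → ℂ)) (χ : G → ℂ) = (a : ℂ) ∧ ¬ p ∣ a := by
  classical
  haveI : M.IsPrime := hM.2.1.isPrime
  have hp := (Fact.out : p.Prime)
  choose m hm using fun χ : IrrCharacter G =>
    Char.isCharacter_classInner_nat (CharInd.isCharacter_indFun H (Char.isCharacter_of_irr ζ.2)) χ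
  obtain ⟨hmem, hred⟩ := redC_inducedPart hind hζ
  set N₁ : ℕ := ∑ χ ∈ Finset.univ.filter (· ∈ B), m χ * charDegree (χ : G → ℂ) with hN₁
  set N₀ : ℕ := H.index * charDegree (ζ : H → ℂ) with hN₀
  have hnum : (∑ χ ∈ Finset.univ.filter (· ∈ B),
      classInner (indFun H (ζ : H → ℂ)) (χ : G → ℂ) * (χ : G → ℂ) 1) / indFun H (ζ : H → ℂ) 1 =
      (N₁ : ℂ) / (N₀ : ℂ) := by
    rw [CharInd.indFun_one_apply, (irr_one_eq_charDegree ζ.2).1, hN₁, hN₀]
    push_cast
    congr 1
    exact Finset.sum_congr rfl fun χ _ => by rw [hm, (irr_one_eq_charDegree χ.2).1]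
  rw [hnum] at hmem hred
  have hd0 := (irr_one_eq_charDegree ζ.2).2.1.ne'
  have hN0 : N₀ ≠ 0 := mul_ne_zero Subgroup.index_ne_zero_of_finite hd0
  have hN1 : N₁ ≠ 0 := fun h => by
    rw [h, Nat.cast_zero, zero_div, redC_zero] at hred
    exact zero_ne_one hred
  have hle : N₁.factorization p ≤ N₀.factorization p := by
    by_contra hlt
    rw [(redC_eq_zero_iff hmem).2 (memLocalIdeal_natCast_div hM hN1 hN0 (not_le.1 hlt))] at hred
    exact zero_ne_one hred
  have hmin : ∀ χ ∈ B, sInf ((fun χ : IrrCharacter G => (charDegree (χ : G → ℂ)).factorization p) '' B)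
      ≤ (charDegree (χ : G → ℂ)).factorization p := fun χ hχ => Nat.sInf_le ⟨χ, hχ, rfl⟩
  have hvH : (charDegree (ζ : H → ℂ)).factorization p ≤ (Nat.card H).factorization p :=
    (Nat.factorization_le_iff_dvd hd0 Nat.card_pos.ne').2 (irr_one_eq_charDegree ζ.2).2.2 p
  obtain ⟨χ₀, hχ₀⟩ := pBlock_nonempty hind.2.1
  have hvG : (charDegree (χ₀ : G → ℂ)).factorization p ≤ (Nat.card G).factorization p :=
    (Nat.factorization_le_iff_dvd (irr_one_eq_charDegree χ₀.2).2.1.ne' Nat.card_pos.ne').2
      (irr_one_eq_charDegree χ₀.2).2.2 p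
  have hmin₀ := hmin χ₀ hχ₀
  have hG : (Nat.card G).factorization p =
      (Nat.card H).factorization p + H.index.factorization p := by
    rw [← H.card_mul_index, Nat.factorization_mul Nat.card_pos.ne'
      Subgroup.index_ne_zero_of_finite, Finsupp.add_apply]
  have hζle : sInf ((fun ψ : IrrCharacter H => (charDegree (ψ : H → ℂ)).factorization p) '' b) ≤
      (charDegree (ζ : H → ℂ)).factorization p := Nat.sInf_le ⟨ζ, hζ, rfl⟩
  have hN0v : N₀.factorization p =
      sInf ((fun χ : IrrCharacter G => (charDegree (χ : G → ℂ)).factorization p) '' B) := by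
    rw [hN₀, Nat.factorization_mul Subgroup.index_ne_zero_of_finite hd0, Finsupp.add_apply]
    unfold blockDefect at hdef
    unfold blockHeight at hζ0
    omega
  by_contra hcon
  push Not at hcon
  have hdvd : p ^ (N₀.factorization p + 1) ∣ N₁ := by
    refine Finset.dvd_sum fun χ hχ => ?_
    have hχB := (Finset.mem_filter.1 hχ).2
    by_cases h0 : blockHeight p B (χ : G → ℂ) = 0
    · have hpm : p ∣ m χ := hcon χ hχB h0 (m χ) (hm χ)
      rw [pow_succ']
      refine mul_dvd_mul hpm ?_
      rw [hN0v]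
      exact (pow_dvd_pow p (hmin χ hχB)).trans (Nat.ordProj_dvd _ p)
    · refine ((pow_dvd_pow p ?_).trans (Nat.ordProj_dvd _ p)).mul_left _
      rw [hN0v]
      unfold blockHeight at h0
      omega
  have := (hp.pow_dvd_iff_le_factorization hN1).1 hdvd
  omega

end Cfsg.Agent.BlockCover
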