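import Cfsg.Agent.BlockCover.PrincipalType
import Cfsg.Agent.BlockVal.SectionCount
import Cfsg.Agent.BrauerPairs.CyclicDefect.Count
import Cfsg.Agent.Brauer.KleinFourBlock
import Cfsg.Agent.Brauer.RegElement
import Cfsg.Agent.S4646

/-!
# Blocks with one more ordinary than modular character

There is a single nontrivial subsection, so the nonidentity elements of a defect group are
conjugate; for the principal block the centralisers of these elements are `p`-nilpotent, and then
an inverting involution shows that the Sylow subgroups are abelian.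
-/

set_option autoImplicit false
set_option linter.style.haveILetI false
set_option linter.unusedSectionVars false

namespace Cfsg.Agent.BlockCover.OneMore

open Cfsg Cfsg.Agent.BrauerPairs
open Cfsg.Agent.Block (isPrime_of_isPModular)

universe u

variable {G : Type u} [Group G] [Fintype G] {p : ℕ} [Fact p.Prime] {M : Ideal AlgInt}

/-- Some block of the centraliser of an element of a defect group induces the block. -/
theorem exists_induced_of_mem_defectGroup (hM : IsPModular p M) {B : Set (IrrCharacter G)}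
    (hB : IsPBlock M B) {D : Subgroup G} (hD : IsDefectGroup p M B D) {u : G} (hu : u ∈ D)
    {C : Subgroup G} (hC : C = Subgroup.centralizer ({u} : Set G)) :
    ∃ f : Set (IrrCharacter C), IsInducedBlock M C f B := by
  classical
  haveI : M.IsPrime := hM.2.1.isPrime
  haveI := Block.charP_resF hM
  rw [← Brauer.centralizer_zpowers_eq u] at hC
  subst hC
  have hDp : IsPGroup p D := Block.isDefectGroup_isPGroup hD
  obtain ⟨c, hmax⟩ := exists_maxPair_of_isDef (S := pairSys M G)
    (isDef_of_isDefectGroup (B := (⟨B, hB⟩ : Blk M G)) hD)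
  obtain ⟨f, hf, -⟩ := existsUnique_sle (S := pairSys M G) (p := p) (b := ⟨D, c⟩) hDp
    (Subgroup.zpowers_le.2 hu)
  exact ⟨f.1, (isInducedBlock_iff_pairOf (hDp.to_le (Subgroup.zpowers_le.2 hu)) f ⟨B, hB⟩).2
    (hf.pairOf_iff.1 hmax.1)⟩

/-- The sum of the ranks of the blocks of `C(x)` inducing `B`. -/
noncomputable def subRank (p : ℕ) (M : Ideal AlgInt) (B : Set (IrrCharacter G)) (x : G) : ℕ :=
  ∑ᶠ b ∈ {b : Set (IrrCharacter ↥(Subgroup.centralizer ({x} : Set G))) |
      IsInducedBlock M (Subgroup.centralizer ({x} : Set G)) b B}, blockRank p b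

theorem le_subRank {B : Set (IrrCharacter G)} {x : G}
    {f : Set (IrrCharacter ↥(Subgroup.centralizer ({x} : Set G)))}
    (hf : IsInducedBlock M (Subgroup.centralizer ({x} : Set G)) f B) :
    blockRank p f ≤ subRank p M B x := by
  classical
  rw [subRank, finsum_mem_eq_finite_toFinset_sum _ (Set.toFinite _)]
  exact Finset.single_le_sum (f := fun b => blockRank p b) (fun _ _ => Nat.zero_le _)
    ((Set.toFinite _).mem_toFinset.2 hf)

theorem one_le_subRank (hM : IsPModular p M) {B : Set (IrrCharacter G)} {x : G}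
    {f : Set (IrrCharacter ↥(Subgroup.centralizer ({x} : Set G)))}
    (hf : IsInducedBlock M (Subgroup.centralizer ({x} : Set G)) f B) :
    1 ≤ subRank p M B x := by
  haveI : M.IsPrime := hM.2.1.isPrime
  haveI := Fintype.ofFinite (Subgroup.centralizer ({x} : Set G))
  exact le_trans (Brauer.KleinBlock.blockRank_pos hf.1) (le_subRank hf)

/-- Representatives of the classes of `p`-elements, two of them prescribed. -/
theorem exists_reps {v w : G} (hv : ∃ k : ℕ, orderOf v = p ^ k) (hw : ∃ k : ℕ, orderOf w = p ^ k)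
    (hv1 : v ≠ 1) (hw1 : w ≠ 1) :
    ∃ X : Finset G, (∀ x ∈ X, ∃ k : ℕ, orderOf x = p ^ k) ∧
      (∀ g : G, (∃ k : ℕ, orderOf g = p ^ k) → ∃! x, x ∈ X ∧ IsConj g x) ∧
      (1 : G) ∈ X ∧ v ∈ X ∧ (¬ IsConj v w → w ∈ X) := by
  classical
  let rep : G → G := fun g => if IsConj g v then v else if IsConj g w then w else
    (ConjClasses.mk g).out
  have hout : ∀ g : G, IsConj g (ConjClasses.mk g).out := fun g =>
    (ConjClasses.mk_eq_mk_iff_isConj.1 (Quotient.out_eq (ConjClasses.mk g))).symm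
  have hrep : ∀ g, IsConj g (rep g) := fun g => by
    simp only [rep]
    split_ifs with h1 h2
    exacts [h1, h2, hout g]
  have hcongr : ∀ g g', IsConj g g' → rep g = rep g' := fun g g' h => by
    have e1 : IsConj g v ↔ IsConj g' v := ⟨fun h1 => h.symm.trans h1, fun h1 => h.trans h1⟩
    have e2 : IsConj g w ↔ IsConj g' w := ⟨fun h1 => h.symm.trans h1, fun h1 => h.trans h1⟩
    simp only [rep, e1, e2, ConjClasses.mk_eq_mk_iff_isConj.2 h]
  have hord : ∀ {g h : G}, IsConj g h → orderOf g = orderOf h := fun {g h} hgh => by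
    obtain ⟨t, rfl⟩ := isConj_iff.1 hgh
    rw [← MulAut.conj_apply, MulEquiv.orderOf_eq]
  refine ⟨(Finset.univ.filter fun g : G => ∃ k : ℕ, orderOf g = p ^ k).image rep, ?_, ?_, ?_, ?_, ?_⟩
  · intro x hx
    obtain ⟨g, hg, rfl⟩ := Finset.mem_image.1 hx
    obtain ⟨k, hk⟩ := (Finset.mem_filter.1 hg).2
    exact ⟨k, (hord (hrep g)).symm.trans hk⟩
  · intro g hg
    refine ⟨rep g, ⟨Finset.mem_image.2 ⟨g, Finset.mem_filter.2 ⟨Finset.mem_univ _, hg⟩, rfl⟩,
      hrep g⟩, ?_⟩
    rintro x ⟨hx, hgx⟩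
    obtain ⟨g', -, rfl⟩ := Finset.mem_image.1 hx
    exact hcongr g' g ((hrep g').trans hgx.symm)
  · refine Finset.mem_image.2 ⟨1, Finset.mem_filter.2 ⟨Finset.mem_univ _, 0, by simp⟩, ?_⟩
    exact isConj_one_right.1 (hrep 1)
  · exact Finset.mem_image.2 ⟨v, Finset.mem_filter.2 ⟨Finset.mem_univ _, hv⟩, if_pos (IsConj.refl v)⟩
  · intro hvw
    refine Finset.mem_image.2 ⟨w, Finset.mem_filter.2 ⟨Finset.mem_univ _, hw⟩, ?_⟩
    simp only [rep, if_neg (show ¬ IsConj w v from fun h => hvw h.symm), if_pos (IsConj.refl w)]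

/-- If `k = l + 1` then a nontrivial subsection has rank one and is the only one up to conjugation. -/
theorem one_subsection (hM : IsPModular p M) {B : Set (IrrCharacter G)} (hB : IsPBlock M B)
    (hk : Nat.card B = blockRank p B + 1) {v w : G} (hv : ∃ k : ℕ, orderOf v = p ^ k)
    (hw : ∃ k : ℕ, orderOf w = p ^ k) (hv1 : v ≠ 1) (hw1 : w ≠ 1)
    {f : Set (IrrCharacter ↥(Subgroup.centralizer ({v} : Set G)))}
    (hf : IsInducedBlock M (Subgroup.centralizer ({v} : Set G)) f B)
    {g : Set (IrrCharacter ↥(Subgroup.centralizer ({w} : Set G)))}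
    (hg : IsInducedBlock M (Subgroup.centralizer ({w} : Set G)) g B) :
    IsConj v w ∧ blockRank p f = 1 := by
  classical
  haveI : M.IsPrime := hM.2.1.isPrime
  haveI := Block.charP_resF hM
  obtain ⟨X, hX, hXrep, h1X, hvX, hwX⟩ := exists_reps (p := p) hv hw hv1 hw1
  have hsum : Nat.card B = ∑ x ∈ X, subRank p M B x := SecCount.card_block_eq_sum hM hB X hX hXrep
  have h1 : subRank p M B (1 : G) = blockRank p B := CyclicDefect.rank_at_one hM hB
  have hf1 := le_subRank (p := p) hf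
  have hfp : 1 ≤ blockRank p f := by
    haveI := Fintype.ofFinite (Subgroup.centralizer ({v} : Set G))
    exact Brauer.KleinBlock.blockRank_pos hf.1
  constructor
  · by_contra hvw
    have hne : v ≠ w := fun h => hvw (h ▸ IsConj.refl v)
    have hsub : ({1, v, w} : Finset G) ⊆ X := by
      intro a ha
      simp only [Finset.mem_insert, Finset.mem_singleton] at ha
      rcases ha with rfl | rfl | rfl
      exacts [h1X, hvX, hwX hvw]
    have h2 : ∑ x ∈ ({1, v, w} : Finset G), subRank p M B x ≤ ∑ x ∈ X, subRank p M B x :=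
      Finset.sum_le_sum_of_subset hsub
    rw [Finset.sum_insert (by simp [Ne.symm hv1, Ne.symm hw1]), Finset.sum_insert (by simp [hne]),
      Finset.sum_singleton] at h2
    have := one_le_subRank hM hg
    omega
  · have hsub : ({1, v} : Finset G) ⊆ X := by
      intro a ha
      simp only [Finset.mem_insert, Finset.mem_singleton] at ha
      rcases ha with rfl | rfl
      exacts [h1X, hvX]
    have h2 : ∑ x ∈ ({1, v} : Finset G), subRank p M B x ≤ ∑ x ∈ X, subRank p M B x :=
      Finset.sum_le_sum_of_subset hsub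
    rw [Finset.sum_insert (by simp [Ne.symm hv1]), Finset.sum_singleton] at h2
    omega

/-- The nonidentity elements of a defect group are conjugate. -/
theorem isConj_of_mem_defectGroup (hM : IsPModular p M) {B : Set (IrrCharacter G)}
    (hB : IsPBlock M B) (hk : Nat.card B = blockRank p B + 1) {D : Subgroup G}
    (hD : IsDefectGroup p M B D) {v w : G} (hv : v ∈ D) (hw : w ∈ D) (hv1 : v ≠ 1) (hw1 : w ≠ 1) :
    IsConj v w := by
  have hDp := Block.isDefectGroup_isPGroup hD
  have hord : ∀ x ∈ D, ∃ k : ℕ, orderOf x = p ^ k := fun x hx => by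
    obtain ⟨k, hk⟩ := (IsPGroup.iff_orderOf.1 hDp) ⟨x, hx⟩
    exact ⟨k, by rw [← Subgroup.orderOf_mk x hx, hk]⟩
  obtain ⟨f, hf⟩ := exists_induced_of_mem_defectGroup hM hB hD hv rfl
  obtain ⟨g, hg⟩ := exists_induced_of_mem_defectGroup hM hB hD hw rfl
  exact (one_subsection hM hB hk (hord v hv) (hord w hw) hv1 hw1 hf hg).1

/-- A group whose nonidentity elements of `p`-power order are all conjugate has exponent `p` there. -/
theorem pow_eq_one_of_isConj {D : Subgroup G} (hD : IsPGroup p D)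
    (h : ∀ v ∈ D, ∀ w ∈ D, v ≠ 1 → w ≠ 1 → IsConj v w) {a : G} (ha : a ∈ D) : a ^ p = 1 := by
  by_contra hne
  have ha1 : a ≠ 1 := fun h1 => hne (by rw [h1, one_pow])
  obtain ⟨t, ht⟩ := isConj_iff.1 (h a ha (a ^ p) (pow_mem ha p) ha1 hne)
  have hord : orderOf (a ^ p) = orderOf a := by
    rw [← ht, ← MulAut.conj_apply, MulEquiv.orderOf_eq]
  obtain ⟨k, hk⟩ := (IsPGroup.iff_orderOf.1 hD) ⟨a, ha⟩
  rw [Subgroup.orderOf_mk] at hk
  have hk0 : k ≠ 0 := fun h0 => ha1 (orderOf_eq_one_iff.1 (by rw [hk, h0, pow_zero]))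
  rw [orderOf_pow_of_dvd (Fact.out : p.Prime).ne_zero (hk ▸ dvd_pow_self p hk0)] at hord
  exact absurd hord (Nat.div_lt_self (orderOf_pos a) (Fact.out : p.Prime).one_lt).ne

/-- An element of order prime to `p` lies in a normal `p`-complement. -/
theorem exists_complement {H : Type u} [Group H] [Finite H] (h : HasNormalPComplement p H) :
    ∃ K : Subgroup H, K.Normal ∧ (∀ x : H, ¬ p ∣ orderOf x → x ∈ K) ∧
      ∀ (x : H) (k : ℕ), x ∈ K → orderOf x = p ^ k → x = 1 := by
  obtain ⟨P, N, hN, hNP⟩ := h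
  haveI := hN
  obtain ⟨n, hn⟩ := IsPGroup.iff_card.1 P.isPGroup'
  have hidx : N.index = p ^ n := by rw [hNP.symm.index_eq_card, hn]
  have hNp : ¬ p ∣ Nat.card N := fun hd => P.not_dvd_index (hNP.index_eq_card.symm ▸ hd)
  refine ⟨N, hN, fun x hx => BrauerPairs.mem_of_isPRegular (Fact.out : p.Prime) hidx hx, ?_⟩
  intro x k hx hk
  rcases Nat.eq_zero_or_pos k with rfl | hk0
  · exact orderOf_eq_one_iff.1 (by rw [hk, pow_zero])
  · refine absurd ((dvd_pow_self p hk0.ne').trans ?_) hNp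
    rw [← hk, ← Subgroup.orderOf_mk x hx]
    exact orderOf_dvd_natCard _

/-- An element of order prime to `p` normalising a `p`-subgroup of `C_G(z)`, the latter
`p`-nilpotent, centralises it. -/
theorem commute_of_nilpotent_centralizer {z s x : G}
    (hC : HasNormalPComplement p (Subgroup.centralizer ({z} : Set G)))
    (hs : s ∈ Subgroup.centralizer ({z} : Set G)) (hsp : ¬ p ∣ orderOf s)
    (hx : x ∈ Subgroup.centralizer ({z} : Set G))
    (hxs : ∃ k : ℕ, orderOf (s * x * s⁻¹ * x⁻¹) = p ^ k) : s * x * s⁻¹ = x := by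
  obtain ⟨K, hK, hreg, htriv⟩ := exists_complement hC
  set s' : Subgroup.centralizer ({z} : Set G) := ⟨s, hs⟩
  set x' : Subgroup.centralizer ({z} : Set G) := ⟨x, hx⟩
  have hs' : s' ∈ K := hreg s' (by rwa [Subgroup.orderOf_mk])
  have hmem : s' * x' * s'⁻¹ * x'⁻¹ ∈ K := by
    have e : s' * x' * s'⁻¹ * x'⁻¹ = s' * (x' * s'⁻¹ * x'⁻¹) := by group
    rw [e]
    exact mul_mem hs' (hK.conj_mem _ (inv_mem hs') x')
  obtain ⟨k, hk⟩ := hxs
  have h1 := htriv _ k hmem (by rw [← Subgroup.orderOf_coe]; exact hk)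
  exact mul_inv_eq_one.1 (congrArg Subtype.val h1)

/-- A Sylow subgroup with all nonidentity elements conjugate and `p`-nilpotent centralisers of
`p`-elements is abelian. -/
theorem commute_of_isConj (P : Sylow p G)
    (hconj : ∀ v ∈ P, ∀ w ∈ P, v ≠ 1 → w ≠ 1 → IsConj v w)
    (hnil : ∀ v ∈ P, v ≠ 1 → HasNormalPComplement p (Subgroup.centralizer ({v} : Set G)))
    {a b : G} (ha : a ∈ P) (hb : b ∈ P) : a * b = b * a := by
  classical
  have hp := (Fact.out : p.Prime)
  have hP := P.isPGroup'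
  by_cases ha1 : a = 1
  · simp [ha1]
  have hpow : ∀ x ∈ P, x ^ p = 1 := fun x hx =>
    pow_eq_one_of_isConj hP (fun v hv w hw => hconj v hv w hw) hx
  by_cases hp2 : p = 2
  · subst hp2
    have hinv : ∀ x ∈ P, x⁻¹ = x := fun x hx =>
      inv_eq_of_mul_eq_one_right (by rw [← pow_two]; exact hpow x hx)
    have h := hinv _ (mul_mem ha hb)
    rw [mul_inv_rev, hinv a ha, hinv b hb] at h
    exact h.symm
  -- a central element
  haveI : Nontrivial (P : Subgroup G) :=
    ⟨⟨⟨a, ha⟩, 1, fun h => ha1 (congrArg Subtype.val h)⟩⟩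
  haveI := hP.center_nontrivial
  obtain ⟨⟨z₀, hz₀⟩, hz₀1⟩ := exists_ne (1 : Subgroup.center (P : Subgroup G))
  set z : G := (z₀ : G) with hz
  have hzP : z ∈ P := z₀.2
  have hz1 : z ≠ 1 := fun h => hz₀1 (Subtype.ext (Subtype.ext h))
  have hzc : ∀ x ∈ P, x * z = z * x := fun x hx =>
    congrArg Subtype.val (Subgroup.mem_center_iff.1 hz₀ ⟨x, hx⟩)
  have hodd : ∀ x ∈ P, x ≠ 1 → x * x ≠ 1 := by
    intro x hx hx1 h
    have h2 : orderOf x ∣ 2 := orderOf_dvd_of_pow_eq_one (by rw [pow_two]; exact h)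
    have h3 : orderOf x ∣ p := orderOf_dvd_of_pow_eq_one (hpow x hx)
    have h4 : orderOf x ∣ Nat.gcd 2 p := Nat.dvd_gcd h2 h3
    rw [Nat.Coprime.gcd_eq_one ((Nat.coprime_primes Nat.prime_two hp).2 (Ne.symm hp2))] at h4
    exact hx1 (orderOf_eq_one_iff.1 (Nat.dvd_one.1 h4))
  -- Burnside
  obtain ⟨g₀, hg₀⟩ := isConj_iff.1 (hconj z hzP z⁻¹ (inv_mem hzP) hz1 (inv_ne_one.2 hz1))
  have hzcent : z ∈ Subgroup.centralizer ((P : Subgroup G) : Set G) :=
    Subgroup.mem_centralizer_iff.2 fun x hx => hzc x hx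
  obtain ⟨n, hn, hne⟩ := Sylow.conj_eq_normalizer_conj_of_mem_centralizer P z g₀⁻¹ hzcent
    (by rw [inv_inv, hg₀]; exact inv_mem hzcent)
  rw [inv_inv, hg₀] at hne
  set g := n⁻¹ with hgdef
  have hgz : g * z * g⁻¹ = z⁻¹ := by rw [hgdef, inv_inv]; exact hne.symm
  have hgN : g ∈ Subgroup.normalizer ((P : Subgroup G) : Set G) := inv_mem hn
  -- its `2`-part
  obtain ⟨e, m, hm, hgm⟩ := Nat.exists_eq_two_pow_mul_odd (orderOf_pos g).ne'
  set t := g ^ m with ht
  have htN : t ∈ Subgroup.normalizer ((P : Subgroup G) : Set G) := pow_mem hgN m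
  have htord : orderOf t ∣ 2 ^ e :=
    orderOf_dvd_of_pow_eq_one (by rw [ht, ← pow_mul, mul_comm, ← hgm, pow_orderOf_eq_one])
  have htp : ∀ j : ℕ, ¬ p ∣ orderOf (t ^ j) := by
    intro j h
    exact hp2 ((Nat.prime_dvd_prime_iff_eq hp Nat.prime_two).1
      (hp.dvd_of_dvd_pow ((h.trans (orderOf_pow_dvd j)).trans htord)))
  have htz : t * z * t⁻¹ = z⁻¹ := by
    have h2 : ∀ j : ℕ, g ^ (2 * j) * z * (g ^ (2 * j))⁻¹ = z := by
      intro j
      induction j with
      | zero => simp
      | succ j ih =>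
        calc g ^ (2 * (j + 1)) * z * (g ^ (2 * (j + 1)))⁻¹
            = g * (g * (g ^ (2 * j) * z * (g ^ (2 * j))⁻¹) * g⁻¹) * g⁻¹ := by
              rw [Nat.mul_succ, pow_succ', pow_succ']
              group
          _ = g * z⁻¹ * g⁻¹ := by rw [ih, hgz]
          _ = (g * z * g⁻¹)⁻¹ := by group
          _ = z := by rw [hgz, inv_inv]
    obtain ⟨j, rfl⟩ := hm
    calc t * z * t⁻¹ = g * (g ^ (2 * j) * z * (g ^ (2 * j))⁻¹) * g⁻¹ := by
          rw [ht, pow_succ']
          group
      _ = z⁻¹ := by rw [h2, hgz]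
  have hact : ∀ s ∈ Subgroup.normalizer ((P : Subgroup G) : Set G), ∀ x ∈ P,
      s * x * s⁻¹ ∈ P := fun s hs x hx => (Subgroup.mem_normalizer_iff.1 hs x).1 hx
  have hordP : ∀ x ∈ P, ∃ k : ℕ, orderOf x = p ^ k := fun x hx => by
    obtain ⟨k, hk⟩ := (IsPGroup.iff_orderOf.1 hP) ⟨x, hx⟩
    exact ⟨k, by rw [← hk, Subgroup.orderOf_mk]⟩
  -- `t²` centralises `P`
  have ht2z : (t * t) * z * (t * t)⁻¹ = z := by
    calc (t * t) * z * (t * t)⁻¹ = t * (t * z * t⁻¹) * t⁻¹ := by group
      _ = t * z⁻¹ * t⁻¹ := by rw [htz]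
      _ = (t * z * t⁻¹)⁻¹ := by group
      _ = z := by rw [htz, inv_inv]
  have ht2 : ∀ x ∈ P, (t * t) * x * (t * t)⁻¹ = x := fun x hx =>
    commute_of_nilpotent_centralizer (p := p) (hnil z hzP hz1)
      (Subgroup.mem_centralizer_singleton_iff.2 (mul_inv_eq_iff_eq_mul.1 ht2z))
      (by rw [← pow_two]; exact htp 2)
      (Subgroup.mem_centralizer_singleton_iff.2 (hzc x hx))
      (hordP _ (mul_mem (hact _ (mul_mem htN htN) x hx) (inv_mem hx)))
  -- `t` fixes only `1`
  have hfix : ∀ x ∈ P, t * x * t⁻¹ = x → x = 1 := by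
    intro x hx hfx
    by_contra hx1
    have h := commute_of_nilpotent_centralizer (p := p) (hnil x hx hx1)
      (Subgroup.mem_centralizer_singleton_iff.2 (mul_inv_eq_iff_eq_mul.1 hfx))
      (by simpa using htp 1)
      (Subgroup.mem_centralizer_singleton_iff.2 (hzc x hx).symm)
      (hordP _ (mul_mem (hact t htN z hzP) (inv_mem hzP)))
    exact hodd z hzP hz1 (by
      rw [htz] at h
      exact (inv_eq_iff_mul_eq_one.1 h))
  let φ : (P : Subgroup G) →* (P : Subgroup G) :=
    { toFun := fun x => ⟨t * x * t⁻¹, hact t htN x x.2⟩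
      map_one' := Subtype.ext (by simp)
      map_mul' := fun x y => Subtype.ext (by simp only [Subgroup.coe_mul]; group) }
  have hφ : MonoidHom.FixedPointFree φ := fun x hx =>
    Subtype.ext (hfix x x.2 (congrArg Subtype.val hx))
  have hinv : Function.Involutive φ := fun x => Subtype.ext (by
    show t * (t * (x : G) * t⁻¹) * t⁻¹ = x
    calc t * (t * (x : G) * t⁻¹) * t⁻¹ = (t * t) * x * (t * t)⁻¹ := by group
      _ = x := ht2 x x.2)
  exact congrArg Subtype.val (hφ.commute_all_of_involutive hinv ⟨a, ha⟩ ⟨b, hb⟩)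

/-- The principal case. -/
theorem isElementaryAbelian_principal (hM : IsPModular p M)
    (hk : Nat.card (principalBlock M G) = blockRank p (principalBlock M G) + 1) {D : Subgroup G}
    (hD : IsDefectGroup p M (principalBlock M G) D) : IsElementaryAbelian p D := by
  classical
  haveI : M.IsPrime := hM.2.1.isPrime
  have hB : IsPBlock M (principalBlock M G) := ⟨Char.trivialIrr G, rfl⟩
  obtain ⟨P, hDP⟩ := (Block.isDefectGroup_isPGroup hD).exists_le_sylow
  have hex : ∀ v ∈ P, IsInducedBlock M (Subgroup.centralizer ({v} : Set G))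
      (principalBlock M (Subgroup.centralizer ({v} : Set G))) (principalBlock M G) := by
    intro v hv
    haveI := Fintype.ofFinite (Subgroup.centralizer ({v} : Set G))
    have hR : IsPGroup p (Subgroup.zpowers v) := P.isPGroup'.to_le (Subgroup.zpowers_le.2 hv)
    have hC := Brauer.centralizer_zpowers_eq v
    obtain ⟨B', hB'⟩ := Block.inducedBlockDefined_of_brauer hM hR
      (H := Subgroup.centralizer ({v} : Set G))
      (Subgroup.zpowers_le.2 (Subgroup.mem_centralizer_singleton_iff.2 rfl)) hC.le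
      (hC ▸ Subgroup.centralizer_le_normalizer _)
      (b := principalBlock M (Subgroup.centralizer ({v} : Set G))) ⟨Char.trivialIrr _, rfl⟩
    rwa [(Brauer.isInducedBlock_principal_iff hM _ hB').2 rfl] at hB'
  have hordP : ∀ x ∈ P, ∃ k : ℕ, orderOf x = p ^ k := fun x hx => by
    obtain ⟨k, hk⟩ := (IsPGroup.iff_orderOf.1 P.isPGroup') ⟨x, hx⟩
    exact ⟨k, by rw [← hk, Subgroup.orderOf_mk]⟩
  have hall : ∀ v ∈ P, ∀ w ∈ P, v ≠ 1 → w ≠ 1 → IsConj v w ∧
      blockRank p (principalBlock M (Subgroup.centralizer ({v} : Set G))) = 1 :=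
    fun v hv w hw hv1 hw1 =>
      one_subsection hM hB hk (hordP v hv) (hordP w hw) hv1 hw1 (hex v hv) (hex w hw)
  have hnil : ∀ v ∈ P, v ≠ 1 → HasNormalPComplement p (Subgroup.centralizer ({v} : Set G)) := by
    intro v hv hv1
    haveI := Fintype.ofFinite (Subgroup.centralizer ({v} : Set G))
    exact S4646.hasNormalPComplement_of_rank_one hM (hall v hv v hv hv1 hv1).2
  have hconj : ∀ v ∈ P, ∀ w ∈ P, v ≠ 1 → w ≠ 1 → IsConj v w :=
    fun v hv w hw h1 h2 => (hall v hv w hw h1 h2).1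
  refine ⟨⟨⟨fun a b => Subtype.ext ?_⟩⟩, fun a ha => ?_⟩
  · exact commute_of_isConj P hconj hnil (hDP a.2) (hDP b.2)
  · exact pow_eq_one_of_isConj P.isPGroup' hconj (hDP ha)

end Cfsg.Agent.BlockCover.OneMore
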