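import Cfsg.Agent.BlockCover.OneSubsection
import Cfsg.Agent.BlockCover.Solvable
import Cfsg.Agent.S4436
import Cfsg.Agent.PSolv.Basic

/-!
# Blocks of `p`-soluble groups with one more ordinary than modular character
-/

set_option autoImplicit false
set_option linter.style.haveILetI false
set_option linter.unusedSectionVars false

namespace Cfsg.Agent.BlockCover.OneMore

open Cfsg
open Cfsg.Agent.Block

universe u

variable {G : Type u} [Group G] [Fintype G] {p : ℕ} [Fact p.Prime] {M : Ideal AlgInt}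

/-- Induction commutes with restriction to the `p`-regular elements. -/
theorem pRegularPart_indFun (T : Subgroup G) (f : T → ℂ) :
    pRegularPart p (indFun T f) = indFun T (pRegularPart p f) := by
  classical
  funext g
  by_cases hg : IsPRegular p g
  · have e : pRegularPart p (indFun T f) g = indFun T f g := if_pos hg
    rw [e]
    unfold indFun
    congr 1
    refine Finset.sum_congr rfl fun x _ => ?_
    by_cases hy : x⁻¹ * g * x ∈ T
    · rw [CharInd.extendByZero_mem T _ hy, CharInd.extendByZero_mem T _ hy]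
      have h : IsPRegular p (⟨x⁻¹ * g * x, hy⟩ : T) := by
        unfold IsPRegular
        rw [Subgroup.orderOf_mk, show x⁻¹ * g * x = MulAut.conj x⁻¹ g by simp, MulEquiv.orderOf_eq]
        exact hg
      exact (if_pos h).symm
    · rw [CharInd.extendByZero_notMem T _ hy, CharInd.extendByZero_notMem T _ hy]
  · have e : pRegularPart p (indFun T f) g = 0 := if_neg hg
    rw [e, indFun]
    refine (mul_eq_zero_of_right _ (Finset.sum_eq_zero fun x _ => ?_)).symm
    by_cases hy : x⁻¹ * g * x ∈ T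
    · rw [CharInd.extendByZero_mem T _ hy]
      refine if_neg fun h => hg ?_
      unfold IsPRegular at h ⊢
      rwa [Subgroup.orderOf_mk, show x⁻¹ * g * x = MulAut.conj x⁻¹ g by simp,
        MulEquiv.orderOf_eq] at h
    · exact CharInd.extendByZero_notMem T _ hy

/-- The rank does not grow under induction. -/
theorem blockRank_le_of_indFun {T : Subgroup G} [Fintype T] {B : Set (IrrCharacter G)}
    {B' : Set (IrrCharacter T)}
    (h : ∀ χ : IrrCharacter G, χ ∈ B → ∃ ψ ∈ B', (χ : G → ℂ) = indFun T (ψ : T → ℂ)) :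
    blockRank p B ≤ blockRank p B' := by
  classical
  let L : (T → ℂ) →ₗ[ℂ] (G → ℂ) :=
    { toFun := fun f => indFun T f
      map_add' := fun f f' => CharInd.indFun_add (H := T) f f'
      map_smul' := fun c f => CharInd.indFun_smul (H := T) c f }
  set S := Submodule.span ℂ ((fun ψ : IrrCharacter T => pRegularPart p (ψ : T → ℂ)) '' B')
  haveI : FiniteDimensional ℂ S := FiniteDimensional.span_of_finite ℂ (Set.toFinite _)
  refine le_trans (Submodule.finrank_mono (Submodule.span_le.2 ?_)) (Submodule.finrank_map_le L S)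
  rintro _ ⟨χ, hχ, rfl⟩
  obtain ⟨ψ, hψ, e⟩ := h χ hχ
  refine ⟨pRegularPart p (ψ : T → ℂ), Submodule.subset_span ⟨ψ, hψ, rfl⟩, ?_⟩
  show indFun T (pRegularPart p (ψ : T → ℂ)) = pRegularPart p (χ : G → ℂ)
  rw [e, pRegularPart_indFun]

/-- With all nontrivial elements of a Sylow subgroup conjugate, a normal `p`-core above `O_{p'}`
makes the Sylow subgroup abelian. -/
theorem commute_of_pSolvable (hsolv : IsPSolvable p G) {D : Subgroup G} (hDp : IsPGroup p D)
    (hcard : Nat.card D = p ^ (Nat.card G).factorization p)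
    (hconj : ∀ v ∈ D, ∀ w ∈ D, v ≠ 1 → w ≠ 1 → IsConj v w)
    {a b : G} (ha : a ∈ D) (hb : b ∈ D) : a * b = b * a := by
  classical
  have hp := (Fact.out : p.Prime)
  by_cases ha1 : a = 1
  · simp [ha1]
  set N := pPrimeCore p G with hN
  haveI : N.Normal := pPrimeCore_normal p G
  have hpN : ¬ p ∣ Nat.card N := by
    rw [← hp.coprime_iff_not_dvd, hN]
    exact (PSolv.coprime_card_pPrimeCore p G).symm
  have hDN : ∀ x ∈ D, x ∈ N → x = 1 := by
    intro x hx hxN
    obtain ⟨k, hk⟩ := (IsPGroup.iff_orderOf.1 hDp) ⟨x, hx⟩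
    rw [Subgroup.orderOf_mk] at hk
    rcases Nat.eq_zero_or_pos k with rfl | hk0
    · exact orderOf_eq_one_iff.1 (by rw [hk, pow_zero])
    · refine absurd ((dvd_pow_self p hk0.ne').trans ?_) hpN
      rw [← hk, ← Subgroup.orderOf_mk x hxN]
      exact orderOf_dvd_natCard _
  -- the `p`-core above `N`
  set R : Subgroup G := (pCore p (G ⧸ N)).comap (QuotientGroup.mk' N) with hR
  haveI : (pCore p (G ⧸ N)).Normal := pCore_normal p _
  haveI hRn : R.Normal := (inferInstance : (pCore p (G ⧸ N)).Normal).comap _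
  have hNR : N ≤ R := QuotientGroup.le_comap_mk' N _
  obtain ⟨k, hk⟩ := IsPGroup.iff_card.1 (PSolv.isPGroup_pCore p (G ⧸ N))
  have hRcard : Nat.card R = Nat.card N * p ^ k := by
    rw [hR, PSolv.card_comap_mk, hk]
  have hk0 : k ≠ 0 := by
    intro h0
    have hbot : pCore p (G ⧸ N) = ⊥ := by
      rw [← Subgroup.card_eq_one, hk, h0, pow_zero]
    have h1 := PSolv.centralizer_pCore_le (PSolv.isPSolvable_quotient hsolv N)
      (PSolv.pPrimeCore_quotient_eq_bot p G)
    rw [hbot] at h1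
    refine ha1 (hDN a ha ?_)
    rw [← QuotientGroup.eq_one_iff]
    exact Subgroup.mem_bot.1 (h1 fun u hu => by
      rw [SetLike.mem_coe, Subgroup.mem_bot] at hu
      rw [hu, one_mul, mul_one])
  obtain ⟨r, hr⟩ := exists_prime_orderOf_dvd_card' (G := R) p
    (hRcard ▸ (dvd_pow_self p hk0).mul_left _)
  let S : Sylow p G := Sylow.ofCard D hcard
  have hall : ∀ v ∈ D, v ∈ R := by
    intro v hv
    by_cases hv1 : v = 1
    · rw [hv1]; exact one_mem R
    obtain ⟨P, hP⟩ := (IsPGroup.of_card (n := 1) (by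
      rw [Nat.card_zpowers, Subgroup.orderOf_coe, hr, pow_one]) :
        IsPGroup p (Subgroup.zpowers (r : G))).exists_le_sylow
    obtain ⟨c, hc⟩ := MulAction.exists_smul_eq G P S
    have hr' : c * (r : G) * c⁻¹ ∈ D := by
      have : c * (r : G) * c⁻¹ ∈ ((c • P : Sylow p G) : Subgroup G) :=
        ⟨r, hP (Subgroup.mem_zpowers _), rfl⟩
      rwa [hc] at this
    have hr1 : c * (r : G) * c⁻¹ ≠ 1 := by
      rw [Ne, mul_inv_eq_one, mul_eq_left]
      exact fun h => hp.ne_one (by rw [← hr, ← Subgroup.orderOf_coe, h, orderOf_one])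
    obtain ⟨t, ht⟩ := isConj_iff.1 (hconj _ hr' _ hv hr1 hv1)
    rw [← ht]
    exact hRn.conj_mem _ (hRn.conj_mem _ r.2 c) t
  -- `R = D N`
  have hRDN : D ⊔ N = R := by
    refine Subgroup.eq_of_le_of_card_ge (sup_le hall hNR) ?_
    have h1 : Nat.card D ∣ Nat.card (D ⊔ N : Subgroup G) := Subgroup.card_dvd_of_le le_sup_left
    have h2 : Nat.card N ∣ Nat.card (D ⊔ N : Subgroup G) := Subgroup.card_dvd_of_le le_sup_right
    have hpow : p ^ k ∣ Nat.card D := by
      rw [hcard]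
      refine Nat.pow_dvd_pow p ((hp.pow_dvd_iff_le_factorization Nat.card_pos.ne').1 ?_)
      exact ((hRcard ▸ dvd_mul_left (p ^ k) _ : p ^ k ∣ Nat.card R)).trans
        R.card_subgroup_dvd_card
    rw [hRcard]
    exact Nat.le_of_dvd Nat.card_pos
      (((hp.coprime_iff_not_dvd.2 hpN).symm.pow_right k).mul_dvd_of_dvd_of_dvd h2 (hpow.trans h1))
  -- a central element
  haveI : Nontrivial D := ⟨⟨⟨a, ha⟩, 1, fun h => ha1 (congrArg Subtype.val h)⟩⟩
  haveI := hDp.center_nontrivial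
  obtain ⟨⟨w₀, hw₀⟩, hw₀1⟩ := exists_ne (1 : Subgroup.center D)
  have hw1 : (w₀ : G) ≠ 1 := fun h => hw₀1 (Subtype.ext (Subtype.ext h))
  obtain ⟨g, hg⟩ := isConj_iff.1 (hconj w₀ w₀.2 a ha hw1 ha1)
  have hb' : g⁻¹ * b * g ∈ D ⊔ N := by
    rw [hRDN]
    simpa using hRn.conj_mem _ (hall b hb) g⁻¹
  rw [← SetLike.mem_coe, Subgroup.mul_normal] at hb'
  obtain ⟨d, hd, n, hn, hdn⟩ := hb'
  have hwd : (w₀ : G) * d = d * w₀ :=
    (congrArg Subtype.val (Subgroup.mem_center_iff.1 hw₀ ⟨d, hd⟩)).symm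
  have hcomm : a * b * a⁻¹ * b⁻¹ ∈ N := by
    have hw : (w₀ : G) * (g⁻¹ * b * g) * (w₀ : G)⁻¹ * (g⁻¹ * b * g)⁻¹ ∈ N := by
      change d * n = g⁻¹ * b * g at hdn
      rw [← hdn]
      have e : (w₀ : G) * (d * n) * (w₀ : G)⁻¹ * (d * n)⁻¹ =
          d * ((w₀ : G) * n * (w₀ : G)⁻¹ * n⁻¹) * d⁻¹ := by
        rw [← mul_assoc (w₀ : G) d n, hwd]; group
      rw [e]
      exact (inferInstance : N.Normal).conj_mem _
        (mul_mem ((inferInstance : N.Normal).conj_mem _ hn _) (inv_mem hn)) _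
    have h2 := (inferInstance : N.Normal).conj_mem _ hw g
    rw [← hg]
    convert h2 using 1
    group
  have h3 := hDN _ (mul_mem (mul_mem (mul_mem ha hb) (inv_mem ha)) (inv_mem hb)) hcomm
  exact mul_inv_eq_iff_eq_mul.1 (mul_inv_eq_one.1 h3)

/-- The `p`-soluble case. -/
theorem isElementaryAbelian_pSolvable (hM : IsPModular p M) : ∀ (n : ℕ) (G : Type u) [Group G]
    [Fintype G], Nat.card G = n → IsPSolvable p G → ∀ (B : Set (IrrCharacter G)) (D : Subgroup G),
    IsPBlock M B → IsDefectGroup p M B D → Nat.card B = blockRank p B + 1 →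
    IsElementaryAbelian p D := by
  intro n
  induction n using Nat.strong_induction_on with
  | _ n ih =>
  intro G _ _ hn hsolv B D hB hD hk
  classical
  haveI : M.IsPrime := hM.2.1.isPrime
  have hp := (Fact.out : p.Prime)
  have hDp := isDefectGroup_isPGroup hD
  set N := pPrimeCore p G with hNdef
  haveI : N.Normal := pPrimeCore_normal p G
  letI := Fintype.ofFinite N
  have hpN : ¬ p ∣ Nat.card N := by
    rw [← hp.coprime_iff_not_dvd, hNdef]
    exact (PSolv.coprime_card_pPrimeCore p G).symm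
  obtain ⟨χ, hχ⟩ := pBlock_nonempty hB
  obtain ⟨θ, m, hm, hθ⟩ := Char.exists_irr_constituent
    (CharInd.isCharacter_res N (Char.isCharacter_of_irr χ.2))
    (fun h => Char.irr_one_ne_zero χ.2 (congrFun h 1))
  have hθ0 : classInner (fun k : N => (χ : G → ℂ) k) (θ : N → ℂ) ≠ 0 := by
    rw [hθ]; exact Nat.cast_ne_zero.2 hm.ne'
  set T := CharInd.conjStab N (θ : N → ℂ) with hTdef
  by_cases hT : T = ⊤
  · -- `D` is a Sylow subgroup
    have hinv : ∀ x : G, Brauer.conjIrr N x θ = θ := fun x =>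
      Subtype.ext ((CharInd.mem_conjStab N).1 (show x ∈ T from hT ▸ Subgroup.mem_top x))
    obtain ⟨B₀, hB₀, hiff, hfull⟩ := block_over_pPrimeCore N hM hsolv hNdef θ hinv
    obtain rfl := pBlock_eq_of_mem hB hB₀ hχ ((hiff χ).2 hθ0)
    have hcard := hfull D hD
    have hconj : ∀ v ∈ D, ∀ w ∈ D, v ≠ 1 → w ≠ 1 → IsConj v w := fun v hv w hw h1 h2 =>
      isConj_of_mem_defectGroup hM hB hk hD hv hw h1 h2
    exact ⟨⟨⟨fun a b => Subtype.ext (commute_of_pSolvable hsolv hDp hcard hconj a.2 b.2)⟩⟩,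
      fun a ha => pow_eq_one_of_isConj hDp hconj ha⟩
  · letI := Fintype.ofFinite T
    have hNT : N ≤ T := CharInd.le_conjStab N (Char.irr_isClassFunction θ.2)
    set b : Set (IrrCharacter N) := {θ} with hbdef
    have hb : IsPBlock M b := ⟨θ, (blockOf_eq_singleton hM hpN θ).symm⟩
    have hmem : ∀ g : G, g ∈ T ↔ ∀ η ∈ b, Brauer.conjIrr N g η ∈ b := fun g => by
      refine ⟨fun h η hη => ?_, fun h => ?_⟩
      · rw [hbdef, Set.mem_singleton_iff] at hη ⊢
        subst hη
        exact Subtype.ext ((CharInd.mem_conjStab N).1 h)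
      · exact (CharInd.mem_conjStab N).2 (congrArg Subtype.val (h θ rfl))
    have hT' : ∀ g : G, g ∈ T ↔ ∀ η ∈ b, ∀ η' : IrrCharacter N,
        (∀ k : N, (η' : N → ℂ) k = (η : N → ℂ) ⟨g * k * g⁻¹,
          (inferInstance : N.Normal).conj_mem k k.2 g⟩) → η' ∈ b := fun g => by
      rw [hmem]
      refine ⟨fun h η hη η' hη' => ?_, fun h η hη => h η hη _ fun k => ?_⟩
      · rw [show η' = Brauer.conjIrr N g η from Subtype.ext (funext fun k => by
          rw [hη' k]; exact (CharInd.conjChar_apply N g (η : N → ℂ) k).symm)]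
        exact h η hη
      · exact CharInd.conjChar_apply N g (η : N → ℂ) k
    obtain ⟨B', hB', hcov, hind⟩ := exists_inducing_block hNT hmem hM hb hB
      ⟨χ, hχ, θ, rfl, hθ0⟩
    obtain ⟨B₁, hind₁, -, hiff⟩ := induced_block hNT hmem hM hb hB' hcov
    rw [← isInducedBlock_unique hind hind₁] at hiff
    have hover := fun ψ (hψ : ψ ∈ B') => block_over hNT hM hb hmem hB' hcov (ψ := ψ) hψ
    have hcardB : Nat.card B' = Nat.card B := by
      refine Nat.card_eq_of_bijective (fun ψ : B' => (⟨⟨indFun T (ψ.1 : T → ℂ),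
        indFun_irr hNT hmem hb (hover ψ.1 ψ.2)⟩, (hiff _).2 ⟨ψ.1, ψ.2, rfl⟩⟩ : B)) ⟨?_, ?_⟩
      · intro ψ ψ' h
        exact Subtype.ext (indFun_injective hNT hmem hb (hover ψ.1 ψ.2) (hover ψ'.1 ψ'.2)
          (congrArg (fun x : B => ((x : IrrCharacter G) : G → ℂ)) h))
      · rintro ⟨ξ, hξ⟩
        obtain ⟨ψ, hψ, e⟩ := (hiff ξ).1 hξ
        exact ⟨⟨ψ, hψ⟩, Subtype.ext (Subtype.ext e.symm)⟩
    obtain ⟨D', hD'⟩ := exists_isDefectGroup (p := p) (M := M) hB'
    have hD'G : IsDefectGroup p M B (D'.map T.subtype) :=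
      (S4436.result p M hM N b hb T hT' hNT B' hB' hcov B hind).1 D' hD'
    obtain ⟨x, hx⟩ := isDefectGroup_exists_conj_eq hM hB hD'G hD
    by_cases hbot : D = ⊥
    · subst hbot
      exact ⟨⟨⟨fun a b => Subtype.ext (by simp [Subgroup.mem_bot.1 a.2, Subgroup.mem_bot.1 b.2])⟩⟩,
        fun a ha => by rw [Subgroup.mem_bot.1 ha, one_pow]⟩
    have hd : blockDefect p B' ≠ 0 := by
      intro h0
      have h1 := card_isDefectGroup hM hB' hD'
      rw [h0, pow_zero, Subgroup.card_eq_one] at h1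
      rw [h1, Subgroup.map_bot, Subgroup.map_bot] at hx
      exact hbot hx.symm
    have hle : blockRank p B ≤ blockRank p B' := blockRank_le_of_indFun fun ξ h => (hiff ξ).1 h
    have hlt := Brauer.KleinBlock.blockRank_lt_card hM hB' hd
    have hk' : Nat.card B' = blockRank p B' + 1 := by omega
    have hlt' : Nat.card T < n := hn ▸ lt_of_le_of_ne (Subgroup.card_le_card_group T)
      fun h => hT (Subgroup.eq_top_of_card_eq _ h)
    obtain ⟨hc, hexp⟩ := ih _ hlt' T rfl (PSolv.isPSolvable_subgroup hsolv T) B' D' hB' hD' hk'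
    rw [← hx]
    refine ⟨⟨⟨fun a b => ?_⟩⟩, ?_⟩
    · obtain ⟨_, ⟨a₀, ha₀, rfl⟩, ha'⟩ := a.2
      obtain ⟨_, ⟨b₀, hb₀, rfl⟩, hb'⟩ := b.2
      have h1 : a₀ * b₀ = b₀ * a₀ :=
        congrArg Subtype.val (hc.is_comm.comm (⟨a₀, ha₀⟩ : D') ⟨b₀, hb₀⟩)
      refine Subtype.ext ?_
      rw [Subgroup.coe_mul, Subgroup.coe_mul, ← ha', ← hb', ← map_mul, ← map_mul, ← map_mul,
        ← map_mul, h1]
    · rintro _ ⟨_, ⟨a₀, ha₀, rfl⟩, rfl⟩
      rw [← map_pow, ← map_pow, hexp a₀ ha₀, map_one, map_one]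

end Cfsg.Agent.BlockCover.OneMore
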