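import Cfsg.Agent.Block.DefectGroup
import Cfsg.Agent.Brauer.WeakOrth
import Cfsg.Agent.Brauer.Inflation

/-!
# Defect groups of the blocks of a quotient
-/

set_option linter.style.haveILetI false
set_option linter.unusedSectionVars false

namespace Cfsg.Agent.BlockCover

open Cfsg MonoidAlgebra
open Cfsg.Agent.Block

universe u

variable {G : Type u} [Group G] [Fintype G] (N : Subgroup G) [N.Normal]

/-- The group algebra map to the quotient. -/
noncomputable def quotRing {R : Type*} [CommRing R] :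
    MonoidAlgebra R G →+* MonoidAlgebra R (G ⧸ N) :=
  MonoidAlgebra.mapDomainRingHom R (QuotientGroup.mk' N)

theorem coeff_quotRing {R : Type*} [CommRing R] (a : MonoidAlgebra R G) (c : G ⧸ N)
    [DecidablePred fun x : G => (x : G ⧸ N) = c] :
    (quotRing N a).coeff c = ∑ x ∈ Finset.univ.filter (fun x : G => (x : G ⧸ N) = c), a.coeff x := by
  classical
  simp only [quotRing, MonoidAlgebra.mapDomainRingHom_apply, MonoidAlgebra.coeff_mapDomain]
  rw [Finsupp.mapDomain, Finsupp.sum_apply, Finsupp.sum_fintype _ _ fun x => by simp,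
    Finset.sum_filter]
  refine Finset.sum_congr rfl fun x _ => ?_
  rw [Finsupp.single_apply]
  exact if_congr Iff.rfl rfl rfl

theorem isCentralElt_quotRing {R : Type*} [CommRing R] {a : MonoidAlgebra R G}
    (ha : IsCentralElt a) : IsCentralElt (quotRing N a) := by
  classical
  intro c d
  obtain ⟨h, rfl⟩ := QuotientGroup.mk_surjective d
  rw [coeff_quotRing, coeff_quotRing]
  symm
  refine Finset.sum_equiv (MulAut.conj h).toEquiv (fun x => ?_) fun x _ => (ha x h).symm
  simp only [Finset.mem_filter, Finset.mem_univ, true_and]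
  show (x : G ⧸ N) = c ↔ ((h * x * h⁻¹ : G) : G ⧸ N) = _
  rw [QuotientGroup.mk_mul, QuotientGroup.mk_mul, QuotientGroup.mk_inv, mul_left_inj, mul_right_inj]

theorem mapR_quotRing {R R' : Type*} [CommRing R] [CommRing R'] (φ : R →+* R')
    (a : MonoidAlgebra R G) : mapR φ (quotRing N a) = quotRing N (mapR φ a) := by
  classical
  apply groupAlgebra_ext
  intro c
  simp only [coeff_mapR, coeff_quotRing, map_sum]

theorem omega_quotRing [Fintype (G ⧸ N)] (f : G ⧸ N → ℂ) (a : MonoidAlgebra ℂ G) :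
    omega f (quotRing N a) = omega (f ∘ QuotientGroup.mk) a := by
  classical
  rw [omega_eq_sum, omega_eq_sum, Function.comp_apply, QuotientGroup.mk_one]
  congr 1
  rw [← Finset.sum_fiberwise Finset.univ (fun x : G => (x : G ⧸ N))
    (fun x => a.coeff x * (f ∘ QuotientGroup.mk) x)]
  refine Finset.sum_congr rfl fun c _ => ?_
  rw [coeff_quotRing, Finset.sum_mul]
  refine Finset.sum_congr rfl fun x hx => ?_
  rw [Function.comp_apply, (Finset.mem_filter.1 hx).2]

variable {p : ℕ} [Fact p.Prime] {M : Ideal AlgInt} [M.IsPrime]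

theorem lam_quotRing [Fintype (G ⧸ N)] (χ : IrrCharacter (G ⧸ N))
    {a : MonoidAlgebra (ResF M) G} (ha : IsCentralElt a) :
    lam M (χ : G ⧸ N → ℂ) (quotRing N a) = lam M ((χ : G ⧸ N → ℂ) ∘ QuotientGroup.mk) a := by
  obtain ⟨z, hz, rfl⟩ := exists_lift ha
  rw [← mapR_quotRing, lam_toF χ.2 (isCentralElt_quotRing N hz),
    lam_toF (χ := (χ : G ⧸ N → ℂ) ∘ QuotientGroup.mk)
      (Char.isIrrCharacter_comp χ.2 (QuotientGroup.mk' N) (QuotientGroup.mk'_surjective N)) hz,
    mapR_quotRing, omega_quotRing]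

/-- A central idempotent seen by the whole block fixes the block idempotent. -/
theorem idemF_mul_eq_self {H : Type*} [Group H] [Fintype H] {B : Set (IrrCharacter H)}
    (hB : IsPBlock M B) {e : MonoidAlgebra (ResF M) H} (hec : IsCentralElt e) (hee : e * e = e)
    (hlam : ∀ χ ∈ B, lam M (χ : H → ℂ) e = 1) : idemF M B * e = idemF M B := by
  have hnil : IsNilpotent (idemF M B * (1 - e)) :=
    isNilpotent_idemF_mul hB (IsCentralElt.one.sub hec) fun χ hχ => by
      rw [lam_sub χ.2 IsCentralElt.one hec, lam_one χ.2, hlam χ hχ, sub_self]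
  have hidem : IsIdempotentElem (idemF M B * (1 - e)) :=
    IsIdempotentElem.mul_of_commute (isCentralElt_commute (idemF_isCentralElt B) _)
      (idemF_mul_self hB) (show IsIdempotentElem e from hee).one_sub
  have h0 := eq_of_idempotent_of_nilpotent_sub hidem IsIdempotentElem.zero
    (Commute.zero_right _) (by simpa using hnil)
  rw [mul_sub, mul_one, sub_eq_zero] at h0
  exact h0.symm

/-- Where the image of a block idempotent is nonzero, the `p`-subgroups of the centralizer lie
in the image of a defect group. -/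
theorem subConj_map_of_coeff_quotRing (hM : IsPModular p M) {B : Set (IrrCharacter G)}
    (hB : IsPBlock M B) {P : Subgroup G} (hP : IsDefectGroup p M B P) {D : Subgroup (G ⧸ N)}
    (hD : IsPGroup p D) {c : G ⧸ N} (hc : c ∈ Subgroup.centralizer (D : Set (G ⧸ N)))
    (hne : (quotRing N (idemF M B)).coeff c ≠ 0) :
    SubConj D (P.map (QuotientGroup.mk' N)) := by
  classical
  haveI := charP_resF (M := M) hM
  set D' := D.comap (QuotientGroup.mk' N) with hD'
  set φ := (QuotientGroup.mk' N).subgroupComap D with hφ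
  have hφs : Function.Surjective φ := by
    intro d
    obtain ⟨x, hx⟩ := QuotientGroup.mk'_surjective N (d : G ⧸ N)
    exact ⟨⟨x, show (QuotientGroup.mk' N) x ∈ D from hx ▸ d.2⟩, Subtype.ext hx⟩
  obtain ⟨S⟩ : Nonempty (Sylow p D') := inferInstance
  set E := (S : Subgroup D').map D'.subtype with hE
  have hEp : IsPGroup p E := S.isPGroup'.map _
  have hEmap : E.map (QuotientGroup.mk' N) = D := by
    have h1 : ((S.mapSurjective hφs : Sylow p D) : Subgroup D) = ⊤ := by
      refine ((S.mapSurjective hφs).is_maximal' ?_ le_top).symm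
      exact hD.of_equiv Subgroup.topEquiv.symm
    rw [Sylow.coe_mapSurjective] at h1
    apply le_antisymm
    · rintro _ ⟨x, ⟨s, -, rfl⟩, rfl⟩
      exact s.2
    · intro d hd
      obtain ⟨s, hs, hse⟩ : (⟨d, hd⟩ : D) ∈ (S : Subgroup D').map φ := h1 ▸ Subgroup.mem_top _
      exact ⟨(s : G), ⟨s, hs, rfl⟩, congrArg Subtype.val hse⟩
  have hEc : ∀ u ∈ E, Commute (u : G ⧸ N) c := fun u hu =>
    hc (u : G ⧸ N) (hEmap ▸ ⟨u, hu, rfl⟩)
  let X := {x : G // (x : G ⧸ N) = c}
  letI : MulAction E X :=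
    { smul := fun u x => ⟨(u : G) * x.1 * (u : G)⁻¹, by
        rw [QuotientGroup.mk_mul, QuotientGroup.mk_mul, x.2, QuotientGroup.mk_inv,
          (hEc u u.2).eq, mul_inv_cancel_right]⟩
      one_smul := fun x => Subtype.ext (by
        show ((1 : E) : G) * x.1 * ((1 : E) : G)⁻¹ = x.1
        simp)
      mul_smul := fun u v x => Subtype.ext (by
        show ((u * v : E) : G) * x.1 * ((u * v : E) : G)⁻¹ =
          (u : G) * ((v : G) * x.1 * (v : G)⁻¹) * (u : G)⁻¹
        simp [mul_assoc]) }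
  rw [coeff_quotRing, Finset.sum_subtype (p := fun x : G => (x : G ⧸ N) = c)
    (F := inferInstanceAs (Fintype X)) (Finset.univ.filter fun x : G => (x : G ⧸ N) = c)
    (fun x => by simp) (fun x => (idemF M B).coeff x)] at hne
  rw [sum_eq_sum_fixedPoints (p := p) hEp (X := X) (fun x => (idemF M B).coeff x.1)
    (fun u x => idemF_isCentralElt B x.1 u)] at hne
  obtain ⟨x, hx, hxne⟩ := Finset.exists_ne_zero_of_sum_ne_zero hne
  have hxC : x.1 ∈ Subgroup.centralizer (E : Set G) := by
    intro u hu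
    have := congrArg Subtype.val ((Finset.mem_filter.1 hx).2 ⟨u, hu⟩)
    change u * x.1 * u⁻¹ = x.1 at this
    exact mul_inv_eq_iff_eq_mul.1 this
  obtain ⟨F, hF⟩ := exists_isClassDefectGroup (p := p) x.1
  obtain ⟨y, hy⟩ := (subConj_classDefectGroup hEp hF (IsConj.refl _) hxC).trans
    (subConj_of_blockCoeff_unit hM hB hP hF ((coeff_idemF_ne_zero_iff hB _).1 hxne))
  refine ⟨(y : G ⧸ N), ?_⟩
  rintro _ ⟨d, hd, rfl⟩
  rw [← hEmap] at hd
  obtain ⟨e, he, rfl⟩ := hd
  exact ⟨_, hy ⟨e, he, rfl⟩, by simp⟩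

/-- Defect groups of a block of a quotient lie in the image of those of the block containing it. -/
theorem exists_defectGroup_ge_quot [Fintype (G ⧸ N)] (hM : IsPModular p M)
    {Bbar : Set (IrrCharacter (G ⧸ N))} (hBbar : IsPBlock M Bbar) {B : Set (IrrCharacter G)}
    (hB : IsPBlock M B)
    (hsub : ∀ χ ∈ Bbar, ∀ ψ : IrrCharacter G, (ψ : G → ℂ) = (χ : G ⧸ N → ℂ) ∘ QuotientGroup.mk → ψ ∈ B)
    {Dbar : Subgroup (G ⧸ N)} (hDbar : IsDefectGroup p M Bbar Dbar)
    {P : Subgroup G} (hP : IsDefectGroup p M B P) :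
    SubConj Dbar (P.map (QuotientGroup.mk' N)) := by
  classical
  haveI := charP_resF (M := M) hM
  obtain ⟨g, hg, hgD⟩ := isDefectGroup_iff.1 hDbar
  have he := isCentralElt_quotRing N (idemF_isCentralElt (M := M) B)
  have hfe : idemF M Bbar * quotRing N (idemF M B) = idemF M Bbar :=
    idemF_mul_eq_self hBbar he (by rw [← map_mul, idemF_mul_self hB]) fun χ hχ => by
      rw [lam_quotRing N χ (idemF_isCentralElt B)]
      exact lam_idemF_of_mem hB (χ := ⟨_, Char.isIrrCharacter_comp χ.2 (QuotientGroup.mk' N)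
        (QuotientGroup.mk'_surjective N)⟩) (hsub χ hχ _ rfl)
  have hgC : g ∈ Subgroup.centralizer (Dbar : Set (G ⧸ N)) :=
    le_centralizer_singleton_iff.1 hgD.le_centralizer
  set C := Subgroup.centralizer (Dbar : Set (G ⧸ N))
  have h1 : (trunc C (idemF M Bbar * quotRing N (idemF M B))).coeff g ≠ 0 := by
    rw [hfe, coeff_trunc_of_mem _ hgC]
    exact (coeff_idemF_ne_zero_iff hBbar g).2 hg.2.1
  rw [trunc_centralizer_mul hgD.isPGroup ((idemF_isCentralElt Bbar).isInvariant _)
    (he.isInvariant _), coeff_mul_sum'] at h1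
  obtain ⟨c, -, hc⟩ := Finset.exists_ne_zero_of_sum_ne_zero h1
  have hc' := right_ne_zero_of_mul hc
  have hcC : c ∈ C := by by_contra h; exact hc' (coeff_trunc_of_notMem _ h)
  rw [coeff_trunc_of_mem _ hcC] at hc'
  exact subConj_map_of_coeff_quotRing N hM hB hP hgD.isPGroup hcC hc'

/-- Modulo a normal `p`-subgroup a block contains a block with the image defect groups. -/
theorem exists_block_map_defectGroup [Fintype (G ⧸ N)] (hM : IsPModular p M) (hN : IsPGroup p N)
    {B : Set (IrrCharacter G)} (hB : IsPBlock M B) :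
    ∃ Bbar : Set (IrrCharacter (G ⧸ N)), IsPBlock M Bbar ∧
      (∀ χ ∈ Bbar, ∀ ψ : IrrCharacter G,
        (ψ : G → ℂ) = (χ : G ⧸ N → ℂ) ∘ QuotientGroup.mk → ψ ∈ B) ∧
      ∀ Dbar : Subgroup (G ⧸ N), IsDefectGroup p M Bbar Dbar ↔
        ∃ P : Subgroup G, IsDefectGroup p M B P ∧ Dbar = P.map (QuotientGroup.mk' N) := by
  classical
  haveI := charP_resF (M := M) hM
  obtain ⟨P, hP⟩ := exists_isDefectGroup (p := p) (M := M) hB
  obtain ⟨g, hg, hgP⟩ := isDefectGroup_iff.1 hP
  have hNP : N ≤ P := normal_le_isDefectGroup hM hB hP hN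
  have hgC : g ∈ Subgroup.centralizer (P : Set G) :=
    le_centralizer_singleton_iff.1 hgP.le_centralizer
  have hgreg : ¬ p ∣ orderOf g := fun h => hg.2.1 (by
    rw [Brauer.blockCoeff_eq_zero_of_integral hM B (blockCoeff_memLocalRing hB) h]
    exact memLocalIdeal_zero)
  have hcoeff : (quotRing N (idemF M B)).coeff (g : G ⧸ N) = (idemF M B).coeff g := by
    let X := {x : G // (x : G ⧸ N) = (g : G ⧸ N)}
    letI : MulAction N X :=
      { smul := fun u x => ⟨(u : G) * x.1 * (u : G)⁻¹, by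
          rw [QuotientGroup.mk_mul, QuotientGroup.mk_mul, x.2, QuotientGroup.mk_inv,
            (QuotientGroup.eq_one_iff (u : G)).2 u.2]
          simp⟩
        one_smul := fun x => Subtype.ext (by
          show ((1 : N) : G) * x.1 * ((1 : N) : G)⁻¹ = x.1
          simp)
        mul_smul := fun u v x => Subtype.ext (by
          show ((u * v : N) : G) * x.1 * ((u * v : N) : G)⁻¹ =
            (u : G) * ((v : G) * x.1 * (v : G)⁻¹) * (u : G)⁻¹
          simp [mul_assoc]) }
    rw [coeff_quotRing, Finset.sum_subtype (p := fun x : G => (x : G ⧸ N) = (g : G ⧸ N))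
      (F := inferInstanceAs (Fintype X)) (Finset.univ.filter fun x : G => (x : G ⧸ N) = (g : G ⧸ N))
      (fun x => by simp) (fun x => (idemF M B).coeff x)]
    rw [sum_eq_sum_fixedPoints (p := p) hN (X := X) (fun x => (idemF M B).coeff x.1)
      (fun u x => idemF_isCentralElt B x.1 u)]
    refine Finset.sum_eq_single_of_mem (⟨g, rfl⟩ : X) ?_ ?_
    · refine Finset.mem_filter.2 ⟨Finset.mem_univ _, fun u => Subtype.ext ?_⟩
      show (u : G) * g * (u : G)⁻¹ = g
      rw [hgC (u : G) (hNP u.2), mul_inv_cancel_right]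
    · intro x hx hne
      by_contra h0
      apply hne
      have hu : g⁻¹ * x.1 ∈ N := QuotientGroup.eq.1 x.2.symm
      have hxreg : ¬ p ∣ orderOf x.1 := fun h => (coeff_idemF_ne_zero_iff hB x.1).1 h0 (by
        rw [Brauer.blockCoeff_eq_zero_of_integral hM B (blockCoeff_memLocalRing hB) h]
        exact memLocalIdeal_zero)
      have hcomm : Commute g (g⁻¹ * x.1) := (hgC _ (hNP hu)).symm
      have := Brauer.eq_one_of_mul_regular hN hu hcomm hgreg (by rwa [mul_inv_cancel_left])
      exact Subtype.ext (inv_mul_eq_one.1 this).symm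
  have he := isCentralElt_quotRing N (idemF_isCentralElt (M := M) B)
  set e := quotRing N (idemF M B) with hedef
  have hne : e.coeff (g : G ⧸ N) ≠ 0 := hcoeff ▸ (coeff_idemF_ne_zero_iff hB g).2 hg.2.1
  obtain ⟨Bbar, hBbar, hne'⟩ : ∃ Bbar ∈ blocks M (G ⧸ N),
      (idemF M Bbar * e).coeff (g : G ⧸ N) ≠ 0 := by
    by_contra hall
    push Not at hall
    apply hne
    rw [← one_mul e, ← sum_idemF_blocks (M := M), Finset.sum_mul, coeff_sum, Finset.sum_apply']
    exact Finset.sum_eq_zero hall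
  rw [mem_blocks_iff] at hBbar
  have hee : e * e = e := by rw [hedef, ← map_mul, idemF_mul_self hB]
  have hsub : ∀ χ ∈ Bbar, ∀ ψ : IrrCharacter G,
      (ψ : G → ℂ) = (χ : G ⧸ N → ℂ) ∘ QuotientGroup.mk → ψ ∈ B := by
    intro χ hχ ψ hψ
    by_contra hψB
    apply hne'
    have hnil : IsNilpotent (idemF M Bbar * e) := isNilpotent_idemF_mul hBbar he fun χ' hχ' => by
      rw [lam_eq_of_sameBlock χ'.2 χ.2 (pBlock_sameBlock hBbar hχ' hχ) e,
        lam_quotRing N χ (idemF_isCentralElt B), ← hψ, lam_idemF_of_notMem hB hψB]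
    have hidem : IsIdempotentElem (idemF M Bbar * e) :=
      IsIdempotentElem.mul_of_commute (isCentralElt_commute (idemF_isCentralElt Bbar) _)
        (idemF_mul_self hBbar) hee
    rw [eq_of_idempotent_of_nilpotent_sub hidem IsIdempotentElem.zero (Commute.zero_right _)
      (by simpa using hnil)]
    rfl
  have hfe : idemF M Bbar * e = idemF M Bbar := idemF_mul_eq_self hBbar he hee fun χ hχ => by
    rw [lam_quotRing N χ (idemF_isCentralElt B)]
    exact lam_idemF_of_mem hB (χ := ⟨_, Char.isIrrCharacter_comp χ.2 (QuotientGroup.mk' N)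
      (QuotientGroup.mk'_surjective N)⟩) (hsub χ hχ _ rfl)
  rw [hfe] at hne'
  obtain ⟨D, hD⟩ := exists_isDefectGroup (p := p) (M := M) hBbar
  set Pb := P.map (QuotientGroup.mk' N) with hPb
  have hPbC : (g : G ⧸ N) ∈ Subgroup.centralizer (Pb : Set (G ⧸ N)) := by
    rintro _ ⟨u, hu, rfl⟩
    simpa using congrArg (QuotientGroup.mk : G → G ⧸ N) (hgC u hu)
  obtain ⟨F, hF⟩ := exists_isClassDefectGroup (p := p) (g : G ⧸ N)
  have h1 : SubConj Pb D :=
    (subConj_classDefectGroup (hgP.isPGroup.map _) hF (IsConj.refl _) hPbC).trans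
      (subConj_of_blockCoeff_unit hM hBbar hD hF ((coeff_idemF_ne_zero_iff hBbar _).1 hne'))
  have h2 : SubConj D Pb := exists_defectGroup_ge_quot N hM hBbar hB hsub hD hP
  have hPbD : IsDefectGroup p M Bbar Pb :=
    isDefectGroup_of_card_le hM hBbar hD h1 h2.card_le
  have hconj : ∀ x : G, Pb.map (MulAut.conj (x : G ⧸ N)).toMonoidHom =
      (P.map (MulAut.conj x).toMonoidHom).map (QuotientGroup.mk' N) := by
    intro x
    rw [hPb, Subgroup.map_map, Subgroup.map_map]
    congr 1
  refine ⟨Bbar, hBbar, hsub, fun Dbar => ⟨fun hDb => ?_, ?_⟩⟩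
  · obtain ⟨x, hx⟩ := isDefectGroup_exists_conj_eq hM hBbar hPbD hDb
    obtain ⟨x, rfl⟩ := QuotientGroup.mk_surjective x
    exact ⟨_, isDefectGroup_conj hP x, by rw [← hconj, hx]⟩
  · rintro ⟨P', hP', rfl⟩
    obtain ⟨x, rfl⟩ := isDefectGroup_exists_conj_eq hM hB hP hP'
    rw [← hconj]
    exact isDefectGroup_conj hPbD _

end Cfsg.Agent.BlockCover
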