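import Cfsg.Agent.BlockCover.CyclicTuples
import Cfsg.Agent.Block.Residue
import Cfsg.Agent.Block.GroupAlgebra
import Cfsg.Agent.Char.Basic
import Cfsg.Agent.Char.Orthogonality
import Mathlib.LinearAlgebra.Eigenspace.Triangularizable
import Mathlib.LinearAlgebra.Eigenspace.Minpoly
import Mathlib.LinearAlgebra.Trace
import Mathlib.NumberTheory.Basic
import Mathlib.Algebra.DirectSum.LinearMap
import Mathlib.RingTheory.IntegralClosure.IsIntegralClosure.Basic

/-!
# The unit rank of an element of the local group ring at a character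

For `x` in the group ring over the local integers at `M` and a character `χ`, the traces of the
high powers of `x` converge `p`-adically to the number of eigenvalues which are units.  This
number depends linearly on the restriction of `χ` to the `p`-regular elements.
-/

set_option linter.style.haveILetI false
set_option linter.unusedSectionVars false

namespace Cfsg.Agent.BlockCover

open Cfsg MonoidAlgebra
open Cfsg.Agent.Block

universe u

variable {p : ℕ} {M : Ideal AlgInt} [M.IsPrime]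

theorem algInt_coe_ne_zero {b : AlgInt} (hb : b ∉ M) : (b : ℂ) ≠ 0 := fun h => hb (by
  rw [show b = 0 from Subtype.ext h]; exact M.zero_mem)

/-- The local integers are integrally closed. -/
theorem memLocalRing_of_isIntegral_localRing {z : ℂ} (hz : IsIntegral (localRing M) z) :
    MemLocalRing M z := by
  classical
  obtain ⟨P, hP, hPz⟩ := hz
  choose a b hb hab using fun i => (P.coeff i).2
  set B : AlgInt := ∏ i ∈ Finset.range P.natDegree, b i with hB
  have hBM : B ∉ M := fun h => by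
    obtain ⟨i, -, hi⟩ := (inferInstance : M.IsPrime).prod_mem_iff.1 h
    exact hb i hi
  set Q : Polynomial ℂ := P.map (localRing M).subtype with hQ
  have hQm : Q.Monic := hP.map _
  have hroot : (Q.scaleRoots (B : ℂ)).eval ((B : ℂ) * z) = 0 := by
    have : Q.eval z = 0 := by rw [hQ, Polynomial.eval_map]; exact hPz
    exact Polynomial.scaleRoots_eval₂_eq_zero (RingHom.id ℂ) this
  have hdeg : Q.natDegree = P.natDegree := hP.natDegree_map _
  have hlift : Q.scaleRoots (B : ℂ) ∈ Polynomial.lifts (algebraMap AlgInt ℂ) := by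
    rw [Polynomial.lifts_iff_coeff_lifts]
    intro i
    rw [Polynomial.coeff_scaleRoots, hdeg]
    rcases lt_trichotomy i P.natDegree with h | h | h
    · refine ⟨a i * (∏ l ∈ (Finset.range P.natDegree).erase i, b l) *
        B ^ (P.natDegree - i - 1), ?_⟩
      have e1 : (B : ℂ) = (b i : ℂ) * ((∏ l ∈ (Finset.range P.natDegree).erase i, b l : AlgInt) : ℂ) := by
        rw [← Subalgebra.coe_mul]
        exact congrArg _ (Finset.mul_prod_erase _ b (Finset.mem_range.2 h)).symm
      have e2 : P.natDegree - i = (P.natDegree - i - 1) + 1 := by omega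
      show ((a i * _ * _ : AlgInt) : ℂ) = _
      rw [hQ, Polynomial.coeff_map, e2, pow_succ]
      rw [show (localRing M).subtype (P.coeff i) = ((a i : ℂ) / (b i : ℂ)) from (hab i).symm]
      push_cast
      generalize (B : ℂ) ^ (P.natDegree - i - 1) = E
      have hb0 := algInt_coe_ne_zero (hb i)
      rw [e1]
      push_cast
      field_simp
    · refine ⟨1, ?_⟩
      subst h
      rw [hQ, Polynomial.coeff_map, hP.coeff_natDegree]
      simp
    · exact ⟨0, by rw [Polynomial.coeff_eq_zero_of_natDegree_lt (hdeg.symm ▸ h)]; simp⟩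
  obtain ⟨R, hR, -, hRm⟩ :=
    Polynomial.lifts_and_degree_eq_and_monic hlift ((Polynomial.monic_scaleRoots_iff _).2 hQm)
  have hint : IsIntegral AlgInt ((B : ℂ) * z) := ⟨R, hRm, by
    rw [← Polynomial.eval_map, hR]; exact hroot⟩
  refine ⟨⟨(B : ℂ) * z, isIntegral_trans (R := ℤ) _ hint⟩, B, hBM, ?_⟩
  show (B : ℂ) * z / B = z
  field_simp [algInt_coe_ne_zero hBM]

/-- The radical of `p` is the maximal ideal of the local ring. -/
theorem exists_dvd_pow_of_red_eq_zero (hM : IsPModular p M) {z : localRing M} (hz : red M z = 0) :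
    ∃ m : ℕ, 0 < m ∧ (p : localRing M) ∣ z ^ m := by
  haveI : Fact p.Prime := ⟨hM.1⟩
  have hmem : z ∈ (Ideal.span {(p : localRing M)}).radical := by
    rw [Ideal.radical_eq_sInf, Submodule.mem_sInf]
    rintro P ⟨hle, hP⟩
    set P₀ : Ideal AlgInt := Ideal.comap (ofAlgInt M) P with hP₀
    haveI : P₀.IsPrime := hP.comap _
    have hp₀ : (p : AlgInt) ∈ P₀ := by
      show ofAlgInt M (p : AlgInt) ∈ P
      rw [map_natCast]
      exact hle (Ideal.mem_span_singleton_self _)
    have hP₀le : P₀ ≤ M := fun a ha => by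
      by_contra hc
      refine hP.ne_top (Ideal.eq_top_of_isUnit_mem _ ha (isUnit_localRing_iff.2 ?_))
      rw [ofAlgInt_coe, memLocalIdeal_algInt_iff]
      exact hc
    have hmax : P₀.IsMaximal := by
      refine Ideal.isMaximal_of_isIntegral_of_isMaximal_comap (R := ℤ) P₀ ?_
      have hle' : Ideal.span {(p : ℤ)} ≤ P₀.comap (algebraMap ℤ AlgInt) := by
        rw [Ideal.span_le, Set.singleton_subset_iff, SetLike.mem_coe, Ideal.mem_comap, map_natCast]
        exact hp₀
      haveI hm : (Ideal.span {(p : ℤ)}).IsMaximal :=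
        PrincipalIdealRing.isMaximal_of_irreducible (Nat.prime_iff_prime_int.1 hM.1).irreducible
      rw [← hm.eq_of_le (Ideal.comap_ne_top _ (inferInstance : P₀.IsPrime).ne_top) hle']
      exact hm
    have heq : P₀ = M := hmax.eq_of_le (inferInstance : M.IsPrime).ne_top hP₀le
    obtain ⟨a, b, ha, hb, hab⟩ := red_eq_zero_iff.1 hz
    have h1 : z * ofAlgInt M b = ofAlgInt M a := Subtype.ext (by
      rw [Subring.coe_mul, ofAlgInt_coe, ofAlgInt_coe, ← hab,
        div_mul_cancel₀ _ (algInt_coe_ne_zero hb)])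
    have h2 : z * ofAlgInt M b ∈ P := by rw [h1]; rw [← heq] at ha; exact ha
    exact (hP.mem_or_mem h2).resolve_right fun h => hb (heq ▸ h)
  obtain ⟨m, hm⟩ := hmem
  exact ⟨m + 1, Nat.succ_pos m, by
    rw [pow_succ]; exact (Ideal.mem_span_singleton.1 hm).mul_right _⟩

/-- High powers of a local integer approach `0` or `1`. -/
theorem exists_pow_approx (hM : IsPModular p M) (z : localRing M) :
    ∃ ε : ℕ, ε ≤ 1 ∧ ∃ n₀, 0 < n₀ ∧ ∀ k, ∃ j₀, ∀ n, 0 < n → n₀ * p ^ j₀ ∣ n →
      (p : localRing M) ^ k ∣ z ^ n - (ε : localRing M) := by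
  haveI : Fact p.Prime := ⟨hM.1⟩
  haveI := charP_resF (M := M) hM
  by_cases hz : red M z = 0
  · obtain ⟨m, hm, hdvd⟩ := exists_dvd_pow_of_red_eq_zero hM hz
    refine ⟨0, zero_le_one, 1, one_pos, fun k => ⟨m * k, fun n hn hn' => ?_⟩⟩
    rw [Nat.cast_zero, sub_zero]
    rw [one_mul] at hn'
    have h1 : m * k ≤ n := (Nat.lt_pow_self hM.1.one_lt).le.trans (Nat.le_of_dvd hn hn')
    refine dvd_trans (pow_dvd_pow_of_dvd hdvd k) ?_
    rw [← pow_mul]
    exact pow_dvd_pow _ h1
  · have hordA : ∀ a : AlgInt, a ∉ M → ∃ n, 0 < n ∧ (red M (ofAlgInt M a)) ^ n = 1 := by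
      intro a ha
      obtain ⟨n, hn, hmem⟩ := exists_pow_sub_one_mem hM ha
      refine ⟨n, Nat.pos_of_ne_zero fun h => hn (h ▸ dvd_zero p), ?_⟩
      rw [← map_pow, ← map_pow, ← sub_eq_zero, ← map_one (red M), ← map_sub,
        ← map_one (ofAlgInt M), ← map_sub, red_eq_zero_iff, ofAlgInt_coe, memLocalIdeal_algInt_iff]
      exact hmem
    obtain ⟨a, b, hb, hab⟩ := z.2
    have h1 : z * ofAlgInt M b = ofAlgInt M a := Subtype.ext (by
      rw [Subring.coe_mul, ofAlgInt_coe, ofAlgInt_coe, ← hab,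
        div_mul_cancel₀ _ (algInt_coe_ne_zero hb)])
    have ha : a ∉ M := fun ha => hz (red_eq_zero_iff.2 ⟨a, b, ha, hb, hab⟩)
    obtain ⟨na, hna, hna'⟩ := hordA a ha
    obtain ⟨nb, hnb, hnb'⟩ := hordA b hb
    have hz1 : red M (z ^ (na * nb) - 1) = 0 := by
      have h2 := congrArg (fun w => red M w ^ (na * nb)) h1
      simp only [map_mul, mul_pow] at h2
      rw [mul_comm na nb, pow_mul (red M (ofAlgInt M b)), hnb', one_pow, mul_one, mul_comm nb na,
        pow_mul (red M (ofAlgInt M a)), hna', one_pow] at h2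
      rw [map_sub, map_pow, h2, map_one, sub_self]
    obtain ⟨s, hs, hsdvd⟩ := exists_dvd_pow_of_red_eq_zero hM hz1
    set u := z ^ (na * nb) with hu
    have h3 : (p : localRing M) ∣ u ^ p ^ s - 1 := by
      obtain ⟨r, hr⟩ : ∃ r, u ^ p ^ s = (u - 1) ^ p ^ s + 1 ^ p ^ s + (p : localRing M) * r := by
        obtain ⟨r, hr⟩ := exists_add_pow_prime_pow_eq hM.1 (u - 1) 1 s
        exact ⟨(u - 1) * 1 * r, by rw [sub_add_cancel] at hr; rw [hr]; ring⟩
      rw [hr, one_pow, show (u - 1) ^ p ^ s + 1 + (p : localRing M) * r - 1 =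
        (u - 1) ^ p ^ s + (p : localRing M) * r by ring]
      exact dvd_add (hsdvd.trans (pow_dvd_pow _ (Nat.lt_pow_self hM.1.one_lt).le))
        (dvd_mul_right _ _)
    refine ⟨1, le_rfl, na * nb, Nat.mul_pos hna hnb, fun k => ⟨s + k, fun n hn hn' => ?_⟩⟩
    obtain ⟨t, rfl⟩ := hn'
    rw [Nat.cast_one, pow_mul, pow_mul, ← hu, pow_add, pow_mul]
    have h4 := dvd_sub_pow_of_dvd_sub h3 k
    rw [one_pow] at h4
    refine ((pow_dvd_pow _ k.le_succ).trans h4).trans ?_
    simpa using sub_dvd_pow_sub_pow ((u ^ p ^ s) ^ p ^ k) 1 t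

/-- Local integers divisible by every power of `p` vanish. -/
theorem eq_zero_of_forall_div (hM : IsPModular p M) {z : ℂ}
    (h : ∀ k : ℕ, MemLocalRing M (z / (p : ℂ) ^ k)) : z = 0 := by
  obtain ⟨a, b, hb, hab⟩ := h 0
  rw [pow_zero, div_one] at hab
  by_contra hz
  have hb0 := algInt_coe_ne_zero hb
  have ha0 : a ≠ 0 := fun h0 => hz (by rw [← hab, h0]; simp)
  have haint : IsIntegral ℤ a := IsIntegralClosure.isIntegral ℤ ℂ a
  set P := minpoly ℤ a with hP
  have hc : P.coeff 0 ≠ 0 := by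
    intro h0
    have h1 : P = Polynomial.X * P.divX := by
      conv_lhs => rw [← Polynomial.X_mul_divX_add P, h0, map_zero, add_zero]
    rcases (minpoly.irreducible haint).isUnit_or_isUnit h1 with hu | hu
    · exact Polynomial.not_isUnit_X hu
    · have h2 : Polynomial.aeval a P = 0 := minpoly.aeval ℤ a
      rw [h1, map_mul, Polynomial.aeval_X] at h2
      exact ha0 ((mul_eq_zero.1 h2).resolve_right (hu.map (Polynomial.aeval a)).ne_zero)
  have hPa : Polynomial.aeval a P = 0 := minpoly.aeval ℤ a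
  rw [← Polynomial.X_mul_divX_add P, map_add, map_mul, Polynomial.aeval_X,
    Polynomial.aeval_C] at hPa
  set w := Polynomial.aeval a P.divX
  set c := P.coeff 0 with hcdef
  have hcw : ((c : ℤ) : ℂ) = -((a : ℂ) * (w : ℂ)) := by
    have := congrArg (fun x : AlgInt => (x : ℂ)) hPa
    simp at this
    linear_combination this
  set k := c.natAbs.factorization p + 1
  have h1 : MemLocalRing M ((c : ℂ) / (p : ℂ) ^ k) := by
    have : (c : ℂ) / (p : ℂ) ^ k = -((z / (p : ℂ) ^ k) * ((b : ℂ) * (w : ℂ))) := by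
      rw [hcw, ← hab]; field_simp
    rw [this]
    exact (localRing M).neg_mem ((localRing M).mul_mem (h k) ((localRing M).mul_mem
      (memLocalRing_of_isIntegral b.2) (memLocalRing_of_isIntegral w.2)))
  have h2 : MemLocalRing M (((c.natAbs : ℕ) : ℂ) / ((p ^ k : ℕ) : ℂ)) := by
    push_cast
    rcases Int.natAbs_eq c with he | he
    · rwa [he, Int.cast_natCast] at h1
    · rw [he, Int.cast_neg, Int.cast_natCast, neg_div] at h1
      simpa using (localRing M).neg_mem h1
  rw [memLocalRing_natCast_div_iff hM (Int.natAbs_ne_zero.2 hc)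
    (pow_ne_zero _ hM.1.ne_zero), hM.1.factorization_pow, Finsupp.single_eq_same] at h2
  omega

/-- Traces of powers as sums of powers of eigenvalues. -/
theorem exists_eigen_powerSums {V : Type*} [AddCommGroup V] [Module ℂ V] [FiniteDimensional ℂ V]
    (A : Module.End ℂ V) :
    ∃ (s : Finset ℂ) (d : ℂ → ℕ), (∀ μ ∈ s, A.HasEigenvalue μ) ∧
      ∑ μ ∈ s, d μ ≤ Module.finrank ℂ V ∧
      ∀ n : ℕ, LinearMap.trace ℂ V (A ^ n) = ∑ μ ∈ s, (d μ : ℂ) * μ ^ n := by
  classical
  have hint : DirectSum.IsInternal fun μ : ℂ => A.maxGenEigenspace μ :=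
    DirectSum.isInternal_submodule_of_iSupIndep_of_iSup_eq_top A.independent_maxGenEigenspace
      (Module.End.iSup_maxGenEigenspace_eq_top A)
  have hfin : {μ : ℂ | A.maxGenEigenspace μ ≠ ⊥}.Finite :=
    WellFoundedGT.finite_ne_bot_of_iSupIndep A.independent_maxGenEigenspace
  have hev : ∀ μ ∈ hfin.toFinset, A.HasEigenvalue μ := by
    intro μ hμ
    exact (Module.End.hasUnifEigenvalue_iff_hasUnifEigenvalue_one (k := ⊤) (by simp)).1
      (hfin.mem_toFinset.1 hμ)
  refine ⟨hfin.toFinset, fun μ => Module.finrank ℂ (A.maxGenEigenspace μ), hev, ?_, fun n => ?_⟩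
  · have h1 := LinearMap.trace_eq_sum_trace_restrict' hint hfin (f := (1 : Module.End ℂ V))
      (fun μ x hx => hx)
    rw [LinearMap.trace_one] at h1
    have h2 : ∀ μ : ℂ, LinearMap.trace ℂ _ ((1 : Module.End ℂ V).restrict
        (fun x (hx : x ∈ A.maxGenEigenspace μ) => hx)) =
        (Module.finrank ℂ (A.maxGenEigenspace μ) : ℂ) := fun μ => by
      rw [← LinearMap.trace_one (R := ℂ) (M := A.maxGenEigenspace μ)]
      rfl
    simp only [h2] at h1
    rw [← Nat.cast_sum] at h1
    exact le_of_eq (Nat.cast_injective h1.symm)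
  · have hmap : ∀ (μ : ℂ), Set.MapsTo A (A.maxGenEigenspace μ) (A.maxGenEigenspace μ) :=
      fun μ => A.mapsTo_maxGenEigenspace_of_comm (Commute.refl A) μ
    have hmapn : ∀ (μ : ℂ), Set.MapsTo (A ^ n) (A.maxGenEigenspace μ) (A.maxGenEigenspace μ) :=
      fun μ => A.mapsTo_maxGenEigenspace_of_comm ((Commute.refl A).pow_right n) μ
    rw [LinearMap.trace_eq_sum_trace_restrict' hint hfin hmapn]
    refine Finset.sum_congr rfl fun μ _ => ?_
    set W := A.maxGenEigenspace μ
    set Aμ : Module.End ℂ W := A.restrict (hmap μ)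
    have hpow : (A ^ n).restrict (hmapn μ) = Aμ ^ n := (Module.End.pow_restrict n (hmap μ)).symm
    have hnil : IsNilpotent (Aμ - algebraMap ℂ (Module.End ℂ W) μ) := by
      refine Eq.subst ?_ (A.isNilpotent_restrict_maxGenEigenspace_sub_algebraMap μ)
      ext x
      rfl
    have hnil2 : IsNilpotent (Aμ ^ n - algebraMap ℂ (Module.End ℂ W) (μ ^ n)) := by
      have hc : Commute Aμ (algebraMap ℂ (Module.End ℂ W) μ) :=
        (Algebra.commutes μ Aμ).symm
      rw [map_pow, ← hc.geom_sum₂_mul n]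
      exact Commute.isNilpotent_mul_left ((Commute.sum_left _ _ _ fun i _ =>
        ((Commute.refl Aμ).sub_right hc |>.pow_left i).mul_left
          ((hc.symm.sub_right (Commute.refl _)).pow_left _))) hnil
    rw [hpow]
    have h3 : LinearMap.trace ℂ W (Aμ ^ n - algebraMap ℂ (Module.End ℂ W) (μ ^ n)) = 0 :=
      (LinearMap.isNilpotent_trace_of_isNilpotent hnil2).eq_zero
    rw [map_sub, sub_eq_zero, Algebra.algebraMap_eq_smul_one, map_smul, LinearMap.trace_one,
      smul_eq_mul] at h3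
    rw [h3, mul_comm]

variable {G : Type u} [Group G] [Fintype G]

/-- A character evaluated at an element of the local group ring. -/
noncomputable def evalC (χ : G → ℂ) (x : MonoidAlgebra (localRing M) G) : ℂ :=
  ∑ g, (x.coeff g : ℂ) * χ g

/-- `r` is the unit rank of `x` at `χ`. -/
def IsUnitRank (p : ℕ) (χ : G → ℂ) (x : MonoidAlgebra (localRing M) G) (r : ℕ) : Prop :=
  ∃ n₀, 0 < n₀ ∧ ∀ k, ∃ j₀, ∀ n, 0 < n → n₀ * p ^ j₀ ∣ n →
    MemLocalRing M ((evalC χ (x ^ n) - r) / (p : ℂ) ^ k)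

theorem memLocalRing_div_of_dvd (hM : IsPModular p M) {z : localRing M} {k : ℕ}
    (h : (p : localRing M) ^ k ∣ z) : MemLocalRing M ((z : ℂ) / (p : ℂ) ^ k) := by
  obtain ⟨w, rfl⟩ := h
  rw [show (((p : localRing M) ^ k * w : localRing M) : ℂ) = (p : ℂ) ^ k * (w : ℂ) by simp,
    mul_div_cancel_left₀ _ (pow_ne_zero _ (Nat.cast_ne_zero.2 hM.1.ne_zero))]
  exact w.2

/-- The unit rank exists and is at most the degree. -/
theorem exists_isUnitRank (hM : IsPModular p M) (χ : IrrCharacter G)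
    (x : MonoidAlgebra (localRing M) G) :
    ∃ r : ℕ, (r : ℝ) ≤ ((χ : G → ℂ) 1).re ∧ IsUnitRank p (χ : G → ℂ) x r := by
  classical
  obtain ⟨m, ρ, hρ, hχ⟩ := χ.2
  set ψ : MonoidAlgebra (localRing M) G →ₐ[localRing M] Module.End ℂ (Fin m → ℂ) :=
    MonoidAlgebra.lift (localRing M) (Module.End ℂ (Fin m → ℂ)) G ρ with hψ
  have heval : ∀ y, evalC (χ : G → ℂ) y = LinearMap.trace ℂ _ (ψ y) := by
    intro y
    conv_rhs => rw [← Brauer.sum_single_coeff y]
    rw [map_sum, map_sum, evalC]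
    refine Finset.sum_congr rfl fun g _ => ?_
    rw [hψ, MonoidAlgebra.lift_single, ← algebraMap_smul ℂ (y.coeff g) (ρ g), map_smul, smul_eq_mul,
      show (χ : G → ℂ) g = LinearMap.trace ℂ _ (ρ g) from (congrFun hχ g).symm]
    rfl
  haveI : Module.Finite (localRing M) (MonoidAlgebra (localRing M) G) :=
    Module.finite_def.2 (by
      refine ⟨Finset.univ.image fun g : G => single g (1 : localRing M), ?_⟩
      rw [eq_top_iff]
      intro y _
      rw [← Brauer.sum_single_coeff y]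
      refine Submodule.sum_mem _ fun g _ => ?_
      rw [← mul_one (y.coeff g), ← smul_eq_mul, ← MonoidAlgebra.smul_single]
      exact Submodule.smul_mem _ _ (Submodule.subset_span (by simp)))
  have hint : IsIntegral (localRing M) x := IsIntegral.of_finite _ x
  obtain ⟨s, d, hev, hd, htr⟩ := exists_eigen_powerSums (ψ x)
  have hmem : ∀ μ ∈ s, MemLocalRing M μ := by
    intro μ hμ
    obtain ⟨P, hP, hPx⟩ := hint.map ψ
    obtain ⟨v, hv⟩ := (hev μ hμ).exists_hasEigenvector
    refine memLocalRing_of_isIntegral_localRing ⟨P, hP, ?_⟩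
    have h1 := Module.End.aeval_apply_of_hasEigenvector (p := P.map (algebraMap (localRing M) ℂ)) hv
    rw [Polynomial.aeval_map_algebraMap, Polynomial.aeval_def, hPx, LinearMap.zero_apply,
      Polynomial.eval_map] at h1
    exact (smul_eq_zero.1 h1.symm).resolve_right hv.2
  choose ε hε n₀ hn₀ happ using fun μ : s => exists_pow_approx hM ⟨μ.1, hmem μ.1 μ.2⟩
  refine ⟨∑ μ : s, d μ.1 * ε μ, ?_, ∏ μ : s, n₀ μ, Finset.prod_pos fun μ _ => hn₀ μ, fun k => ?_⟩
  · have h1 : ∑ μ : s, d μ.1 * ε μ ≤ Module.finrank ℂ (Fin m → ℂ) := by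
      refine le_trans (Finset.sum_le_sum fun μ _ => Nat.mul_le_mul_left _ (hε μ)) ?_
      simp only [mul_one]
      rw [Finset.sum_coe_sort s d]
      exact hd
    have h2 : (χ : G → ℂ) 1 = (Module.finrank ℂ (Fin m → ℂ) : ℂ) := by
      rw [← hχ, ρ.char_one]
    rw [h2, Complex.natCast_re]
    exact_mod_cast h1
  choose j₀ hj₀ using fun μ => happ μ k
  refine ⟨Finset.univ.sup j₀, fun n hn hdvd => ?_⟩
  rw [heval, map_pow, htr]
  have h1 : ∑ μ ∈ s, (d μ : ℂ) * μ ^ n - ((∑ μ : s, d μ.1 * ε μ : ℕ) : ℂ) =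
      ∑ μ : s, (d μ.1 : ℂ) * (μ.1 ^ n - (ε μ : ℂ)) := by
    rw [Nat.cast_sum, ← Finset.sum_coe_sort s (fun μ => (d μ : ℂ) * μ ^ n), ← Finset.sum_sub_distrib]
    exact Finset.sum_congr rfl fun μ _ => by push_cast; ring
  rw [h1, Finset.sum_div]
  refine (localRing M).sum_mem fun μ _ => ?_
  rw [mul_div_assoc]
  refine (localRing M).mul_mem (memLocalRing_natCast _) ?_
  have h2 := memLocalRing_div_of_dvd hM (hj₀ μ n hn (dvd_trans (Nat.mul_dvd_mul
    (Finset.dvd_prod_of_mem _ (Finset.mem_univ μ))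
    (pow_dvd_pow p (Finset.le_sup (Finset.mem_univ μ)))) hdvd))
  simpa using h2

/-- A constant trace of powers is the unit rank. -/
theorem IsUnitRank.eq_of_const (hM : IsPModular p M) {χ : G → ℂ}
    {x : MonoidAlgebra (localRing M) G} {r : ℕ} (hr : IsUnitRank p χ x r) {z : ℂ}
    (hz : ∀ n, 0 < n → evalC χ (x ^ n) = z) : (r : ℂ) = z := by
  obtain ⟨n₀, hn₀, h⟩ := hr
  refine (sub_eq_zero.1 (eq_zero_of_forall_div hM fun k => ?_)).symm
  obtain ⟨j₀, hj⟩ := h k
  have := hj (n₀ * p ^ j₀) (Nat.mul_pos hn₀ (pow_pos hM.1.pos _)) dvd_rfl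
  rwa [hz _ (Nat.mul_pos hn₀ (pow_pos hM.1.pos _))] at this

/-- The unit rank is linear in the restriction to the `p`-regular elements. -/
theorem sum_unitRank_eq_zero (hM : IsPModular p M) {ι : Type*} [Fintype ι] {c : ι → ℂ}
    {φ : ι → G → ℂ} (hc : ∀ i, MemLocalRing M (c i)) (hφ : ∀ i g, MemLocalRing M (φ i g))
    (hcl : ∀ i g h, φ i (h * g * h⁻¹) = φ i g)
    (hreg : ∀ g : G, ¬ p ∣ orderOf g → ∑ i, c i * φ i g = 0) {x : MonoidAlgebra (localRing M) G}
    {r : ι → ℕ} (hr : ∀ i, IsUnitRank p (φ i) x (r i)) : ∑ i, c i * (r i : ℂ) = 0 := by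
  classical
  haveI : Fact p.Prime := ⟨hM.1⟩
  choose n₀ hn₀ h using hr
  refine eq_zero_of_forall_div hM fun k => ?_
  choose j₀ hj₀ using fun i => h i k
  set e := (Nat.card G).factorization p
  set J := Finset.univ.sup j₀ + k + e
  set N := ∏ i, n₀ i
  have hN : 0 < N := Finset.prod_pos fun i _ => hn₀ i
  set n := N * p ^ J with hn
  set F : G → localRing M := fun g => ∑ i, ⟨c i, hc i⟩ * ⟨φ i g, hφ i g⟩
  have hFv : ∀ g, ((F g : localRing M) : ℂ) = ∑ i, c i * φ i g := fun g => by
    simp only [F, AddSubmonoidClass.coe_finsetSum, Subring.coe_mul]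
  have h1 := pow_dvd_sum_coeff_pow_mul (p := p) F
    (fun g l => Subtype.ext (by rw [hFv, hFv]; simp only [hcl]))
    (fun g hg => Subtype.ext (by rw [hFv, hreg g hg]; rfl)) e le_rfl (x ^ N) J
  have h2 : MemLocalRing M ((∑ i, c i * evalC (φ i) (x ^ n)) / (p : ℂ) ^ k) := by
    have h3 := memLocalRing_div_of_dvd hM ((pow_dvd_pow _ (show k ≤ J - e by omega)).trans h1)
    rw [← pow_mul, ← hn] at h3
    simp only [AddSubmonoidClass.coe_finsetSum, Subring.coe_mul, hFv] at h3
    refine Eq.subst ?_ h3 (motive := fun t => MemLocalRing M t)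
    congr 1
    simp only [evalC, Finset.mul_sum]
    rw [Finset.sum_comm]
    exact Finset.sum_congr rfl fun i _ => Finset.sum_congr rfl fun g _ => by ring
  have h4 : ∀ i, MemLocalRing M ((evalC (φ i) (x ^ n) - r i) / (p : ℂ) ^ k) := fun i =>
    hj₀ i n (Nat.mul_pos hN (pow_pos hM.1.pos _)) (Nat.mul_dvd_mul
      (Finset.dvd_prod_of_mem _ (Finset.mem_univ i))
      (pow_dvd_pow p (by have := Finset.le_sup (f := j₀) (Finset.mem_univ i); omega)))
  have h5 : (∑ i, c i * (r i : ℂ)) / (p : ℂ) ^ k = (∑ i, c i * evalC (φ i) (x ^ n)) / (p : ℂ) ^ k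
      - ∑ i, c i * ((evalC (φ i) (x ^ n) - r i) / (p : ℂ) ^ k) := by
    simp only [mul_div_assoc', ← Finset.sum_div, mul_sub, Finset.sum_sub_distrib]
    ring
  rw [h5]
  exact (localRing M).sub_mem h2 ((localRing M).sum_mem fun i _ => (localRing M).mul_mem (hc i) (h4 i))

end Cfsg.Agent.BlockCover
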