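import Cfsg.Agent.BlockCover.UnitRank
import Cfsg.Agent.BlockCover.Quotient
import Cfsg.Agent.Brauer.Projective
import Cfsg.Agent.Coprime.Conj
import Cfsg.Agent.CharExt.Gallagher
import Cfsg.Agent.Block.CentralChar

/-!
# Integrality of an idempotent vanishing on the singular elements, from a `p`-quotient

If the idempotent of a set `U` of characters vanishes on the `p`-singular elements and its image
modulo a normal `p`-subgroup is locally integral, then it is locally integral.
-/

set_option linter.style.haveILetI false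
set_option linter.unusedSectionVars false

namespace Cfsg.Agent.BlockCover

open Cfsg MonoidAlgebra
open Cfsg.Agent.Block
open scoped ComplexConjugate

universe u

variable {G : Type u} [Group G] [Fintype G] {p : ℕ} {M : Ideal AlgInt}

/-- The idempotent coefficients of `U` vanish on the `p`-singular elements. -/
def VanishSing (p : ℕ) (U : Set (IrrCharacter G)) : Prop :=
  ∀ x : G, p ∣ orderOf x → blockCoeff U x = 0

open scoped Classical in
theorem sum_blockCoeff_mul (U : Set (IrrCharacter G)) (χ : IrrCharacter G) (h : G) :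
    ∑ g, blockCoeff U g * (χ : G → ℂ) (g * h) = if χ ∈ U then (χ : G → ℂ) h else 0 := by
  have h1 : ∀ g, blockCoeff U g * (χ : G → ℂ) (g * h) = (Nat.card G : ℂ)⁻¹ *
      ∑ ψ : IrrCharacter G with ψ ∈ U,
        (ψ : G → ℂ) 1 * ((χ : G → ℂ) (g * h) * (ψ : G → ℂ) g⁻¹) := fun g => by
    rw [blockCoeff_eq_sum, mul_assoc, Finset.sum_mul]
    refine congrArg _ (Finset.sum_congr rfl fun ψ _ => ?_)
    rw [Char.irr_inv ψ.2]
    ring
  simp only [h1, ← Finset.mul_sum]
  rw [Finset.sum_comm]
  simp only [← Finset.mul_sum, Brauer.irr_sum_mul, mul_ite, mul_zero, Finset.sum_ite_eq,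
    Finset.mem_filter, Finset.mem_univ, true_and]
  split_ifs
  · have h0 := Char.irr_one_ne_zero χ.2
    have hG : (Nat.card G : ℂ) ≠ 0 := Nat.cast_ne_zero.2 Nat.card_pos.ne'
    field_simp
  · simp

theorem sum_blockCoeff (U : Set (IrrCharacter G)) [DecidablePred (· ∈ U)] (χ : IrrCharacter G) :
    ∑ g, blockCoeff U g * (χ : G → ℂ) g = if χ ∈ U then (χ : G → ℂ) 1 else 0 := by
  classical
  have := sum_blockCoeff_mul U χ 1
  simp only [mul_one] at this
  rw [this]
  congr

/-- Inflation from a quotient. -/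
def inflIrr (N : Subgroup G) [N.Normal] (β : IrrCharacter (G ⧸ N)) : IrrCharacter G :=
  ⟨(β : G ⧸ N → ℂ) ∘ QuotientGroup.mk' N,
    Char.isIrrCharacter_comp β.2 _ (QuotientGroup.mk'_surjective N)⟩

theorem inflIrr_injective (N : Subgroup G) [N.Normal] : Function.Injective (inflIrr N) := by
  intro a b h
  refine Subtype.ext (funext fun q => ?_)
  obtain ⟨g, rfl⟩ := QuotientGroup.mk'_surjective N q
  exact congrArg (fun χ : IrrCharacter G => (χ : G → ℂ) g) h

/-- Two `p`-regular elements congruent modulo a normal `p`-subgroup are conjugate. -/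
theorem isConj_of_regular_congr [Fact p.Prime] (Q : Subgroup G) [Q.Normal] (hQ : IsPGroup p Q)
    {g g' : G} (hg : ¬ p ∣ orderOf g) (hg' : ¬ p ∣ orderOf g') (h : (g : G ⧸ Q) = g') :
    IsConj g g' := by
  have hp := (Fact.out : p.Prime)
  obtain ⟨k, hk⟩ := IsPGroup.iff_card.1 hQ
  have hcop : ∀ x : G, ¬ p ∣ orderOf x →
      (Nat.card (Subgroup.zpowers x)).Coprime (Nat.card Q) := fun x hx => by
    rw [Nat.card_zpowers, hk]
    exact ((hp.coprime_iff_not_dvd.2 hx).symm).pow_right k
  have hu : g⁻¹ * g' ∈ Q := QuotientGroup.eq.1 h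
  have hsup : Subgroup.zpowers g' ⊔ Q = Subgroup.zpowers g ⊔ Q := by
    refine le_antisymm (sup_le ?_ le_sup_right) (sup_le ?_ le_sup_right)
    · rw [Subgroup.zpowers_le]
      have := Subgroup.mul_mem_sup (Subgroup.mem_zpowers g) hu
      rwa [mul_inv_cancel_left] at this
    · rw [Subgroup.zpowers_le]
      have := Subgroup.mul_mem_sup (Subgroup.mem_zpowers g') (Q.inv_mem hu)
      rwa [mul_inv_rev, inv_inv, mul_inv_cancel_left] at this
  obtain ⟨c, hc, hB⟩ := Coprime.complement_conj (A := Subgroup.zpowers g)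
    (B := Subgroup.zpowers g') (K := Q)
    (by rw [Subgroup.normalizer_eq_top]; exact le_top) (hcop g hg) (hcop g' hg') hsup
    (Or.inl (Group.isSolvable_of_comm fun a b => by
      obtain ⟨_, i, rfl⟩ := a
      obtain ⟨_, j, rfl⟩ := b
      exact Subtype.ext ((Commute.refl g).zpow_zpow i j)))
  have hmem : c * g * c⁻¹ ∈ Subgroup.zpowers g' := by
    rw [hB, Coprime.mem_conj_smul]
    simp [mul_assoc]
  have hQ' : (c * g * c⁻¹)⁻¹ * g' ∈ Q := by
    rw [← QuotientGroup.eq, QuotientGroup.mk_mul, QuotientGroup.mk_mul, QuotientGroup.mk_inv,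
      (QuotientGroup.eq_one_iff c).2 hc, inv_one, mul_one, one_mul, h]
  have hbot : (c * g * c⁻¹)⁻¹ * g' ∈ Subgroup.zpowers g' ⊓ Q :=
    Subgroup.mem_inf.2 ⟨mul_mem (inv_mem hmem) (Subgroup.mem_zpowers g'), hQ'⟩
  rw [Subgroup.inf_eq_bot_of_coprime (hcop g' hg'), Subgroup.mem_bot, inv_mul_eq_one] at hbot
  exact isConj_iff.2 ⟨c, hbot⟩

section Quot

variable (N : Subgroup G) [N.Normal] [Fintype (G ⧸ N)]

theorem card_eq_mul_card_quot : (Nat.card G : ℂ) = (Nat.card N : ℂ) * Nat.card (G ⧸ N) := by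
  rw [← Nat.cast_mul, ← Subgroup.index_eq_card, Subgroup.card_mul_index]

/-- The idempotent of the inflated members of `U` is the image of that of `U`. -/
theorem blockCoeff_quot [Fintype N] (U : Set (IrrCharacter G)) (g : G) :
    blockCoeff {β : IrrCharacter (G ⧸ N) | inflIrr N β ∈ U} (g : G ⧸ N) =
      ∑ n : N, blockCoeff U ((n : G) * g) := by
  classical
  simp only [blockCoeff_eq_sum]
  rw [← Finset.mul_sum, Finset.sum_comm]
  simp only [← Finset.mul_sum]
  have key : ∀ χ : IrrCharacter G, ∑ n : N, conj ((χ : G → ℂ) ((n : G) * g)) =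
      if ∃ β, inflIrr N β = χ then (Nat.card N : ℂ) * conj ((χ : G → ℂ) g) else 0 := by
    intro χ
    have h1 : ∑ n : N, (χ : G → ℂ) ((n : G) * g) =
        (Nat.card N : ℂ) * CharExt.avgN N (χ : G → ℂ) g := by
      rw [CharExt.avgN, mul_inv_cancel_left₀ (Nat.cast_ne_zero.2 Nat.card_pos.ne')]
    rw [← map_sum, h1]
    split_ifs with hex
    · obtain ⟨β, rfl⟩ := hex
      rw [CharExt.avgN_of_inv N _ (fun n x => by
        simp only [inflIrr, Function.comp_apply, map_mul,
          show QuotientGroup.mk' N (n : G) = 1 from (QuotientGroup.eq_one_iff _).2 n.2, one_mul]),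
        map_mul, Complex.conj_natCast]
    · have h2 := congrFun (CharExt.avgN_irr N χ.2) g
      rw [h2, Pi.smul_apply, smul_eq_mul]
      suffices CharExt.avgN N (χ : G → ℂ) 1 = 0 by rw [this]; simp
      by_contra hne
      refine hex ?_
      have hinv := CharExt.inv_of_constituent N χ.2 (by
        rw [CharExt.indFun_one_classInner N (Char.irr_isClassFunction χ.2)]
        simpa using hne)
      obtain ⟨β, hβ, hχβ⟩ := Char.irr_exists_descend χ.2 N fun n hn => by
        have := hinv ⟨n, hn⟩ 1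
        rwa [mul_one] at this
      exact ⟨⟨β, hβ⟩, Subtype.ext (funext fun x => (hχβ x).symm)⟩
  simp only [key, mul_ite, mul_zero]
  rw [← Finset.sum_filter, Finset.filter_filter]
  have himg : (Finset.univ.filter fun χ : IrrCharacter G => χ ∈ U ∧ ∃ β, inflIrr N β = χ) =
      (Finset.univ.filter fun β : IrrCharacter (G ⧸ N) =>
        β ∈ {β : IrrCharacter (G ⧸ N) | inflIrr N β ∈ U}).image (inflIrr N) := by
    ext χ
    simp only [Finset.mem_filter, Finset.mem_univ, true_and, Finset.mem_image, Set.mem_setOf_eq]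
    exact ⟨fun ⟨h, β, e⟩ => ⟨β, e ▸ h, e⟩, fun ⟨β, h, e⟩ => ⟨e ▸ h, β, e⟩⟩
  rw [himg, Finset.sum_image fun a _ b _ h => inflIrr_injective N h, card_eq_mul_card_quot N,
    mul_inv, Finset.mul_sum, Finset.mul_sum]
  refine Finset.sum_congr rfl fun β _ => ?_
  have hN0 : (Nat.card N : ℂ) ≠ 0 := Nat.cast_ne_zero.2 Nat.card_pos.ne'
  simp only [inflIrr, Function.comp_apply, map_one, QuotientGroup.mk'_apply]
  field_simp

theorem VanishSing.quot [Fintype N] {U : Set (IrrCharacter G)} (hU : VanishSing p U) :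
    VanishSing p {β : IrrCharacter (G ⧸ N) | inflIrr N β ∈ U} := by
  intro q hq
  obtain ⟨g, rfl⟩ := QuotientGroup.mk_surjective q
  rw [blockCoeff_quot]
  refine Finset.sum_eq_zero fun n _ => hU _ (hq.trans ?_)
  have := orderOf_map_dvd (QuotientGroup.mk' N) ((n : G) * g)
  rwa [map_mul, show QuotientGroup.mk' N (n : G) = 1 from (QuotientGroup.eq_one_iff _).2 n.2,
    one_mul, QuotientGroup.mk'_apply] at this

end Quot

section Local

variable [M.IsPrime]

/-- A functional of the characters depending only on the restriction to the `p`-regular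
elements. -/
def IsRegLinear (p : ℕ) (M : Ideal AlgInt) (D : IrrCharacter G → ℂ) : Prop :=
  ∀ c : IrrCharacter G → ℂ, (∀ ξ, MemLocalRing M (c ξ)) →
    (∀ x : G, ¬ p ∣ orderOf x → ∑ ξ, c ξ * (ξ : G → ℂ) x = 0) → ∑ ξ, c ξ * D ξ = 0

theorem IsRegLinear.sub {D D' : IrrCharacter G → ℂ} (h : IsRegLinear p M D)
    (h' : IsRegLinear p M D') : IsRegLinear p M (fun ξ => D ξ - D' ξ) := fun c hc hr => by
  simp only [mul_sub, Finset.sum_sub_distrib, h c hc hr, h' c hc hr, sub_zero]

theorem IsRegLinear.sum {ι : Type*} (s : Finset ι) (a : ι → ℂ) {D : ι → IrrCharacter G → ℂ}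
    (h : ∀ i ∈ s, IsRegLinear p M (D i)) :
    IsRegLinear p M (fun ξ => ∑ i ∈ s, a i * D i ξ) := fun c hc hr => by
  simp only [Finset.mul_sum]
  rw [Finset.sum_comm]
  refine Finset.sum_eq_zero fun i hi => ?_
  rw [Finset.sum_congr rfl fun ξ _ => mul_left_comm (c ξ) (a i) (D i ξ), ← Finset.mul_sum,
    h i hi c hc hr, mul_zero]

theorem isRegLinear_apply {y : G} (hy : ¬ p ∣ orderOf y) :
    IsRegLinear p M (fun ξ : IrrCharacter G => (ξ : G → ℂ) y) := fun _ _ hr => hr y hy

open scoped Classical in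
theorem isRegLinear_mem {U : Set (IrrCharacter G)} (hU : VanishSing p U) :
    IsRegLinear p M (fun ξ : IrrCharacter G => if ξ ∈ U then (ξ : G → ℂ) 1 else 0) := by
  intro c _ hr
  simp only [← sum_blockCoeff U, Finset.mul_sum]
  rw [Finset.sum_comm]
  refine Finset.sum_eq_zero fun g _ => ?_
  by_cases hg : p ∣ orderOf g
  · exact Finset.sum_eq_zero fun ξ _ => by rw [hU g hg]; ring
  · rw [Finset.sum_congr rfl fun ξ _ => mul_left_comm (c ξ) (blockCoeff U g) _, ← Finset.mul_sum,
      hr g hg, mul_zero]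

theorem memLocalRing_irr (χ : IrrCharacter G) (g : G) : MemLocalRing M ((χ : G → ℂ) g) :=
  memLocalRing_of_isIntegral (Char.isCharacter_isIntegral (Char.isCharacter_of_irr χ.2) g)

variable (Q : Subgroup G) [Q.Normal] [Fintype (G ⧸ Q)]

/-- The restrictions of the inflated characters span. -/
theorem IsRegLinear.eq_zero [Fact p.Prime] (hQ : IsPGroup p Q) {D : IrrCharacter G → ℂ}
    (hD : IsRegLinear p M D) (h0 : ∀ β, D (inflIrr Q β) = 0) (χ : IrrCharacter G) : D χ = 0 := by
  classical
  let f : G ⧸ Q → ℂ := fun q =>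
    if h : ∃ g : G, (g : G ⧸ Q) = q ∧ ¬ p ∣ orderOf g then (χ : G → ℂ) h.choose else 0
  have hf : ∀ g : G, ¬ p ∣ orderOf g → f g = (χ : G → ℂ) g := by
    intro g hg
    have h : ∃ g' : G, (g' : G ⧸ Q) = g ∧ ¬ p ∣ orderOf g' := ⟨g, rfl, hg⟩
    simp only [f, dif_pos h]
    exact Char.isClassFunction_eq_of_isConj (Char.irr_isClassFunction χ.2)
      (isConj_of_regular_congr Q hQ h.choose_spec.2 hg h.choose_spec.1)
  have hfcl : IsClassFunction (G ⧸ Q) f := by
    intro a b
    obtain ⟨y, rfl⟩ := QuotientGroup.mk_surjective b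
    by_cases h : ∃ g : G, (g : G ⧸ Q) = a ∧ ¬ p ∣ orderOf g
    · obtain ⟨g, rfl, hg⟩ := h
      have hg' : ¬ p ∣ orderOf (y * g * y⁻¹) := by
        rwa [← MulAut.conj_apply, MulEquiv.orderOf_eq]
      rw [← QuotientGroup.mk_mul, ← QuotientGroup.mk_inv, ← QuotientGroup.mk_mul, hf g hg,
        hf _ hg']
      exact Char.irr_isClassFunction χ.2 g y
    · simp only [f, dif_neg h]
      rw [dif_neg]
      rintro ⟨g, hg1, hg2⟩
      refine h ⟨y⁻¹ * g * y⁻¹⁻¹, ?_, by rwa [← MulAut.conj_apply, MulEquiv.orderOf_eq]⟩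
      rw [QuotientGroup.mk_mul, QuotientGroup.mk_mul, hg1, inv_inv, QuotientGroup.mk_inv]
      group
  let c' : IrrCharacter (G ⧸ Q) → ℂ := fun β =>
    ∑ q, f q * conj ((β : G ⧸ Q → ℂ) q)
  have hfl : ∀ q, MemLocalRing M (f q) := fun q => by
    simp only [f]
    split_ifs
    · exact memLocalRing_irr χ _
    · exact (localRing M).zero_mem
  have hc' : ∀ β, MemLocalRing M (c' β) := fun β =>
    (localRing M).sum_mem fun q _ => (localRing M).mul_mem (hfl q) (by
      rw [← Char.irr_inv β.2]; exact memLocalRing_irr β _)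
  let c : IrrCharacter G → ℂ := fun ξ =>
    (if ξ = χ then (Nat.card (G ⧸ Q) : ℂ) else 0) -
      ∑ β : IrrCharacter (G ⧸ Q), if inflIrr Q β = ξ then c' β else 0
  have hsum : ∀ φ : IrrCharacter G → ℂ, ∑ ξ, c ξ * φ ξ =
      (Nat.card (G ⧸ Q) : ℂ) * φ χ - ∑ β, c' β * φ (inflIrr Q β) := by
    intro φ
    simp only [c, sub_mul, Finset.sum_sub_distrib, ite_mul, zero_mul, Finset.sum_mul]
    rw [Finset.sum_ite_eq', if_pos (Finset.mem_univ _), Finset.sum_comm]
    simp only [Finset.sum_ite_eq, Finset.mem_univ, if_true]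
  have hreg : ∀ x : G, ¬ p ∣ orderOf x → ∑ ξ, c ξ * (ξ : G → ℂ) x = 0 := by
    intro x hx
    rw [hsum fun ξ => (ξ : G → ℂ) x, sub_eq_zero, ← hf x hx,
      congrFun (Char.eq_sum_classInner_smul hfcl) (x : G ⧸ Q), Finset.sum_apply, Finset.mul_sum]
    refine Finset.sum_congr rfl fun β _ => ?_
    rw [Pi.smul_apply, smul_eq_mul, ← mul_assoc, classInner, ← mul_assoc,
      mul_inv_cancel₀ (Nat.cast_ne_zero.2 Nat.card_pos.ne'), one_mul]
    rfl
  have hcmem : ∀ ξ, MemLocalRing M (c ξ) := fun ξ => by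
    refine (localRing M).sub_mem ?_ ((localRing M).sum_mem fun β _ => ?_)
    · split_ifs
      · exact memLocalRing_natCast _
      · exact (localRing M).zero_mem
    · split_ifs
      · exact hc' β
      · exact (localRing M).zero_mem
  have h1 := hD c hcmem hreg
  rw [hsum, Finset.sum_eq_zero fun β _ => by rw [h0, mul_zero], sub_zero] at h1
  exact (mul_eq_zero.1 h1).resolve_left (Nat.cast_ne_zero.2 Nat.card_pos.ne')

theorem evalC_single (φ : G → ℂ) (g : G) (c : localRing M) :
    evalC φ (single g c) = (c : ℂ) * φ g := by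
  classical
  simp only [evalC, coeff_single, Finsupp.single_apply, apply_ite (fun x : localRing M => (x : ℂ)),
    ZeroMemClass.coe_zero, ite_mul, zero_mul, Finset.sum_ite_eq, Finset.mem_univ, if_true]

theorem evalC_sum {ι : Type*} (s : Finset ι) (φ : G → ℂ) (x : ι → MonoidAlgebra (localRing M) G) :
    evalC φ (∑ i ∈ s, x i) = ∑ i ∈ s, evalC φ (x i) := by
  simp only [evalC, coeff_sum, Finsupp.coe_finsetSum, Finset.sum_apply,
    AddSubmonoidClass.coe_finsetSum, Finset.sum_mul]
  exact Finset.sum_comm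

theorem evalC_smul (φ : G → ℂ) (c : localRing M) (x : MonoidAlgebra (localRing M) G) :
    evalC φ (c • x) = (c : ℂ) * evalC φ x := by
  simp only [evalC, coeff_smul, Finsupp.coe_smul, Pi.smul_apply, smul_eq_mul, Subring.coe_mul,
    Finset.mul_sum, mul_assoc]

theorem evalC_sub (φ : G → ℂ) (x y : MonoidAlgebra (localRing M) G) :
    evalC φ (x - y) = evalC φ x - evalC φ y := by
  simp only [evalC, coeff_sub, Finsupp.coe_sub, Pi.sub_apply, AddSubgroupClass.coe_sub, sub_mul,
    Finset.sum_sub_distrib]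

theorem evalC_quotRing (φ : G ⧸ Q → ℂ) (x : MonoidAlgebra (localRing M) G) :
    evalC φ (quotRing Q x) = evalC (φ ∘ QuotientGroup.mk' Q) x := by
  classical
  simp only [evalC, coeff_quotRing, AddSubmonoidClass.coe_finsetSum, Finset.sum_mul]
  rw [← Finset.sum_fiberwise Finset.univ (fun x : G => (x : G ⧸ Q))
    (fun g => (x.coeff g : ℂ) * (φ ∘ QuotientGroup.mk' Q) g)]
  refine Finset.sum_congr rfl fun c _ => Finset.sum_congr rfl fun g hg => ?_
  rw [Function.comp_apply, QuotientGroup.mk'_apply, (Finset.mem_filter.1 hg).2]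

open scoped Classical in
theorem evalC_idem_mul {U : Set (IrrCharacter G)} (hint : ∀ g, MemLocalRing M (blockCoeff U g))
    (χ : IrrCharacter G) (v : MonoidAlgebra (localRing M) G) :
    evalC (χ : G → ℂ) (ofFn (fun g => (⟨blockCoeff U g, hint g⟩ : localRing M)) * v) =
      (if χ ∈ U then 1 else 0) * evalC (χ : G → ℂ) v := by
  conv_lhs => rw [← Brauer.sum_single_coeff (ofFn fun g => (⟨blockCoeff U g, hint g⟩ : localRing M)),
    ← Brauer.sum_single_coeff v, Finset.sum_mul_sum]
  simp only [evalC_sum, single_mul_single, evalC_single, coeff_ofFn, Subring.coe_mul]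
  rw [Finset.sum_comm, evalC, Finset.mul_sum]
  refine Finset.sum_congr rfl fun h _ => ?_
  rw [Finset.sum_congr rfl fun g _ => show blockCoeff U g * (v.coeff h : ℂ) * (χ : G → ℂ) (g * h) =
    (v.coeff h : ℂ) * (blockCoeff U g * (χ : G → ℂ) (g * h)) by ring, ← Finset.mul_sum,
    sum_blockCoeff_mul]
  split_ifs <;> ring

open scoped Classical in
/-- The step from the quotient by a normal `p`-subgroup. -/
theorem memLocalRing_blockCoeff_of_quot (hM : IsPModular p M) (hQ : IsPGroup p Q)
    {U : Set (IrrCharacter G)} (hU : VanishSing p U)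
    (hbar : ∀ q, MemLocalRing M (blockCoeff {β : IrrCharacter (G ⧸ Q) | inflIrr Q β ∈ U} q))
    (g₀ : G) : MemLocalRing M (blockCoeff U g₀) := by
  haveI : Fact p.Prime := ⟨hM.1⟩
  have hp := hM.1
  set Ub := {β : IrrCharacter (G ⧸ Q) | inflIrr Q β ∈ U} with hUb
  set E : MonoidAlgebra (localRing M) (G ⧸ Q) := ofFn fun q => ⟨blockCoeff Ub q, hbar q⟩ with hE
  set a : MonoidAlgebra (localRing M) G := ofFn fun g =>
    if (g : G ⧸ Q).out = g then ⟨blockCoeff Ub g, hbar g⟩ else 0 with ha
  have hπa : quotRing Q a = E := by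
    apply groupAlgebra_ext
    intro c
    rw [coeff_quotRing, hE, coeff_ofFn, Finset.sum_eq_single c.out]
    · have e : ((c.out : G) : G ⧸ Q) = c := QuotientGroup.out_eq' c
      rw [ha, coeff_ofFn, if_pos (congrArg Quotient.out e)]
      exact Subtype.ext (congrArg (blockCoeff Ub) e)
    · intro x hx hne
      rw [ha, coeff_ofFn, if_neg fun h => hne ?_]
      rw [← (Finset.mem_filter.1 hx).2, h]
    · intro h
      exact absurd (by simp) h
  have hEc : ∀ v, E * v = v * E := fun v => isCentralElt_commute (fun x y => by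
    rw [hE, coeff_ofFn, coeff_ofFn]
    exact Subtype.ext (blockCoeff_conj_invariant Ub x y)) v
  -- the main identity
  have main : ∀ y : G, ¬ p ∣ orderOf y →
      IsRegLinear p M (fun ξ : IrrCharacter G => if ξ ∈ U then (ξ : G → ℂ) y else 0) := by
    intro y hy
    set m := orderOf y with hm
    have hm0 : 0 < m := orderOf_pos y
    haveI : NeZero m := ⟨hm0.ne'⟩
    obtain ⟨z, hz⟩ : ∃ z : ℂ, IsPrimitiveRoot z m := ⟨_, Complex.isPrimitiveRoot_exp m hm0.ne'⟩
    set ξ₀ : localRing M := ⟨z, memLocalRing_of_pow_eq_one hm0.ne' hz.pow_eq_one⟩ with hξ₀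
    have hξ : IsPrimitiveRoot ξ₀ m :=
      IsPrimitiveRoot.of_map_of_injective (f := (localRing M).subtype) hz Subtype.val_injective
    set minv : localRing M := ⟨(m : ℂ)⁻¹, memLocalRing_natCast_inv hM hy⟩ with hminv
    have hminv1 : minv * (m : localRing M) = 1 := Subtype.ext (by
      simp [hminv, hm0.ne'])
    set ε : Fin m → MonoidAlgebra (localRing M) G := fun l =>
      minv • ∑ i ∈ Finset.range m, single (y ^ i) (ξ₀ ^ ((l : ℕ) * i)) with hε
    set w : Fin m → localRing M := fun l => ξ₀ ^ ((m - 1) * (l : ℕ)) with hw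
    have hyε : ∀ l, single y (1 : localRing M) * ε l = w l • ε l := by
      intro l
      set f : ℕ → MonoidAlgebra (localRing M) G := fun i => single (y ^ i) (ξ₀ ^ ((l : ℕ) * i))
      have hw1 : w l * ξ₀ ^ (l : ℕ) = 1 := by
        rw [hw, ← pow_add, ← Nat.succ_mul, show (m - 1).succ = m by omega, pow_mul, hξ.pow_eq_one,
          one_pow]
      have hf : ∑ i ∈ Finset.range m, f (i + 1) = ∑ i ∈ Finset.range m, f i := by
        have h1 := Finset.sum_range_succ f m
        rw [Finset.sum_range_succ' f m] at h1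
        have h2 : f m = f 0 := by
          simp only [f, hm, pow_orderOf_eq_one, pow_zero, mul_zero]
          rw [mul_comm, pow_mul, ← hm, hξ.pow_eq_one, one_pow]
        rw [h2] at h1
        exact add_right_cancel h1
      rw [hε]
      simp only
      rw [mul_smul_comm, Finset.mul_sum, smul_comm (w l) minv]
      congr 1
      show _ = w l • ∑ i ∈ Finset.range m, f i
      rw [← hf]
      rw [Finset.smul_sum]
      refine Finset.sum_congr rfl fun i _ => ?_
      simp only [f, single_mul_single, one_mul, smul_single, smul_eq_mul, mul_add, mul_one,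
        pow_add, pow_succ' y i]
      rw [mul_comm (ξ₀ ^ ((l : ℕ) * i)), ← mul_assoc, hw1, one_mul]
    have hypow : ∀ l (i : ℕ), single (y ^ i) (1 : localRing M) * ε l = w l ^ i • ε l := by
      intro l i
      induction i with
      | zero => simp [← one_def]
      | succ i ih =>
        rw [pow_succ' y, show single (y * y ^ i) (1 : localRing M) = single y 1 * single (y ^ i) 1 by
            rw [single_mul_single, one_mul], mul_assoc, ih,
          mul_smul_comm, hyε, smul_smul, ← pow_succ]
    have hεε : ∀ l, ε l * ε l = ε l := by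
      intro l
      conv_lhs => arg 1; rw [hε]
      simp only
      rw [smul_mul_assoc, Finset.sum_mul]
      have h1 : ∀ i ∈ Finset.range m, single (y ^ i) (ξ₀ ^ ((l : ℕ) * i)) * ε l = ε l := by
        intro i _
        rw [show single (y ^ i) (ξ₀ ^ ((l : ℕ) * i)) =
          ξ₀ ^ ((l : ℕ) * i) • single (y ^ i) (1 : localRing M) by
            rw [smul_single, smul_eq_mul, mul_one], smul_mul_assoc, hypow, smul_smul, hw,
          ← pow_mul, ← pow_add, show (l : ℕ) * i + (m - 1) * l * i = m * ((l : ℕ) * i) by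
            calc (l : ℕ) * i + (m - 1) * l * i = (m - 1 + 1) * ((l : ℕ) * i) := by ring
              _ = _ := by rw [Nat.sub_add_cancel hm0], pow_mul, hξ.pow_eq_one, one_pow, one_smul]
      rw [Finset.sum_congr rfl h1, Finset.sum_const, Finset.card_range,
        ← Nat.cast_smul_eq_nsmul (localRing M), smul_smul, hminv1, one_smul]
    have hεsum : ∑ l, ε l = 1 := by
      rw [hε]
      simp only
      rw [← Finset.smul_sum, Finset.sum_comm]
      rw [Finset.sum_eq_single 0]
      · simp only [pow_zero, mul_zero, Finset.sum_const, Finset.card_univ, Fintype.card_fin,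
          ← one_def, ← Nat.cast_smul_eq_nsmul (localRing M), smul_smul, hminv1, one_smul]
      · intro i hi hi0
        have h2 : ∑ l : Fin m, single (y ^ i) (ξ₀ ^ ((l : ℕ) * i)) =
            single (y ^ i) (∑ l ∈ Finset.range m, (ξ₀ ^ i) ^ l) := by
          rw [Fin.sum_univ_eq_sum_range (fun l => single (y ^ i) (ξ₀ ^ (l * i))) m]
          apply groupAlgebra_ext
          intro x
          simp only [coeff_sum, coeff_single, Finsupp.coe_finsetSum, Finset.sum_apply,
            Finsupp.single_apply]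
          split_ifs
          · exact Finset.sum_congr rfl fun l _ => by rw [mul_comm, pow_mul]
          · exact Finset.sum_eq_zero fun _ _ => rfl
        have h3 : ∑ l ∈ Finset.range m, (ξ₀ ^ i) ^ l = 0 := by
          have hne : (ξ₀ ^ i : localRing M) ≠ 1 :=
            hξ.pow_ne_one_of_pos_of_lt hi0 (Finset.mem_range.1 hi)
          have h4 := geom_sum_mul (ξ₀ ^ i) m
          rw [show (ξ₀ ^ i) ^ m = 1 by rw [← pow_mul, mul_comm, pow_mul, hξ.pow_eq_one, one_pow],
            sub_self, mul_comm] at h4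
          exact (mul_eq_zero.1 h4).resolve_left (sub_ne_zero.2 hne)
        rw [h2, h3, single_zero]
      · intro h; exact absurd (Finset.mem_range.2 hm0) h
    have hy_eq : single y (1 : localRing M) = ∑ l, w l • ε l := by
      rw [← Finset.sum_congr rfl fun l _ => hyε l, ← Finset.mul_sum, hεsum, mul_one]
    -- the unit ranks
    choose R hR0 hR using fun (l : Fin m) (χ : IrrCharacter G) =>
      exists_isUnitRank hM χ (a * ε l)
    choose R' hR'0 hR' using fun (l : Fin m) (χ : IrrCharacter G) =>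
      exists_isUnitRank hM χ ((1 - a) * ε l)
    have hlin : ∀ (r : Fin m → IrrCharacter G → ℕ) (x : Fin m → MonoidAlgebra (localRing M) G),
        (∀ l (χ : IrrCharacter G), IsUnitRank p (χ : G → ℂ) (x l) (r l χ)) →
        ∀ l, IsRegLinear p M (fun χ => (r l χ : ℂ)) := fun r x hr l c hc hreg =>
      sum_unitRank_eq_zero hM hc memLocalRing_irr
        (fun χ g h => Char.irr_isClassFunction χ.2 g h) hreg (fun χ => hr l χ)
    have hval : ∀ (β : IrrCharacter (G ⧸ Q)) l,
        (R l (inflIrr Q β) : ℂ) =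
          (if inflIrr Q β ∈ U then 1 else 0) * evalC (inflIrr Q β : G → ℂ) (ε l) ∧
        (R' l (inflIrr Q β) : ℂ) =
          (1 - if inflIrr Q β ∈ U then 1 else 0) * evalC (inflIrr Q β : G → ℂ) (ε l) := by
      intro β l
      have hεp : ∀ n, 0 < n → quotRing Q (ε l) ^ n = quotRing Q (ε l) := fun n hn =>
        (IsIdempotentElem.pow_eq (a := quotRing Q (ε l))
          (by rw [IsIdempotentElem, ← map_mul, hεε]) hn.ne')
      have hev : evalC (inflIrr Q β : G → ℂ) (ε l) =
          evalC (β : G ⧸ Q → ℂ) (quotRing Q (ε l)) := (evalC_quotRing Q _ _).symm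
      have key : ∀ (X : MonoidAlgebra (localRing M) (G ⧸ Q)) (c : ℂ),
          (∀ v, evalC (β : G ⧸ Q → ℂ) (X * v) = c * evalC (β : G ⧸ Q → ℂ) v) →
          (∀ v, X * v = v * X) → ∀ n, 0 < n →
          evalC (β : G ⧸ Q → ℂ) ((X * quotRing Q (ε l)) ^ n) =
            c ^ n * evalC (β : G ⧸ Q → ℂ) (quotRing Q (ε l)) := by
        intro X c hX hXc n hn
        rw [(show Commute X (quotRing Q (ε l)) from hXc _).mul_pow, hεp n hn]
        generalize quotRing Q (ε l) = v
        clear hn
        induction n generalizing v with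
        | zero => simp
        | succ n ih => rw [pow_succ, mul_assoc, ih (X * v), hX, pow_succ]; ring
      have hc01 : ∀ n, 0 < n → ∀ P : Prop, ∀ [Decidable P],
          ((if P then (1 : ℂ) else 0) ^ n = if P then 1 else 0) ∧
            ((1 - if P then (1 : ℂ) else 0) ^ n = 1 - if P then 1 else 0) := by
        intro n hn P _
        split_ifs <;> simp [hn.ne']
      constructor
      · refine IsUnitRank.eq_of_const hM (hR l _) fun n hn => ?_
        show evalC ((β : G ⧸ Q → ℂ) ∘ QuotientGroup.mk' Q) _ = _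
        rw [← evalC_quotRing, map_pow, map_mul, hπa,
          key E _ (fun v => by rw [hE]; exact evalC_idem_mul hbar β v) hEc n hn,
          (hc01 n hn _).1, hev]
        rfl
      · refine IsUnitRank.eq_of_const hM (hR' l _) fun n hn => ?_
        show evalC ((β : G ⧸ Q → ℂ) ∘ QuotientGroup.mk' Q) _ = _
        rw [← evalC_quotRing, map_pow, map_mul, map_sub, map_one, hπa,
          key (1 - E) (1 - if β ∈ Ub then 1 else 0) (fun v => by
            rw [sub_mul, one_mul, evalC_sub, hE, evalC_idem_mul hbar β v]; ring)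
            (fun v => by rw [sub_mul, mul_sub, one_mul, mul_one, hEc]) n hn,
          (hc01 n hn _).2, hev]
        rfl
    have hεone : ∀ χ : IrrCharacter G, ∑ l, evalC (χ : G → ℂ) (ε l) = (χ : G → ℂ) 1 := by
      intro χ
      rw [← evalC_sum, hεsum, one_def, evalC_single, OneMemClass.coe_one, one_mul]
    have hεy : ∀ χ : IrrCharacter G,
        ∑ l, (w l : ℂ) * evalC (χ : G → ℂ) (ε l) = (χ : G → ℂ) y := by
      intro χ
      have h1 := evalC_single (χ : G → ℂ) y (1 : localRing M)
      rw [OneMemClass.coe_one, one_mul, hy_eq, evalC_sum] at h1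
      rw [← h1]
      exact Finset.sum_congr rfl fun l _ => (evalC_smul _ _ _).symm
    -- sums of the unit ranks
    have hone : ∀ χ : IrrCharacter G, ∑ l, (R l χ : ℂ) = if χ ∈ U then (χ : G → ℂ) 1 else 0 := by
      intro χ
      refine sub_eq_zero.1 (IsRegLinear.eq_zero (M := M) Q hQ (D := fun χ => ∑ l, (R l χ : ℂ) -
        if χ ∈ U then (χ : G → ℂ) 1 else 0) ?_ (fun β => ?_) χ)
      · refine IsRegLinear.sub ?_ (isRegLinear_mem hU)
        simpa using IsRegLinear.sum (p := p) (M := M) Finset.univ (fun _ => (1 : ℂ))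
          (fun l _ => hlin R _ hR l)
      · simp only [fun l => (hval β l).1, ← Finset.mul_sum, hεone]
        split_ifs <;> ring
    have hone' : ∀ χ : IrrCharacter G,
        ∑ l, (R' l χ : ℂ) = (χ : G → ℂ) 1 - if χ ∈ U then (χ : G → ℂ) 1 else 0 := by
      intro χ
      refine sub_eq_zero.1 (IsRegLinear.eq_zero (M := M) Q hQ (D := fun χ => ∑ l, (R' l χ : ℂ) -
        ((χ : G → ℂ) 1 - if χ ∈ U then (χ : G → ℂ) 1 else 0)) ?_ (fun β => ?_) χ)
      · refine IsRegLinear.sub ?_ (IsRegLinear.sub (isRegLinear_apply (by simp [hp.ne_one]))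
          (isRegLinear_mem hU))
        simpa using IsRegLinear.sum (p := p) (M := M) Finset.univ (fun _ => (1 : ℂ))
          (fun l _ => hlin R' _ hR' l)
      · simp only [fun l => (hval β l).2, ← Finset.mul_sum, hεone]
        split_ifs <;> ring
    have hall : ∀ χ : IrrCharacter G,
        ∑ l, (w l : ℂ) * (R l χ : ℂ) + ∑ l, (w l : ℂ) * (R' l χ : ℂ) = (χ : G → ℂ) y := by
      intro χ
      refine sub_eq_zero.1 (IsRegLinear.eq_zero (M := M) Q hQ (D := fun χ =>
        ∑ l, (w l : ℂ) * (R l χ : ℂ) + ∑ l, (w l : ℂ) * (R' l χ : ℂ) - (χ : G → ℂ) y)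
        ?_ (fun β => ?_) χ)
      · refine IsRegLinear.sub ?_ (isRegLinear_apply hy)
        intro c hc hreg
        simp only [mul_add, Finset.sum_add_distrib]
        rw [IsRegLinear.sum Finset.univ (fun l => (w l : ℂ)) (fun l _ => hlin R _ hR l) c hc hreg,
          IsRegLinear.sum Finset.univ (fun l => (w l : ℂ)) (fun l _ => hlin R' _ hR' l) c hc hreg,
          add_zero]
      · simp only [fun l => (hval β l).1, fun l => (hval β l).2, ← Finset.sum_add_distrib]
        rw [sub_eq_zero, ← hεy]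
        exact Finset.sum_congr rfl fun l _ => by ring
    have hS : ∀ χ : IrrCharacter G,
        ∑ l, (w l : ℂ) * (R l χ : ℂ) = if χ ∈ U then (χ : G → ℂ) y else 0 := by
      intro χ
      have h1 := hone χ
      have h1' := hone' χ
      split_ifs with hχ
      · rw [if_pos hχ, sub_self, ← Nat.cast_sum, Nat.cast_eq_zero, Finset.sum_eq_zero_iff] at h1'
        rw [← hall χ, Finset.sum_eq_zero (s := Finset.univ) (f := fun l => (w l : ℂ) * (R' l χ : ℂ))
          fun l hl => by rw [h1' l hl, Nat.cast_zero, mul_zero], add_zero]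
      · rw [if_neg hχ, ← Nat.cast_sum, Nat.cast_eq_zero, Finset.sum_eq_zero_iff] at h1
        exact Finset.sum_eq_zero fun l hl => by rw [h1 l hl, Nat.cast_zero, mul_zero]
    simp only [← hS]
    exact IsRegLinear.sum Finset.univ _ fun l _ => hlin R _ hR l
  -- conclusion
  by_cases hg₀ : p ∣ orderOf g₀
  · rw [hU g₀ hg₀]; exact (localRing M).zero_mem
  set f : G → ℂ := fun x => ∑ ξ : IrrCharacter G,
    (if ξ ∈ U then (ξ : G → ℂ) g₀⁻¹ else 0) * (ξ : G → ℂ) x with hf
  have hfcl : IsClassFunction G f := fun x h => by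
    simp only [hf, fun ξ : IrrCharacter G => Char.irr_isClassFunction ξ.2 x h]
  have hint : ∀ χ : IrrCharacter G, MemLocalRing M (classInner f (χ : G → ℂ)) := by
    intro χ
    rw [show f = ∑ ξ : IrrCharacter G, (if ξ ∈ U then (ξ : G → ℂ) g₀⁻¹ else 0) • (ξ : G → ℂ) by
      funext x; simp [hf, ite_apply], Char.classInner_sum_left]
    simp only [Char.classInner_smul_left, Char.classInner_irrCharacter, mul_ite, mul_one, mul_zero,
      Finset.sum_ite_eq', Finset.mem_univ, if_true]
    split_ifs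
    · exact memLocalRing_irr χ _
    · exact (localRing M).zero_mem
  have hvan : ∀ x : G, p ∣ orderOf x → f x = 0 := by
    intro x hx
    have h1 := main g₀⁻¹ (by rwa [orderOf_inv]) (fun ξ => (ξ : G → ℂ) x)
      (fun ξ => memLocalRing_irr ξ x) fun g hg => by
        have h2 : ¬ IsConj x g⁻¹ := fun hc => hg (by
          obtain ⟨c, hc⟩ := isConj_iff.1 hc
          rw [← orderOf_inv, ← hc, ← MulAut.conj_apply, MulEquiv.orderOf_eq]
          exact hx)
        have h3 := Char.sum_irr_mul_conj x g⁻¹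
        rw [if_neg h2] at h3
        rw [← h3]
        refine Finset.sum_congr rfl fun ξ _ => ?_
        rw [Char.irr_inv ξ.2, Complex.conj_conj]
    rw [← h1]
    exact Finset.sum_congr rfl fun ξ _ => by rw [mul_comm]
  have h1 := Brauer.memLocalRing_div_pPart_of_vanish_singular hM f hfcl hint hvan
  have hcalc : blockCoeff U g₀ = (Nat.card G : ℂ)⁻¹ * f 1 := by
    rw [blockCoeff_eq_sum, hf, Finset.sum_filter]
    refine congrArg _ (Finset.sum_congr rfl fun ξ _ => ?_)
    rw [Char.irr_inv ξ.2]
    split_ifs <;> ring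
  rw [hcalc]
  obtain ⟨n', hn', hcard⟩ : ∃ n', ¬ p ∣ n' ∧
      Nat.card G = p ^ (Nat.card G).factorization p * n' :=
    ⟨_, Nat.not_dvd_ordCompl hp Nat.card_pos.ne', (Nat.ordProj_mul_ordCompl_eq_self _ _).symm⟩
  rw [hcard, Nat.cast_mul, Nat.cast_pow, mul_inv, mul_right_comm, mul_comm _ (f 1),
    ← div_eq_mul_inv]
  rw [Nat.cast_pow, div_eq_mul_inv] at h1
  exact (localRing M).mul_mem h1 (memLocalRing_natCast_inv hM hn')

end Local

end Cfsg.Agent.BlockCover
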